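import Cfsg.Agent.Lib.J2.Minimal
import Cfsg.Agent.Lib.J2.Data

/-!
# Kernel checks for the Hall–Janko permutation certificate
-/

set_option autoImplicit false
set_option maxHeartbeats 0
set_option maxRecDepth 4000

namespace Cfsg.Lib.J2

open Ico

/-- The image of a point under a packed permutation. -/
def app (P x : ℕ) : ℕ := Nat.land (Nat.shiftRight P (Nat.mul 9 x)) 511

/-- Composition check on all points. -/
def compOK (P Q R : ℕ) : Bool := (List.range 315).all fun x => Nat.beq (app P (app Q x)) (app R x)

/-- The default triple. -/
def vzero : Vec := ⟨zero, zero, zero⟩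

/-- The `i`-th representative. -/
def lineVec (i : ℕ) : Vec := tget vzero lineTab i

/-- The `k`-th unit. -/
def unitVec (k : ℕ) : Ico := tget zero unitTab k

/-- The `g`-th generating line. -/
def genLine (g : ℕ) : ℕ := tget 0 genLineTab g

/-- The `g`-th generating permutation. -/
def genP (g : ℕ) : ℕ := tget 0 genTab g

/-- The `n`-th coset representative. -/
def tP (n : ℕ) : ℕ := tget 0 transTab n

/-- The `n`-th point. -/
def ptP (n : ℕ) : ℕ := tget 0 ptTab n

/-- The position of a point. -/
def posP (p : ℕ) : ℕ := tget 0 posTab p

/-- The `i`-th stabiliser generator. -/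
def hP (i : ℕ) : ℕ := tget 0 hGenTab i

/-- The `i`-th second representative. -/
def vP (i : ℕ) : ℕ := tget 0 vTab i

/-- The `j`-th element of the two-point stabiliser. -/
def wP (j : ℕ) : ℕ := tget 0 wTab j

/-- The second base point. -/
def base2 : ℕ := genLine 1

/-- The third base point. -/
def base3 : ℕ := genLine 2

/-- The representatives are lattice vectors of minimal norm. -/
def linesOK : Bool :=
  (List.range 315).all fun i => (lineVec i).memL && Ico.beq (qipRaw (lineVec i) (lineVec i)) four4

theorem linesOK_ok : linesOK = true := by decide +kernel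

theorem unitsOK_ok : ((List.range 120).all fun k =>
    inI (unitVec k) && Ico.beq (nrm (unitVec k)) ⟨16, 0, 0, 0, 0, 0, 0, 0⟩) = true := by
  decide +kernel

theorem lines_indexed : (lines.all fun r =>
    (List.range 315).any fun i => Vec.beq r (lineVec i)) = true := by decide +kernel

/-- The reflection of `w` in `r`, in coordinates. -/
def reflV (r w : Vec) : Vec :=
  w.add (Vec.smul (Ico.neg (Ico.divBy (qipRaw w r) 8)) r)

/-- The image table at one pair. -/
def imgOK (g j : ℕ) : Bool :=
  Nat.blt (Nat.div (tget 0 imgTab (315 * g + j)) 120) 315 &&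
    (Nat.beq (app (genP g) j) (Nat.div (tget 0 imgTab (315 * g + j)) 120) &&
    Vec.beq (reflV (lineVec (genLine g)) (lineVec j))
      (Vec.smul (unitVec (Nat.mod (tget 0 imgTab (315 * g + j)) 120))
        (lineVec (Nat.div (tget 0 imgTab (315 * g + j)) 120))))

theorem img_zero : (List.range 315).all (imgOK 0) = true := by decide +kernel

theorem img_one : (List.range 315).all (imgOK 1) = true := by decide +kernel

theorem img_two : (List.range 315).all (imgOK 2) = true := by decide +kernel

theorem img_three : (List.range 315).all (imgOK 3) = true := by decide +kernel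

/-- The negative of the first representative. -/
def negFirst : Vec := ⟨Ico.neg (lineVec 0).x, Ico.neg (lineVec 0).y, Ico.neg (lineVec 0).z⟩

theorem first_separated : (Vec.beq (reflV (lineVec 0) (lineVec 0)) negFirst &&
    (List.range 314).all fun k => !Vec.beq (reflV (lineVec (k + 1)) (lineVec 0)) negFirst) = true := by
  decide +kernel

theorem gen_basics : ((List.range 4).all fun g => Nat.blt (genLine g) 315 &&
    compOK (genP g) (genP g) (tP 0) && Nat.beq (app (genP g) (genLine g)) (genLine g)) = true := by
  decide +kernel

theorem base_zero : (Nat.beq (genLine 0) 0 && Nat.beq (ptP 0) 0 && Nat.beq (posP 0) 0) = true := by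
  decide +kernel

theorem tzero_id : (List.range 315).all (fun x => Nat.beq (app (tP 0) x) x) = true := by
  decide +kernel

theorem positions_ok : ((List.range 315).all fun p =>
    Nat.blt (posP p) 315 && Nat.beq (ptP (posP p)) p) = true := by decide +kernel

theorem points_ok : ((List.range 315).all fun n =>
    Nat.blt (ptP n) 315 && Nat.beq (app (tP n) 0) (ptP n)) = true := by decide +kernel

/-- The parent relation of the coset representatives. -/
def tParOK (n : ℕ) : Bool :=
  Nat.blt (Nat.div (tget 0 tParTab n) 4) n &&
    compOK (genP (Nat.mod (tget 0 tParTab n) 4)) (tP (Nat.div (tget 0 tParTab n) 4)) (tP n)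

theorem tPar_ok : ((List.range 314).all fun n => tParOK (n + 1)) = true := by decide +kernel

/-- The witness of a stabiliser generator. -/
def hWitOK (i : ℕ) : Bool :=
  Nat.blt (Nat.div (tget 0 hWitTab i) 4) 315 &&
  (List.range 315).all fun x => Nat.blt (app (hP i) x) 315 &&
    Nat.beq
      (app (tP (posP (app (genP (Nat.mod (tget 0 hWitTab i) 4)) (ptP (Nat.div (tget 0 hWitTab i) 4)))))
        (app (hP i) x))
      (app (genP (Nat.mod (tget 0 hWitTab i) 4)) (app (tP (Nat.div (tget 0 hWitTab i) 4)) x))

theorem hWit_ok : (List.range 2).all hWitOK = true := by decide +kernel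

theorem hzero_fix : ((List.range 2).all fun i => Nat.beq (app (hP i) 0) 0) = true := by decide +kernel

/-- The parent relation of the second representatives. -/
def vParOK (n : ℕ) : Bool :=
  Nat.blt (Nat.div (tget 0 vParTab n) 2) n &&
    compOK (hP (Nat.mod (tget 0 vParTab n) 2)) (vP (Nat.div (tget 0 vParTab n) 2)) (vP n)

theorem vPar_ok : ((List.range 159).all fun n => vParOK (n + 1)) = true := by decide +kernel

theorem vzero_id : (List.range 315).all (fun x => Nat.beq (app (vP 0) x) x) = true := by
  decide +kernel

theorem wzero_id : (List.range 315).all (fun x => Nat.beq (app (wP 0) x) x) = true := by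
  decide +kernel

/-- The witness of an element of the two-point stabiliser. -/
def wWitOK (j : ℕ) : Bool :=
  Nat.blt (Nat.div (tget 0 wWitTab j) 2) 160 &&
  (Nat.blt (Nat.div (tget 0 hvTab (160 * Nat.mod (tget 0 wWitTab j) 2 + Nat.div (tget 0 wWitTab j) 2)) 12) 160 &&
  (List.range 315).all fun x => Nat.blt (app (wP j) x) 315 &&
    Nat.beq
      (app (vP (Nat.div (tget 0 hvTab (160 * Nat.mod (tget 0 wWitTab j) 2 + Nat.div (tget 0 wWitTab j) 2)) 12))
        (app (wP j) x))
      (app (hP (Nat.mod (tget 0 wWitTab j) 2)) (app (vP (Nat.div (tget 0 wWitTab j) 2)) x)))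

theorem wWit_ok : ((List.range 11).all fun j => wWitOK (j + 1)) = true := by decide +kernel

/-- Agreement of two functions on the four base points. -/
def onBase (f g : ℕ → ℕ) : Bool :=
  (List.range 4).all fun t => Nat.beq (f (genLine t)) (g (genLine t))

/-- Closure under left multiplication by a generator. -/
def leftOK (k n : ℕ) : Bool :=
  let c := tget 0 leftTab (315 * k + n)
  Nat.blt c 604800 &&
    onBase (fun x => app (genP k) (app (tP n) x))
      (fun x => app (tP (Nat.div c 1920)) (app (vP (Nat.mod (Nat.div c 12) 160)) (app (wP (Nat.mod c 12)) x)))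

theorem left_ok : ((List.range 4).all fun k => (List.range 315).all (leftOK k)) = true := by
  decide +kernel

/-- A product in the stabiliser of the first point. -/
def stabOK (P i : ℕ) (c : ℕ) : Bool :=
  Nat.blt c 1920 && onBase (fun x => app P (app (vP i) x))
    (fun x => app (vP (Nat.div c 12)) (app (wP (Nat.mod c 12)) x))

theorem hv_ok : ((List.range 2).all fun k => (List.range 160).all fun i =>
    stabOK (hP k) i (tget 0 hvTab (160 * k + i))) = true := by decide +kernel

theorem wv_ok : ((List.range 12).all fun j => (List.range 160).all fun i =>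
    stabOK (wP j) i (tget 0 wvTab (160 * j + i))) = true := by decide +kernel

/-- The table of the two-point stabiliser. -/
def wwOK (a b : ℕ) : Bool :=
  Nat.blt (tget 0 wwTab (12 * a + b)) 12 &&
    onBase (fun x => app (wP a) (app (wP b) x)) (fun x => app (wP (tget 0 wwTab (12 * a + b))) x)

theorem ww_ok : ((List.range 12).all fun a => (List.range 12).all (wwOK a)) = true := by
  decide +kernel

/-- All entries distinct. -/
def nodupB : List ℕ → Bool
  | [] => true
  | a :: l => (l.all fun b => !Nat.beq a b) && nodupB l

theorem v_distinct : nodupB ((List.range 160).map fun i => app (vP i) base2) = true := by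
  decide +kernel

theorem w_distinct : nodupB ((List.range 12).map fun j => app (wP j) base3) = true := by
  decide +kernel

theorem w_fix : ((List.range 12).all fun j =>
    Nat.beq (app (wP j) 0) 0 && Nat.beq (app (wP j) base2) base2) = true := by decide +kernel

/-- The double coset of a point. -/
def dcOK (p : ℕ) : Bool :=
  let c := tget 0 dcTab p
  Nat.blt c 11520 && Nat.beq p (app (vP (Nat.mod (Nat.div c 12) 160))
    (app (wP (Nat.mod c 12)) (ptP (tget 0 dRepTab (Nat.div c 1920)))))

theorem dc_ok : (List.range 315).all dcOK = true := by decide +kernel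

theorem dRep_lt : ((List.range 6).all fun d => Nat.blt (tget 0 dRepTab d) 315) = true := by
  decide +kernel

end Cfsg.Lib.J2
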