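import Cfsg.Agent.Lib.J2.Spectrum

/-!
# Simplicity of the Hall–Janko group
-/

set_option autoImplicit false
set_option linter.unusedSimpArgs false
set_option linter.style.haveILetI false

open scoped commutatorElement

namespace Cfsg.Lib.J2

/-- The suborbit of a point. -/
def dOf (p : ℕ) : ℕ := Nat.mod (Nat.div (tget 0 dcTab p) 1920) 6

/-- The size of a union of suborbits coded by a mask. -/
def unionSize (M : ℕ) : ℕ := ((List.range 315).filter fun p => Nat.testBit M (dOf p)).length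

/-- A union of suborbits through the first point has size dividing 315 only trivially. -/
def blocksOK : Bool :=
  Nat.beq (dOf 0) 0 && ((List.range 315).all fun p => Nat.beq p 0 || !Nat.beq (dOf p) 0) &&
  (List.range 64).all fun M => !Nat.testBit M 0 || Nat.beq M 1 || Nat.beq M 63 ||
    !Nat.beq (Nat.mod 315 (unionSize M)) 0

theorem blocksOK_ok : blocksOK = true := by decide +kernel

theorem gen_perfect : onBase (fun x => app (wP 3) (app (vP 13) x))
    (fun x => app (genP 0) (app (vP 13) (app (wP 3) x))) = true := by decide +kernel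

theorem exists_move_zero (p : Fin 315) : ∃ u : PGrp,
    (u : Equiv.Perm (Fin 315)) 0 = 0 ∧
    ((u : Equiv.Perm (Fin 315)) (pt (dRep ⟨dOf p, Nat.mod_lt _ (by norm_num)⟩))) = p := by
  have h := all_range dc_ok p.2
  unfold dcOK at h
  have hd : dOf p = Nat.mod (Nat.div (tget 0 dcTab p) 1920) 6 := rfl
  obtain ⟨c, hc0⟩ : ∃ c, c = tget 0 dcTab (p : ℕ) := ⟨_, rfl⟩
  rw [← hc0] at h hd
  obtain ⟨hc', he⟩ := Bool.and_eq_true_iff.mp h
  have hc := nat_blt hc'
  have hd' : dOf p = Nat.div c 1920 := by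
    rw [hd]
    exact Nat.mod_eq_of_lt (Nat.div_lt_of_lt_mul (by omega))
  refine ⟨hEl (⟨Nat.mod (Nat.div c 12) 160, Nat.mod_lt _ (by norm_num)⟩,
    ⟨Nat.mod c 12, Nat.mod_lt _ (by norm_num)⟩), hEl_fix_zero _, Fin.ext ?_⟩
  rw [hEl_apply]
  refine Eq.trans ?_ (nat_beq he).symm
  rw [← hd']
  rfl

theorem range_transitive (p : Fin 315) : ∃ g : PGrp, (g : Equiv.Perm (Fin 315)) 0 = p :=
  ⟨tE (pos p), by rw [tE_zero_pt, pt_pos]⟩

theorem card_inv_dvd {N : Subgroup PGrp} [N.Normal] :
    Nat.card {p : Fin 315 // ∃ n ∈ N, (n : Equiv.Perm (Fin 315)) 0 = p} ∣ 315 := by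
  classical
  let o : Fin 315 → Finset (Fin 315) := fun q =>
    Finset.univ.filter fun p => ∃ n ∈ N, (n : Equiv.Perm (Fin 315)) q = p
  have hsize : ∀ q, (o q).card = (o 0).card := by
    intro q
    obtain ⟨g, hg⟩ := range_transitive q
    refine (Finset.card_bij (fun p _ => (g : Equiv.Perm (Fin 315)) p) ?_ ?_ ?_).symm
    · intro p hp
      obtain ⟨n, hn, e⟩ := (Finset.mem_filter.mp hp).2
      refine Finset.mem_filter.mpr ⟨Finset.mem_univ _, g * n * g⁻¹, Subgroup.Normal.conj_mem inferInstance n hn g, ?_⟩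
      simp [← hg, ← e]
    · intro a _ b _ h
      exact (g : Equiv.Perm (Fin 315)).injective h
    · intro p hp
      obtain ⟨n, hn, e⟩ := (Finset.mem_filter.mp hp).2
      refine ⟨((g : Equiv.Perm (Fin 315))⁻¹ : Equiv.Perm (Fin 315)) p, Finset.mem_filter.mpr
        ⟨Finset.mem_univ _, g⁻¹ * n * g, by simpa using Subgroup.Normal.conj_mem inferInstance n hn g⁻¹, ?_⟩,
        by simp⟩
      simp [← hg, ← e]
  have hmem : ∀ q p, p ∈ o q → o p = o q := by
    intro q p hp
    obtain ⟨n, hn, e⟩ := (Finset.mem_filter.mp hp).2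
    ext x
    simp only [o, Finset.mem_filter, Finset.mem_univ, true_and]
    constructor
    · rintro ⟨m, hm, rfl⟩
      exact ⟨m * n, N.mul_mem hm hn, by simp [← e]⟩
    · rintro ⟨m, hm, rfl⟩
      exact ⟨m * n⁻¹, N.mul_mem hm (N.inv_mem hn), by simp [← e]⟩
  have hfib : ∀ s ∈ Finset.univ.image o, (Finset.univ.filter fun q => o q = s).card = (o 0).card := by
    intro s hs
    obtain ⟨q, -, rfl⟩ := Finset.mem_image.mp hs
    rw [← hsize q]
    refine congrArg Finset.card (Finset.ext fun p => ?_)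
    refine ⟨fun hp => ?_, fun hp => Finset.mem_filter.mpr ⟨Finset.mem_univ _, hmem q p hp⟩⟩
    rw [← (Finset.mem_filter.mp hp).2]
    exact Finset.mem_filter.mpr ⟨Finset.mem_univ _, 1, N.one_mem, by simp⟩
  have h := Finset.card_eq_sum_card_image o (Finset.univ : Finset (Fin 315))
  rw [Finset.sum_congr rfl hfib, Finset.sum_const, smul_eq_mul, Finset.card_univ,
    Fintype.card_fin] at h
  rw [Nat.card_eq_fintype_card, Fintype.card_subtype, show
    (Finset.univ.filter fun p => ∃ n ∈ N, (n : Equiv.Perm (Fin 315)) 0 = p) = o 0 from rfl]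
  exact ⟨_, h.trans (mul_comm _ _)⟩

theorem normal_transitive {N : Subgroup PGrp} [N.Normal] (hN : N ≠ ⊥) (p : Fin 315) :
    ∃ n ∈ N, (n : Equiv.Perm (Fin 315)) 0 = p := by
  classical
  set B := fun p : Fin 315 => ∃ n ∈ N, (n : Equiv.Perm (Fin 315)) 0 = p with hB
  have hinv : ∀ (u : PGrp), (u : Equiv.Perm (Fin 315)) 0 = 0 → ∀ q, B q →
      B ((u : Equiv.Perm (Fin 315)) q) := by
    rintro u hu q ⟨n, hn, rfl⟩
    refine ⟨u * n * u⁻¹, Subgroup.Normal.conj_mem inferInstance n hn u, ?_⟩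
    have h' : ((u : Equiv.Perm (Fin 315))⁻¹ : Equiv.Perm (Fin 315)) 0 = 0 := by
      rw [Equiv.Perm.inv_eq_iff_eq, hu]
    simp only [Subgroup.coe_mul, Subgroup.coe_inv, Equiv.Perm.mul_apply, h']
  let rd : Fin 6 → Fin 315 := fun d => pt (dRep d)
  let dd : Fin 315 → Fin 6 := fun q => ⟨dOf q, Nat.mod_lt _ (by norm_num)⟩
  have hiff : ∀ q, B q ↔ B (rd (dd q)) := by
    intro q
    obtain ⟨u, hu0, hu⟩ := exists_move_zero q
    refine ⟨fun h => ?_, fun h => hu ▸ hinv u hu0 _ h⟩
    have h2 := hinv u⁻¹ (by rw [Subgroup.coe_inv, Equiv.Perm.inv_eq_iff_eq, hu0]) q h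
    rwa [Subgroup.coe_inv, show ((u : Equiv.Perm (Fin 315))⁻¹ : Equiv.Perm (Fin 315)) q = rd (dd q) by
      rw [Equiv.Perm.inv_eq_iff_eq]; exact hu.symm] at h2
  let bits : Fin 6 → Bool := fun d => decide (B (rd d))
  obtain ⟨M, hM, hMb⟩ : ∃ M < 64, ∀ d : Fin 6, Nat.testBit M d = bits d := by
    generalize bits = f
    revert f
    decide +kernel
  have hzero := blocksOK_ok
  simp only [blocksOK, Bool.and_eq_true] at hzero
  obtain ⟨⟨hd0, hd1⟩, hblocks⟩ := hzero
  have hBd : ∀ q : Fin 315, B q ↔ Nat.testBit M (dOf q) = true := by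
    intro q
    rw [hiff q, show dOf q = ((dd q : Fin 6) : ℕ) from rfl, hMb]
    simp [bits]
  have h0 : B 0 := ⟨1, N.one_mem, rfl⟩
  have hM0 : Nat.testBit M 0 = true := by
    have := (hBd 0).mp h0
    rwa [show dOf ((0 : Fin 315) : ℕ) = 0 from nat_beq hd0] at this
  have hsize : Nat.card {q : Fin 315 // B q} = unionSize M := by
    rw [Nat.card_eq_fintype_card, Fintype.card_subtype]
    simp only [hBd]
    have hnd : ((List.range 315).filter fun p => Nat.testBit M (dOf p)).Nodup :=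
      List.nodup_range.filter _
    rw [unionSize, ← List.toFinset_card_of_nodup hnd]
    refine Finset.card_bij (fun q _ => (q : ℕ)) ?_ ?_ ?_
    · intro q hq
      rw [List.mem_toFinset, List.mem_filter]
      exact ⟨List.mem_range.mpr q.2, (Finset.mem_filter.mp hq).2⟩
    · intro a _ b _ h; exact Fin.ext h
    · intro q hq
      rw [List.mem_toFinset, List.mem_filter] at hq
      exact ⟨⟨q, List.mem_range.mp hq.1⟩, Finset.mem_filter.mpr ⟨Finset.mem_univ _, hq.2⟩, rfl⟩
  have hdvd : unionSize M ∣ 315 := hsize ▸ card_inv_dvd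
  have hb := all_range hblocks hM
  rw [hM0] at hb
  simp only [Bool.not_true, Bool.false_or, Bool.or_eq_true, Bool.not_eq_true'] at hb
  rcases hb with (hb | hb) | hb
  · exfalso
    obtain rfl : M = 1 := nat_beq hb
    refine hN (eq_bot_iff.mpr fun n hn => Subgroup.mem_bot.mpr (Subtype.ext (Equiv.ext fun q => ?_)))
    obtain ⟨g, hg⟩ := range_transitive q
    have hfix : ∀ m ∈ N, (m : Equiv.Perm (Fin 315)) 0 = 0 := by
      intro m hm
      have h1 := (hBd ((m : Equiv.Perm (Fin 315)) 0)).mp ⟨m, hm, rfl⟩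
      generalize (m : Equiv.Perm (Fin 315)) 0 = r at h1
      have h2 := all_range hd1 r.2
      simp only [Bool.or_eq_true, Bool.not_eq_true'] at h2
      rcases h2 with h2 | h2
      · exact Fin.ext (nat_beq h2)
      · exfalso
        have h3 : dOf r = 0 := by
          by_contra hne
          rw [Nat.testBit, Nat.shiftRight_eq_div_pow, Nat.div_eq_of_lt (Nat.one_lt_two_pow hne)] at h1
          simp at h1
        rw [h3] at h2
        exact Bool.noConfusion h2
    have h := hfix (g⁻¹ * n * g) (by simpa using Subgroup.Normal.conj_mem inferInstance n hn g⁻¹)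
    simp only [Subgroup.coe_mul, Subgroup.coe_inv, Equiv.Perm.mul_apply, Equiv.Perm.inv_eq_iff_eq,
      hg] at h
    simpa using h
  · obtain rfl : M = 63 := nat_beq hb
    exact (hBd p).mpr (by
      have : dOf p < 6 := Nat.mod_lt _ (by norm_num)
      interval_cases dOf p <;> rfl)
  · exfalso
    have : Nat.mod 315 (unionSize M) = 0 := Nat.mod_eq_zero_of_dvd hdvd
    rw [this] at hb
    simp at hb

theorem gE_zero_mem_commutator : gE 0 ∈ commutator PGrp := by
  have hf := eq_of_onBase (f := wE 3 * vE 13) (f' := gE 0 * (vE 13 * wE 3))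
    (F := fun x => app (wP 3) (app (vP 13) x))
    (F' := fun x => app (genP 0) (app (vP 13) (app (wP 3) x)))
    (fun x => by rw [Subgroup.coe_mul, Equiv.Perm.mul_apply]; exact (wE_real 3).apply (vE_real 13 x))
    (fun x => by
      rw [Subgroup.coe_mul, Subgroup.coe_mul, Equiv.Perm.mul_apply, Equiv.Perm.mul_apply]
      exact (gE_real 0).apply ((vE_real 13).apply (wE_real 3 x))) gen_perfect
  have e : gE 0 = ⁅wE 3, vE 13⁆ := by
    rw [commutatorElement_def, hf]
    group
  rw [e, commutator_def]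
  exact Subgroup.commutator_mem_commutator (Subgroup.mem_top _) (Subgroup.mem_top _)

theorem rep_sG_conj (i : Fin 315) : ∃ g : PGrp,
    (⟨rep (sG i), _, rfl⟩ : PGrp) = g * gE 0 * g⁻¹ ∧ (g : Equiv.Perm (Fin 315)) 0 = i := by
  obtain ⟨g, hg⟩ := range_transitive i
  refine ⟨g, Subtype.ext ?_, hg⟩
  obtain ⟨_, x, rfl⟩ := g
  show rep (sG i) = rep x * rep (sG (genIdx 0)) * (rep x)⁻¹
  rw [← map_inv, ← map_mul, ← map_mul, rep_spec, genIdx_zero]
  congr 2
  exact hg.symm

theorem pgrp_perfect : commutator PGrp = ⊤ := by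
  refine eq_top_iff.mpr fun f _ => ?_
  have key : ∀ x : Spor.twoJ2, (⟨rep x, x, rfl⟩ : PGrp) ∈ commutator PGrp := by
    intro x
    have hx : x ∈ (commutator PGrp).comap rep.rangeRestrict := by
      refine (Subgroup.closure_le _).mpr ?_ (closure_gens.symm ▸ Subgroup.mem_top x)
      rintro _ ⟨g, rfl⟩
      obtain ⟨u, hu, -⟩ := rep_sG_conj (genIdx g)
      show rep.rangeRestrict (sG (genIdx g)) ∈ commutator PGrp
      have h := (inferInstance : (commutator PGrp).Normal).conj_mem _ gE_zero_mem_commutator u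
      rw [← hu] at h
      exact h
    exact hx
  obtain ⟨_, x, rfl⟩ := f
  exact key x

theorem isSimple_PGrp : IsSimpleGroup PGrp := by
  haveI : Nontrivial PGrp := by
    refine ⟨⟨gE 0, 1, fun h => ?_⟩⟩
    obtain ⟨f, hf⟩ := exists_orderOf_of_mem (show (7 : ℕ) ∈ ordList by decide)
    have hperf := pgrp_perfect
    have : ∀ x : Spor.twoJ2, (⟨rep x, x, rfl⟩ : PGrp) = 1 := by
      intro x
      have hx : x ∈ rep.rangeRestrict.ker := by
        refine (Subgroup.closure_le _).mpr ?_ (closure_gens.symm ▸ Subgroup.mem_top x)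
        rintro _ ⟨g, rfl⟩
        obtain ⟨u, hu, -⟩ := rep_sG_conj (genIdx g)
        rw [h, mul_one, mul_inv_cancel] at hu
        exact MonoidHom.mem_ker.mpr hu
      exact MonoidHom.mem_ker.mp hx
    obtain ⟨_, x, rfl⟩ := f
    rw [this x, orderOf_one] at hf
    exact absurd hf (by norm_num)
  refine ⟨fun N hN => or_iff_not_imp_left.mpr fun hne => ?_⟩
  haveI := hN
  have hconj : ∀ i : Fin 315, ∃ n ∈ N, (⟨rep (sG i), _, rfl⟩ : PGrp) = n * gE 0 * n⁻¹ := by
    intro i
    obtain ⟨n, hn, hn'⟩ := normal_transitive hne i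
    refine ⟨n, hn, Subtype.ext ?_⟩
    obtain ⟨_, x, rfl⟩ := n
    show rep (sG i) = rep x * rep (sG (genIdx 0)) * (rep x)⁻¹
    rw [← map_inv, ← map_mul, ← map_mul, rep_spec, genIdx_zero]
    congr 2
    exact hn'.symm
  let π : PGrp →* PGrp ⧸ N := QuotientGroup.mk' N
  have hz : ∀ x : Spor.twoJ2, π (rep.rangeRestrict x) ∈ Subgroup.zpowers (π (gE 0)) := by
    intro x
    have hx : x ∈ (Subgroup.zpowers (π (gE 0))).comap (π.comp rep.rangeRestrict) := by
      refine (Subgroup.closure_le _).mpr ?_ (closure_gens.symm ▸ Subgroup.mem_top x)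
      rintro _ ⟨g, rfl⟩
      obtain ⟨n, hn, e⟩ := hconj (genIdx g)
      show π (rep.rangeRestrict (sG (genIdx g))) ∈ Subgroup.zpowers (π (gE 0))
      rw [show rep.rangeRestrict (sG (genIdx g)) = n * gE 0 * n⁻¹ from e, map_mul, map_mul, map_inv,
        show π n = 1 from (QuotientGroup.eq_one_iff n).mpr hn, one_mul, inv_one, mul_one]
      exact Subgroup.mem_zpowers _
    exact hx
  have hcomm : commutator PGrp ≤ N := by
    rw [commutator_def, Subgroup.commutator_le]
    rintro ⟨_, x, rfl⟩ - ⟨_, y, rfl⟩ -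
    rw [← QuotientGroup.eq_one_iff]
    obtain ⟨a, ha⟩ := Subgroup.mem_zpowers_iff.mp (hz x)
    obtain ⟨b, hb⟩ := Subgroup.mem_zpowers_iff.mp (hz y)
    show π ⁅rep.rangeRestrict x, rep.rangeRestrict y⁆ = 1
    rw [map_commutatorElement, ← ha, ← hb, commutatorElement_eq_one_iff_mul_comm, ← zpow_add,
      ← zpow_add, add_comm]
  exact eq_top_iff.mpr (pgrp_perfect ▸ hcomm)

theorem isSimple_J2 : IsSimpleGroup Spor.J2 := by
  haveI := isSimple_PGrp
  exact j2Equiv.isSimpleGroup

theorem exists_noncomm_J2 : ∃ a b : Spor.J2, a * b ≠ b * a := by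
  by_contra hcon
  push Not at hcon
  haveI := isSimple_J2
  have hc : ∀ a b : PGrp, a * b = b * a := fun a b => by
    have h := congrArg j2Equiv (hcon (j2Equiv.symm a) (j2Equiv.symm b))
    simpa only [map_mul, MulEquiv.apply_symm_apply] using h
  have h : commutator PGrp = ⊥ := by
    rw [commutator_def, eq_bot_iff, Subgroup.commutator_le]
    intro a _ b _
    exact Subgroup.mem_bot.mpr (commutatorElement_eq_one_iff_mul_comm.mpr (hc a b))
  haveI := isSimple_PGrp
  exact bot_ne_top (h.symm.trans pgrp_perfect)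

end Cfsg.Lib.J2
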