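import Cfsg.Agent.Lib.J2.PointStab
import Cfsg.Agent.Lib.J2.DataMult
import Cfsg.Agent.Lib.Concrete.StemPerm

/-!
# The point stabiliser `U3(3)` has no stem extensions at two and three
-/

set_option autoImplicit false
set_option maxRecDepth 4000

namespace Cfsg.Lib.J2.Mult

open MulAction Pt Cfsg.Lib.Concrete
open scoped Pointwise commutatorElement

/-- The group on sixty-three letters. -/
abbrev LGrp : Subgroup (Equiv.Perm (Fin 63)) := Subgroup.closure (Set.range bigPerm)

/-- The generators. -/
noncomputable def lGen (i : ℕ) : LGrp := ⟨bigPerm (Fin.ofNat 2 i), Subgroup.subset_closure ⟨_, rfl⟩⟩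

theorem lGen_closure : Subgroup.closure {g | g = lGen 0 ∨ g = lGen 1} = ⊤ := by
  refine top_le_iff.1 ?_
  rw [← Subgroup.closure_closure_coe_preimage]
  refine Subgroup.closure_mono ?_
  rintro ⟨x, hx⟩ ⟨i, hi⟩
  have hi' : bigPerm i = x := hi
  fin_cases i
  · exact Or.inl (Subtype.ext hi'.symm)
  · exact Or.inr (Subtype.ext hi'.symm)

theorem card_LGrp : Nat.card LGrp = 6048 := by
  obtain ⟨e, -⟩ := su_perm
  rw [← Nat.card_congr e.toEquiv, Cfsg.Lib.U33.card_su (F := Nine) card_nine]

/-- The mask of a certificate point. -/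
def setAt (pts x : ℕ) : ℕ := Nat.shiftRight pts (63 * x) % 2 ^ 63

/-- The set of a mask. -/
def setOf63 (m : ℕ) : Finset (Fin 63) := Finset.univ.filter fun j => m.testBit j = true

/-- The sets are moved as in the table. -/
def setsOK (c : StemCert) (pts : ℕ) : Bool :=
  ((List.range 2).all fun i => (List.range c.N).all fun x => (List.range 63).all fun j =>
    (Nat.testBit (setAt pts x) j) == (Nat.testBit (setAt pts (c.tab i x)) (entry 6 (bigPi (Fin.ofNat 2 i)) j))) &&
  (List.range c.N).all fun x => (List.range c.N).all fun y => Nat.beq x y || !(Nat.beq (setAt pts x) (setAt pts y))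

theorem bigPerm_val (g : Fin 2) (j : Fin 63) : (bigPerm g j : ℕ) = entry 6 (bigPi g) j := rfl

/-- Faithfulness is not needed: the relators are checked on the letters. -/
def relsOK (rels : List (List ℕ)) : Bool :=
  rels.all fun W => (List.range 63).all fun j =>
    Nat.beq (W.foldr (fun i y => entry 6 (bigPi (Fin.ofNat 2 i)) y) j) j

theorem rels_ok {rels : List (List ℕ)} (h : relsOK rels = true) : ∀ W ∈ rels, wordProd lGen W = 1 := by
  intro W hW
  simp only [relsOK, List.all_eq_true, List.mem_range, Nat.beq_eq] at h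
  refine Subtype.ext (Equiv.ext fun j => Fin.ext ?_)
  have key : ∀ W : List ℕ, (((wordProd lGen W : LGrp) : Equiv.Perm (Fin 63)) j : ℕ) =
      W.foldr (fun i y => entry 6 (bigPi (Fin.ofNat 2 i)) y) (j : ℕ) := by
    intro W
    induction W with
    | nil => simp [wordProd]
    | cons i W ih =>
      rw [show wordProd lGen (i :: W) = lGen i * wordProd lGen W by simp [wordProd], Subgroup.coe_mul,
        Equiv.Perm.mul_apply, show ((lGen i : LGrp) : Equiv.Perm (Fin 63)) = bigPerm (Fin.ofNat 2 i) from rfl,
        bigPerm_val, ih, List.foldr_cons]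
  rw [key, h W hW j j.isLt]
  rfl

theorem noStem_sets {p : ℕ} [Fact p.Prime] (c : StemCert) (A : SVec p c.m) (hc : c.check A = true) (pts k : ℕ)
    (hs : setsOK c pts = true) (hr : relsOK c.rels = true) (hk : c.N * k = 6048) (hp : ¬ p ∣ k) : NoStem p LGrp := by
  simp only [setsOK, Bool.and_eq_true, List.all_eq_true, List.mem_range, beq_iff_eq, Bool.or_eq_true,
    Bool.not_eq_true', Nat.beq_eq] at hs
  obtain ⟨hact, hinj⟩ := hs
  haveI : Finite LGrp := Nat.finite_of_card_ne_zero (by rw [card_LGrp]; norm_num)
  refine StemPerm.noStem_of_points c A hc (fun x => setOf63 (setAt pts x)) lGen lGen_closure (fun i hi x hx => ?_)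
    (fun x hx y hy e => ?_) (rels_ok hr) (by rw [card_LGrp, hk]) hp
  · ext j
    obtain ⟨t, rfl⟩ := (bigPerm (Fin.ofNat 2 i)).surjective j
    rw [show lGen i • setOf63 (setAt pts x) = bigPerm (Fin.ofNat 2 i) • setOf63 (setAt pts x) from rfl,
      ← Equiv.Perm.smul_def, Finset.smul_mem_smul_finset_iff, setOf63, setOf63, Finset.mem_filter,
      Finset.mem_filter, hact i hi x hx t t.isLt, Equiv.Perm.smul_def, bigPerm_val]
    simp
  · have hxy : setAt pts x = setAt pts y := by
      refine Nat.eq_of_testBit_eq fun j => ?_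
      by_cases hj : j < 63
      · have h := Finset.ext_iff.1 e ⟨j, hj⟩
        simp only [setOf63, Finset.mem_filter, Finset.mem_univ, true_and] at h
        exact Bool.eq_iff_iff.2 h
      · have hp : 2 ^ 63 ≤ 2 ^ j := Nat.pow_le_pow_right (by norm_num) (by omega)
        simp only [setAt]
        rw [Nat.testBit_lt_two_pow ((Nat.mod_lt _ (by norm_num)).trans_le hp),
          Nat.testBit_lt_two_pow ((Nat.mod_lt _ (by norm_num)).trans_le hp)]
    rcases hinj x hx y hy with h | h
    · exact h
    · rw [hxy] at h; simp at h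

theorem stabTwo_check : stabTwo.check (xorVec stabTwo.m) = true := by decide +kernel

theorem noStem_two : NoStem 2 LGrp :=
  noStem_sets stabTwo (xorVec _) stabTwo_check stabTwoPts 21 (by decide +kernel) (by decide +kernel) rfl (by norm_num)

instance fact_one_lt_three' : Fact (1 < 3) := ⟨by norm_num⟩

theorem stabThree_check : stabThree.check (digitVec 3 stabThree.m) = true := by decide +kernel

theorem noStem_three : NoStem 3 LGrp :=
  noStem_sets stabThree (digitVec 3 _) stabThree_check stabThreePts 32 (by decide +kernel) (by decide +kernel) rfl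
    (by norm_num)

theorem perfect_LGrp : commutator LGrp = ⊤ := by
  obtain ⟨e, -⟩ := su_perm
  haveI := Cfsg.Lib.U33.isSimple_su (F := Nine) card_nine
  haveI : IsSimpleGroup LGrp := e.symm.isSimpleGroup_congr.2 inferInstance
  rcases IsSimpleGroup.eq_bot_or_eq_top_of_normal (commutator LGrp) inferInstance with h | h
  · exfalso
    have hcomm : ∀ a b : LGrp, a * b = b * a := fun a b => by
      have hm : ⁅a, b⁆ ∈ commutator LGrp := Subgroup.commutator_mem_commutator (Subgroup.mem_top a) (Subgroup.mem_top b)
      rw [h, Subgroup.mem_bot] at hm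
      exact commutatorElement_eq_one_iff_mul_comm.1 hm
    letI : CommGroup LGrp := { (inferInstance : Group LGrp) with mul_comm := hcomm }
    have := IsSimpleGroup.prime_card (α := LGrp)
    rw [card_LGrp] at this
    norm_num at this
  · exact h

end Cfsg.Lib.J2.Mult
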