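import Cfsg.Agent.Lib.J2.Simple
import Cfsg.Agent.Lib.J2.DataSets

/-!
# The Hall–Janko group on one hundred points
-/

set_option autoImplicit false
set_option linter.unusedSimpArgs false
set_option linter.style.haveILetI false
set_option maxRecDepth 4000

namespace Cfsg.Lib.J2

/-- The `k`-th set of lines as a mask. -/
def setMask (k : ℕ) : ℕ := tget 0 hundredTab k

/-- The image table at one pair. -/
def setImgOK (g k : ℕ) : Bool :=
  let k' := tget 0 hundredImgTab (100 * g + k)
  Nat.blt k' 100 && (List.range 315).all fun x =>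
    Nat.testBit (setMask k) x == Nat.testBit (setMask k') (app (genP g) x)

theorem setImg_ok : ((List.range 4).all fun g => (List.range 100).all (setImgOK g)) = true := by
  decide +kernel

theorem sets_distinct : (nodupB ((List.range 100).map setMask) &&
    (List.range 100).all fun k => decide (setMask k < 2 ^ 315)) = true := by decide +kernel

theorem sets_moved : (List.range 100).any (fun k =>
    !Nat.beq (tget 0 hundredImgTab k) k) = true := by decide +kernel

/-- A permutation maps the `k`-th set to the `k'`-th. -/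
def MapsSet (f : Equiv.Perm (Fin 315)) (k k' : Fin 100) : Prop :=
  ∀ x : Fin 315, Nat.testBit (setMask k) x = Nat.testBit (setMask k') (f x)

theorem mapsSet_gen (g : Fin 4) (k : Fin 100) : ∃ k' : Fin 100,
    MapsSet (rep (sG (genIdx g))) k k' ∧ (k' : ℕ) = tget 0 hundredImgTab (100 * g + k) := by
  have h := all_range (all_range setImg_ok g.2) k.2
  unfold setImgOK at h
  generalize tget 0 hundredImgTab (100 * (g : ℕ) + k) = c at h
  obtain ⟨hc, hb⟩ := Bool.and_eq_true_iff.mp h
  refine ⟨⟨c, nat_blt hc⟩, fun x => ?_, rfl⟩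
  rw [rep_sG_gen]
  exact beq_iff_eq.mp (all_range hb x.2)

theorem exists_mapsSet (f : PGrp) (k : Fin 100) : ∃ k', MapsSet f k k' := by
  obtain ⟨f, hf⟩ := f
  have hf' : f ∈ Submonoid.closure (Set.range fun g : Fin 4 => rep (sG (genIdx g))) := by
    rw [← Subgroup.closure_toSubmonoid_of_finite]
    exact range_eq_closure ▸ hf
  show ∃ k', MapsSet f k k'
  clear hf
  induction hf' using Submonoid.closure_induction generalizing k with
  | mem x hx =>
    obtain ⟨g, rfl⟩ := hx
    obtain ⟨k', hk', -⟩ := mapsSet_gen g k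
    exact ⟨k', hk'⟩
  | one => exact ⟨k, fun _ => rfl⟩
  | mul x y _ _ hx hy =>
    obtain ⟨k1, h1⟩ := hy k
    obtain ⟨k2, h2⟩ := hx k1
    exact ⟨k2, fun z => (h1 z).trans (h2 (y z))⟩

theorem mapsSet_unique {f : Equiv.Perm (Fin 315)} {k a b : Fin 100} (ha : MapsSet f k a)
    (hb : MapsSet f k b) : a = b := by
  have h := sets_distinct
  simp only [Bool.and_eq_true] at h
  obtain ⟨hnd, hlt⟩ := h
  have hl : ∀ c : Fin 100, setMask c < 2 ^ 315 := fun c => of_decide_eq_true (all_range hlt c.2)
  have he : setMask a = setMask b := by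
    refine Nat.eq_of_testBit_eq fun x => ?_
    by_cases hx : x < 315
    · obtain ⟨y, hy⟩ := f.surjective ⟨x, hx⟩
      have e : ((f y : Fin 315) : ℕ) = x := congrArg Fin.val hy
      rw [← e, ← ha y, hb y]
    · have hp : 2 ^ 315 ≤ 2 ^ x := Nat.pow_le_pow_right (by norm_num) (by omega)
      rw [Nat.testBit_lt_two_pow ((hl a).trans_le hp), Nat.testBit_lt_two_pow ((hl b).trans_le hp)]
  have hnd' := nodupB_inj hnd
  apply Fin.ext
  refine (hnd'.getElem_inj_iff (i := (a : ℕ)) (j := (b : ℕ)) (hi := by simp) (hj := by simp)).mp ?_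
  simp only [List.getElem_map, List.getElem_range]
  exact he

/-- The action on the sets. -/
noncomputable def setFun (f : PGrp) (k : Fin 100) : Fin 100 := (exists_mapsSet f k).choose

theorem setFun_spec (f : PGrp) (k : Fin 100) : MapsSet f k (setFun f k) :=
  (exists_mapsSet f k).choose_spec

theorem setFun_one (k : Fin 100) : setFun 1 k = k :=
  mapsSet_unique (setFun_spec 1 k) fun _ => rfl

theorem setFun_mul (f g : PGrp) (k : Fin 100) : setFun (f * g) k = setFun f (setFun g k) :=
  mapsSet_unique (setFun_spec (f * g) k)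
    fun x => (setFun_spec g k x).trans (setFun_spec f _ ((g : Equiv.Perm (Fin 315)) x))

/-- The representation on one hundred points. -/
noncomputable def setRep : PGrp →* Equiv.Perm (Fin 100) where
  toFun f := ⟨setFun f, setFun f⁻¹, fun k => by rw [← setFun_mul, inv_mul_cancel, setFun_one],
    fun k => by rw [← setFun_mul, mul_inv_cancel, setFun_one]⟩
  map_one' := Equiv.ext setFun_one
  map_mul' f g := Equiv.ext (setFun_mul f g)

theorem setRep_injective : Function.Injective setRep := by
  haveI := isSimple_PGrp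
  rcases IsSimpleGroup.eq_bot_or_eq_top_of_normal setRep.ker inferInstance with h | h
  · exact (MonoidHom.ker_eq_bot_iff setRep).mp h
  · exfalso
    obtain ⟨k, hk, hk'⟩ := List.any_eq_true.mp sets_moved
    obtain ⟨k', hm, hv⟩ := mapsSet_gen 0 ⟨k, List.mem_range.mp hk⟩
    have h1 : setRep (gE 0) = 1 := MonoidHom.mem_ker.mp (h ▸ Subgroup.mem_top _)
    have h2 : setFun (gE 0) ⟨k, List.mem_range.mp hk⟩ = k' := mapsSet_unique (setFun_spec _ _) hm
    have h3 : setFun (gE 0) ⟨k, List.mem_range.mp hk⟩ = ⟨k, List.mem_range.mp hk⟩ := by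
      show setRep (gE 0) ⟨k, List.mem_range.mp hk⟩ = _
      rw [h1]
      rfl
    rw [h3] at h2
    rw [← h2] at hv
    simp only [Fin.val_zero, mul_zero, zero_add] at hv
    rw [← hv] at hk'
    simp at hk'

/-- The group of degree one hundred. -/
noncomputable def hundredEquiv : PGrp ≃* setRep.range := MonoidHom.ofInjective setRep_injective

theorem exists_perm_hundred : ∃ G : Subgroup (Equiv.Perm (Fin 100)),
    IsSimpleGroup G ∧ Nat.card G = 604800 := by
  haveI := isSimple_PGrp
  exact ⟨setRep.range, hundredEquiv.symm.isSimpleGroup,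
    by rw [← Nat.card_congr hundredEquiv.toEquiv, card_PGrp]⟩

end Cfsg.Lib.J2
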