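import Cfsg.Agent.Lib.J2.StabStem
import Cfsg.Agent.Lib.Schur.CoverBound

/-!
# A double cover of the Hall-Janko group on two hundred signed points and the multiplier
-/

set_option autoImplicit false
set_option maxRecDepth 4000
set_option linter.unusedSimpArgs false

namespace Cfsg.Lib.J2.Mult

open MulAction Pt Cfsg.Lib.Concrete
open scoped Pointwise commutatorElement

/-! ### The generators -/

/-- An entry of a generator table. -/
def gV (i x : ℕ) : ℕ := entry 8 (genTab i) x

/-- An entry of an inverse table. -/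
def gW (i x : ℕ) : ℕ := entry 8 (genInvTab i) x

theorem gen_tables : ∀ i : Fin 2, ∀ x : Fin 200, gV i x < 200 ∧ gW i x < 200 ∧ gV i (gW i x) = x ∧ gW i (gV i x) = x := by
  decide +kernel

/-- A generator of the cover. -/
def cPerm (i : Fin 2) : Equiv.Perm (Fin 200) where
  toFun x := ⟨gV i x, (gen_tables i x).1⟩
  invFun x := ⟨gW i x, (gen_tables i x).2.1⟩
  left_inv x := Fin.ext (gen_tables i x).2.2.2
  right_inv x := Fin.ext (gen_tables i x).2.2.1

/-- The cover. -/
abbrev Cov200 : Subgroup (Equiv.Perm (Fin 200)) := Subgroup.closure (Set.range cPerm)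

/-- The sign change of a letter. -/
def flipPt (x : Fin 200) : Fin 200 := ⟨((x : ℕ) + 100) % 200, Nat.mod_lt _ (by norm_num)⟩

/-- The letter without its sign. -/
def basePt (x : Fin 200) : Fin 100 := ⟨(x : ℕ) % 100, Nat.mod_lt _ (by norm_num)⟩

/-- The positive letter. -/
def liftPt (p : Fin 100) : Fin 200 := ⟨(p : ℕ), by omega⟩

theorem flip_flip (x : Fin 200) : flipPt (flipPt x) = x := Fin.ext (by simp only [flipPt]; omega)

theorem base_flip (x : Fin 200) : basePt (flipPt x) = basePt x := Fin.ext (by simp only [flipPt, basePt]; omega)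

theorem base_lift (p : Fin 100) : basePt (liftPt p) = p := Fin.ext (by simp only [liftPt, basePt]; omega)

theorem flip_ne (x : Fin 200) : flipPt x ≠ x := fun h => by
  have := congrArg Fin.val h
  simp only [flipPt] at this
  omega

theorem lift_cases (x : Fin 200) : x = liftPt (basePt x) ∨ x = flipPt (liftPt (basePt x)) := by
  by_cases h : (x : ℕ) < 100
  · exact Or.inl (Fin.ext (by simp only [liftPt, basePt]; omega))
  · exact Or.inr (Fin.ext (by simp only [flipPt, liftPt, basePt]; omega))

theorem cases_of_base_eq {x y : Fin 200} (h : basePt x = basePt y) : x = y ∨ x = flipPt y := by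
  rcases lift_cases x with hx | hx <;> rcases lift_cases y with hy | hy <;> rw [h] at hx
  · exact Or.inl (hx.trans hy.symm)
  · exact Or.inr (hx.trans ((congrArg flipPt hy).trans (flip_flip _)).symm)
  · exact Or.inr (hx.trans (congrArg flipPt hy.symm))
  · exact Or.inl (hx.trans hy.symm)

/-- The signed edge value of two letters. -/
def wFun (x y : Fin 200) : ℕ :=
  if Nat.testBit (entry 100 adjTab (x % 100 : ℕ)) (y % 100 : ℕ) then
    1 + ((if Nat.testBit (entry 100 sgnTab (x % 100 : ℕ)) (y % 100 : ℕ) then 1 else 0) + (x : ℕ) / 100 + (y : ℕ) / 100) % 2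
  else 0

theorem gen_invariant : (List.range 2).all (fun i => (List.range 200).all fun x => (List.range 200).all fun y =>
    Nat.beq (wFun (Fin.ofNat 200 x) (Fin.ofNat 200 y))
      (wFun (Fin.ofNat 200 (gV i x)) (Fin.ofNat 200 (gV i y)))) = true := by decide +kernel

theorem gen_flip : ∀ i : Fin 2, ∀ x : Fin 200, cPerm i (flipPt x) = flipPt (cPerm i x) := by decide +kernel

theorem mem_Cov200 {g : Equiv.Perm (Fin 200)} (hg : g ∈ Cov200) :
    (∀ x, g (flipPt x) = flipPt (g x)) ∧ ∀ x y, wFun (g x) (g y) = wFun x y := by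
  induction hg using Subgroup.closure_induction with
  | mem g hg =>
    obtain ⟨i, rfl⟩ := hg
    refine ⟨gen_flip i, fun x y => ?_⟩
    have h := gen_invariant
    simp only [List.all_eq_true, List.mem_range, Nat.beq_eq] at h
    have h' := h i i.isLt x x.isLt y y.isLt
    simp only [Fin.ofNat, Nat.mod_eq_of_lt x.isLt, Nat.mod_eq_of_lt y.isLt, Nat.mod_eq_of_lt (gen_tables i x).1,
      Nat.mod_eq_of_lt (gen_tables i y).1, Fin.eta] at h'
    exact h'.symm
  | one => exact ⟨fun _ => rfl, fun _ _ => rfl⟩
  | mul a b _ _ ha hb =>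
    exact ⟨fun x => by rw [Equiv.Perm.mul_apply, Equiv.Perm.mul_apply, hb.1, ha.1],
      fun x y => by rw [Equiv.Perm.mul_apply, Equiv.Perm.mul_apply, ha.2, hb.2]⟩
  | inv a _ ha =>
    exact ⟨fun x => a.injective (by rw [ha.1, Equiv.Perm.coe_inv, Equiv.apply_symm_apply, Equiv.apply_symm_apply]),
      fun x y => by
        rw [Equiv.Perm.coe_inv]
        conv_rhs => rw [← a.apply_symm_apply x, ← a.apply_symm_apply y, ha.2]⟩

theorem base_apply (g : Cov200) (x : Fin 200) :
    basePt ((g : Equiv.Perm (Fin 200)) x) = basePt ((g : Equiv.Perm (Fin 200)) (liftPt (basePt x))) := by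
  rcases lift_cases x with h | h
  · rw [← h]
  · conv_lhs => rw [h, (mem_Cov200 g.2).1, base_flip]

/-- The permutation part. -/
noncomputable def proj : Cov200 →* Equiv.Perm (Fin 100) :=
  MonoidHom.mk' (fun g => Equiv.ofBijective (fun p => basePt ((g : Equiv.Perm (Fin 200)) (liftPt p)))
    (Finite.injective_iff_bijective.mp fun p q h => by
      rcases cases_of_base_eq h with e | e
      · exact Fin.ext (congrArg Fin.val ((g : Equiv.Perm (Fin 200)).injective e) : _)
      · rw [← (mem_Cov200 g.2).1] at e
        have := congrArg basePt ((g : Equiv.Perm (Fin 200)).injective e)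
        rwa [base_flip, base_lift, base_lift] at this))
    fun g h => Equiv.ext fun p => by
      show basePt (((g * h : Cov200) : Equiv.Perm (Fin 200)) (liftPt p)) =
        basePt ((g : Equiv.Perm (Fin 200)) (liftPt (basePt ((h : Equiv.Perm (Fin 200)) (liftPt p)))))
      rw [← base_apply g]
      rfl

theorem proj_apply (g : Cov200) (x : Fin 200) : proj g (basePt x) = basePt ((g : Equiv.Perm (Fin 200)) x) :=
  (base_apply g x).symm

/-- The generators of the cover as elements. -/
def cGen (i : ℕ) : Cov200 := ⟨cPerm (Fin.ofNat 2 i), Subgroup.subset_closure ⟨_, rfl⟩⟩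

theorem cGen_closure : Subgroup.closure {g | g = cGen 0 ∨ g = cGen 1} = ⊤ := by
  refine top_le_iff.1 ?_
  rw [← Subgroup.closure_closure_coe_preimage]
  refine Subgroup.closure_mono ?_
  rintro ⟨x, hx⟩ ⟨i, hi⟩
  have hi' : cPerm i = x := hi
  fin_cases i
  · exact Or.inl (Subtype.ext hi'.symm)
  · exact Or.inr (Subtype.ext hi'.symm)

/-- The value of a word. -/
def cWord (W : List ℕ) : Cov200 := wordProd cGen W

theorem tau_word : ∀ x : Fin 200,
    ((⁅cWord tauU, cWord tauV⁆ ^ tauExp : Cov200) : Equiv.Perm (Fin 200)) x = flipPt x := by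
  decide +kernel

/-- The sign change. -/
def tau : Cov200 := ⁅cWord tauU, cWord tauV⁆ ^ tauExp

theorem tau_apply (x : Fin 200) : (tau : Equiv.Perm (Fin 200)) x = flipPt x := tau_word x

theorem edges_separate : (List.range 200).all (fun x => (List.range 200).all fun y =>
    Nat.beq (wFun (Fin.ofNat 200 x) (Fin.ofNat 200 y)) 0 ||
      !(Nat.beq (wFun (Fin.ofNat 200 x) (Fin.ofNat 200 y)) (wFun (Fin.ofNat 200 x) (flipPt (Fin.ofNat 200 y))))) = true := by
  decide +kernel

/-- The neighbours of a point. -/
def stepFun (k c : ℕ) : ℕ :=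
  ((List.range 100).filter fun y => Nat.testBit (entry 100 adjTab c) y).getD k c

theorem edges_connected : ∀ p : Fin 100,
    Nat.testBit (ReachMask.reach 100 ((List.range 36).map stepFun) 4 1) p = true := by decide +kernel

theorem fix_all {g : Cov200} (hπ : proj g = 1) (h0 : (g : Equiv.Perm (Fin 200)) 0 = 0) : g = 1 := by
  have hb : ∀ x, (g : Equiv.Perm (Fin 200)) x = x ∨ (g : Equiv.Perm (Fin 200)) x = flipPt x := fun x =>
    cases_of_base_eq (by rw [← proj_apply, hπ]; rfl)
  have hall : ∀ p : Fin 100, (g : Equiv.Perm (Fin 200)) (liftPt p) = liftPt p := by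
    intro p
    have h := ReachMask.reach_sound (N := 100) (fs := (List.range 36).map stepFun)
      (P := fun c => ∀ hc : c < 100, (g : Equiv.Perm (Fin 200)) (liftPt ⟨c, hc⟩) = liftPt ⟨c, hc⟩)
      (fun c hc hP f hf hfc => ?_) 4 1 (fun c hc hc' => ?_) p (edges_connected p) p.isLt
    · exact h
    · obtain ⟨k, -, rfl⟩ := List.mem_map.mp hf
      by_cases hk : k < ((List.range 100).filter fun y => Nat.testBit (entry 100 adjTab c) y).length
      · have hadj : Nat.testBit (entry 100 adjTab c) (stepFun k c) = true := by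
          rw [stepFun, List.getD_eq_getElem _ _ hk]
          exact (List.mem_filter.mp (List.getElem_mem hk)).2
        set y := liftPt ⟨stepFun k c, hfc⟩ with hy
        rcases hb y with e | e
        · exact e
        · exfalso
          have h1 := (mem_Cov200 g.2).2 (liftPt ⟨c, hc⟩) y
          rw [hP hc, e] at h1
          have hs := edges_separate
          simp only [List.all_eq_true, List.mem_range, Bool.or_eq_true, Nat.beq_eq, Bool.not_eq_true',
            beq_eq_false_iff_ne] at hs
          have hs' := hs c (by omega) y y.isLt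
          simp only [Fin.ofNat, Nat.mod_eq_of_lt y.isLt, Nat.mod_eq_of_lt (show c < 200 by omega), Fin.eta] at hs'
          change wFun (liftPt ⟨c, hc⟩) y = 0 ∨ _ at hs'
          rcases hs' with hs' | hs'
          · simp only [wFun, hy, liftPt, Nat.mod_eq_of_lt hc, Nat.mod_eq_of_lt hfc, hadj, if_true] at hs'
            omega
          · change Nat.beq (wFun (liftPt ⟨c, hc⟩) y) (wFun (liftPt ⟨c, hc⟩) (flipPt y)) = false at hs'
            rw [h1] at hs'
            simp at hs'
      · have : stepFun k c = c := by rw [stepFun, List.getD_eq_default _ _ (by omega)]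
        simp only [this]
        exact hP hc
    · rw [show (1 : ℕ) = 2 ^ 0 from rfl, Nat.testBit_two_pow, decide_eq_true_iff] at hc
      subst hc
      exact h0
  refine Subtype.ext (Equiv.ext fun x => ?_)
  rcases lift_cases x with h | h
  · rw [h, hall]; rfl
  · rw [h, (mem_Cov200 g.2).1, hall]; rfl

theorem proj_tau : proj tau = 1 := Equiv.ext fun p => by
  rw [← base_lift p, proj_apply, tau_apply, base_flip]
  rfl

theorem ker_cases {g : Cov200} (hg : proj g = 1) : g = 1 ∨ g = tau := by
  rcases cases_of_base_eq (show basePt ((g : Equiv.Perm (Fin 200)) 0) = basePt 0 by rw [← proj_apply, hg]; rfl)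
    with h | h
  · exact Or.inl (fix_all hg h)
  · have h2 : tau * g = 1 := fix_all (by rw [map_mul, proj_tau, hg, mul_one]) (by
      rw [Subgroup.coe_mul, Equiv.Perm.mul_apply, h, tau_apply, flip_flip])
    have h3 : tau * tau = 1 := Subtype.ext (Equiv.ext fun x => by
      rw [Subgroup.coe_mul, Equiv.Perm.mul_apply, tau_apply, tau_apply, flip_flip]; rfl)
    exact Or.inr (mul_left_cancel (h2.trans h3.symm))

theorem card_ker : Nat.card proj.ker = 2 := by
  have hne : tau ≠ 1 := fun h => flip_ne 0 (by rw [← tau_apply, h]; rfl)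
  have h : (proj.ker : Set Cov200) = {1, tau} := Set.ext fun g =>
    ⟨fun hg => ker_cases hg, fun hg => by rcases hg with rfl | rfl; exacts [one_mem _, proj_tau]⟩
  rw [← SetLike.coe_sort_coe, Nat.card_coe_set_eq, h, Set.ncard_pair hne.symm]

theorem ker_le_center : proj.ker ≤ Subgroup.center Cov200 := by
  intro g hg
  rcases ker_cases hg with rfl | rfl
  · exact one_mem _
  · exact Subgroup.mem_center_iff.2 fun x => Subtype.ext (Equiv.ext fun y => by
      rw [Subgroup.coe_mul, Subgroup.coe_mul, Equiv.Perm.mul_apply, Equiv.Perm.mul_apply, tau_apply, tau_apply,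
        (mem_Cov200 x.2).1])

/-! ### The quotient -/

/-- The group of degree one hundred. -/
noncomputable abbrev HGrp : Subgroup (Equiv.Perm (Fin 100)) := setRep.range

/-- The image of a point under a word in the generators of the cover. -/
def cimg (W : List ℕ) (x : ℕ) : ℕ := W.foldr (fun i y => gV (i % 2) y % 100) x

theorem words_ok : (∀ i : Fin 2, ∀ x : Fin 100, wimg (genWord i) x = gV i x % 100) ∧
    ∀ g : Fin 4, ∀ x : Fin 100, cimg (reflWord.getD g []) x = tget 0 hundredImgTab (100 * (g : ℕ) + x) := by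
  decide +kernel

theorem setRep_gen (g : Fin 4) (p : Fin 100) : (setRep (gE g) p : ℕ) = tget 0 hundredImgTab (100 * (g : ℕ) + p) := by
  obtain ⟨k', hk, hv⟩ := mapsSet_gen g p
  rw [show setRep (gE g) p = k' from mapsSet_unique (setFun_spec (gE g) p) hk, hv]

theorem proj_cGen (i : Fin 2) : proj (cGen i) = act (wordEl (genWord i)) := Equiv.ext fun p => Fin.ext (by
  rw [act_word, words_ok.1 i p, ← base_lift p, proj_apply, base_lift]
  fin_cases i <;> rfl)

theorem proj_range : proj.range = HGrp := by
  refine le_antisymm ?_ ?_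
  · rw [MonoidHom.range_eq_map, ← cGen_closure, MonoidHom.map_closure, Subgroup.closure_le]
    rintro _ ⟨_, rfl | rfl, rfl⟩
    · exact ⟨j2Equiv (wordEl (genWord (0 : Fin 2))), (proj_cGen 0).symm⟩
    · exact ⟨j2Equiv (wordEl (genWord (1 : Fin 2))), (proj_cGen 1).symm⟩
  · have hgen : Subgroup.closure (Set.range gE) = (⊤ : Subgroup PGrp) := by
      apply Subgroup.map_injective PGrp.subtype_injective
      rw [MonoidHom.map_closure, ← MonoidHom.range_eq_map, Subgroup.range_subtype, ← Set.range_comp]
      exact range_eq_closure.symm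
    show setRep.range ≤ _
    rw [MonoidHom.range_eq_map (f := setRep), ← hgen, MonoidHom.map_closure, Subgroup.closure_le]
    rintro _ ⟨_, ⟨g, rfl⟩, rfl⟩
    refine ⟨cWord (reflWord.getD g []), Equiv.ext fun p => Fin.ext ?_⟩
    rw [setRep_gen, ← words_ok.2 g p]
    have key : ∀ W : List ℕ, (proj (cWord W) p : ℕ) = cimg W p := by
      intro W
      induction W with
      | nil => simp [cWord, wordProd, cimg]
      | cons i W ih =>
        rw [show cWord (i :: W) = cGen i * cWord W by simp [cWord, wordProd], map_mul, Equiv.Perm.mul_apply,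
          show cimg (i :: W) p = gV (i % 2) (cimg W p) % 100 from rfl, ← ih, ← base_lift (proj (cWord W) p), proj_apply,
          base_lift]
        rfl
    exact key _

theorem card_HGrp : Nat.card HGrp = 604800 := by
  rw [← Nat.card_congr hundredEquiv.toEquiv, card_PGrp]

theorem card_Cov200 : Nat.card Cov200 = 1209600 := by
  have h := proj.ker.card_mul_index
  rw [Subgroup.index_ker, card_ker, proj_range, card_HGrp] at h
  exact h.symm

/-- The projection onto the Hall-Janko group. -/
noncomputable def toJ2 : Cov200 →* Spor.J2 :=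
  ((j2Equiv.trans hundredEquiv).symm.toMonoidHom.comp (MulEquiv.subgroupCongr proj_range).toMonoidHom).comp
    proj.rangeRestrict

theorem act_toJ2 (g : Cov200) : act (toJ2 g) = proj g := by
  show ((j2Equiv.trans hundredEquiv) ((j2Equiv.trans hundredEquiv).symm
    ((MulEquiv.subgroupCongr proj_range) (proj.rangeRestrict g))) : Equiv.Perm (Fin 100)) = proj g
  rw [MulEquiv.apply_symm_apply]
  rfl

theorem act_injective : Function.Injective act := setRep_injective.comp j2Equiv.injective

theorem toJ2_ker : toJ2.ker = proj.ker := by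
  ext g
  rw [MonoidHom.mem_ker, MonoidHom.mem_ker, ← act_toJ2, map_eq_one_iff act act_injective]

theorem toJ2_stem : IsStemExtension toJ2 := by
  refine ⟨fun f => ?_, toJ2_ker ▸ ker_le_center, fun g hg => ?_⟩
  · obtain ⟨g, hg⟩ : act f ∈ proj.range := by rw [proj_range]; exact ⟨_, rfl⟩
    exact ⟨g, act_injective (by rw [act_toJ2, hg])⟩
  · rcases ker_cases (show proj g = 1 by rw [← MonoidHom.mem_ker, ← toJ2_ker]; exact hg) with rfl | rfl
    · exact one_mem _
    · rw [tau, commutator_def]
      exact pow_mem (Subgroup.commutator_mem_commutator (Subgroup.mem_top _) (Subgroup.mem_top _)) _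

/-! ### The certificates -/

/-- A point of the certificate at two. -/
def ptTwo (x : ℕ) : Fin 200 := Fin.ofNat 200 (entry 9 coverTwoPts x)

/-- A point of the certificate at five. -/
def ptFive (x : ℕ) : Fin 100 := Fin.ofNat 100 (entry 9 coverFivePts x)

theorem coverTwo_table : (∀ i : Fin 2, ∀ x : Fin 200, cPerm i (ptTwo x) = ptTwo (coverTwo.tab i x)) ∧
    (∀ x y : Fin 200, ptTwo x = ptTwo y → x = y) ∧ ptTwo 0 = 0 := by decide +kernel

theorem coverFive_table : (∀ i : Fin 2, ∀ x : Fin 100,
      basePt (cPerm i (liftPt (ptFive x))) = ptFive (coverFive.tab i x)) ∧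
    (∀ x y : Fin 100, ptFive x = ptFive y → x = y) := by decide +kernel

theorem coverTwo_check : coverTwo.check (xorVec coverTwo.m) = true := by decide +kernel

instance fact_one_lt_five : Fact (1 < 5) := ⟨by norm_num⟩

theorem coverFive_check : coverFive.check (digitVec 5 coverFive.m) = true := by decide +kernel

theorem finite_Cov200 : Finite Cov200 := inferInstance

theorem cGen_two (i : ℕ) (hi : i < 2) (x : ℕ) (hx : x < coverTwo.N) :
    cGen i • ptTwo x = ptTwo (coverTwo.tab i x) := by
  have hN : coverTwo.N = 200 := rfl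
  have := coverTwo_table.1 ⟨i, hi⟩ ⟨x, hN ▸ hx⟩
  show cPerm (Fin.ofNat 2 i) (ptTwo x) = _
  rwa [show Fin.ofNat 2 i = (⟨i, hi⟩ : Fin 2) from Fin.ext (Nat.mod_eq_of_lt hi)]

theorem ptTwo_inj : ∀ x < coverTwo.N, ∀ y < coverTwo.N, ptTwo x = ptTwo y → x = y := fun x hx y hy h =>
  congrArg Fin.val (coverTwo_table.2.1 ⟨x, hx⟩ ⟨y, hy⟩ h)

theorem index_stab0 : (stabilizer Cov200 (0 : Fin 200)).index = 200 := by
  rw [← coverTwo_table.2.2]
  exact StemPerm.index_stab coverTwo (StemPerm.shape_of_check _ coverTwo_check) ptTwo cGen cGen_closure cGen_two ptTwo_inj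

theorem card_stab0 : Nat.card (stabilizer Cov200 (0 : Fin 200)) = 6048 := by
  have h := (stabilizer Cov200 (0 : Fin 200)).card_mul_index
  rw [index_stab0, card_Cov200] at h
  omega

theorem stab0_iso : Nonempty (stabilizer Cov200 (0 : Fin 200) ≃* LGrp) := by
  obtain ⟨e, -⟩ := su_perm
  obtain ⟨e'⟩ := ptStab_eq_closure.2
  let ψ : stabilizer Cov200 (0 : Fin 200) →* ptStab := (toJ2.comp (stabilizer Cov200 (0 : Fin 200)).subtype).codRestrict
    ptStab fun g => by
      show act (toJ2 g.1) 0 = 0
      rw [act_toJ2, show (0 : Fin 100) = basePt 0 from rfl, proj_apply]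
      exact congrArg basePt g.2
  have hinj : Function.Injective ψ := (injective_iff_map_eq_one ψ).2 fun g hg => by
    have h1 : g.1 ∈ toJ2.ker := congrArg Subtype.val hg
    rw [toJ2_ker] at h1
    rcases ker_cases h1 with h | h
    · exact Subtype.ext h
    · exfalso
      have h3 : ((g.1 : Cov200) : Equiv.Perm (Fin 200)) 0 = 0 := g.2
      rw [h, tau_apply] at h3
      exact flip_ne 0 h3
  haveI : Finite ptStab := Nat.finite_of_card_ne_zero (by rw [card_ptStab]; norm_num)
  exact ⟨((MulEquiv.ofBijective ψ ((Nat.bijective_iff_injective_and_card _).2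
    ⟨hinj, by rw [card_stab0, card_ptStab]⟩)).trans e').trans e⟩

theorem stab0_perfect : ⁅stabilizer Cov200 (0 : Fin 200), stabilizer Cov200 (0 : Fin 200)⁆ =
    stabilizer Cov200 (0 : Fin 200) := by
  obtain ⟨e⟩ := stab0_iso
  have h2 : commutator (stabilizer Cov200 (0 : Fin 200)) = ⊤ := by
    rw [commutator_def, ← Subgroup.map_top_of_surjective e.symm.toMonoidHom e.symm.surjective,
      ← Subgroup.map_commutator, ← commutator_def, perfect_LGrp, Subgroup.map_top_of_surjective _ e.symm.surjective]
  have h3 := congrArg (Subgroup.map (stabilizer Cov200 (0 : Fin 200)).subtype) h2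
  rwa [commutator_def, Subgroup.map_commutator, ← MonoidHom.range_eq_map, Subgroup.range_subtype] at h3

theorem cov_rels_five : ∀ W ∈ coverFive.rels, wordProd cGen W = 1 := by
  have h : (coverFive.rels.all fun W => (List.range 200).all fun x =>
      Nat.beq (W.foldr (fun i y => gV (i % 2) y) x) x) = true := by decide +kernel
  simp only [List.all_eq_true, List.mem_range, Nat.beq_eq] at h
  intro W hW
  refine Subtype.ext (Equiv.ext fun x => Fin.ext ?_)
  have key : ∀ W : List ℕ, (((wordProd cGen W : Cov200) : Equiv.Perm (Fin 200)) x : ℕ) =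
      W.foldr (fun i y => gV (i % 2) y) (x : ℕ) := by
    intro W
    induction W with
    | nil => simp [wordProd]
    | cons i W ih =>
      rw [show wordProd cGen (i :: W) = cGen i * wordProd cGen W by simp [wordProd], Subgroup.coe_mul,
        Equiv.Perm.mul_apply, List.foldr_cons, ← ih]
      rfl
  rw [key, h W hW x x.isLt]
  rfl

theorem noStem_Cov200 (p : ℕ) (hp : p.Prime) : NoStem p Cov200 := by
  haveI := Fact.mk hp
  obtain ⟨e⟩ := stab0_iso
  by_cases h2 : p = 2
  · subst h2
    have hsh := StemPerm.shape_of_check _ coverTwo_check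
    refine noStem_of_cert coverTwo (xorVec _) coverTwo_check ptTwo cGen cGen_closure cGen_two
      (fun y hy h => ptTwo_inj y hy 0 (by decide) h) ?_ ?_
    · refine StemPerm.rels_of_faithful coverTwo hsh ptTwo cGen cGen_two fun g hg => ?_
      refine Subtype.ext (Equiv.ext fun x => ?_)
      obtain ⟨y, hy⟩ := (Finite.injective_iff_surjective.mp
        (fun a b h => coverTwo_table.2.1 a b h : Function.Injective fun a : Fin 200 => ptTwo a)) x
      subst hy
      exact hg y y.isLt
    · show LiftsAt 2 (stabilizer Cov200 (ptTwo 0))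
      rw [coverTwo_table.2.2]
      exact liftsAt_of_noStem hp stab0_perfect (NoStem.of_equiv e.symm noStem_two)
  by_cases h3 : p = 3
  · subst h3
    exact noStem_of_index hp _ stab0_perfect (NoStem.of_equiv e.symm noStem_three) (by rw [index_stab0]; norm_num)
  by_cases h5 : p = 5
  · subst h5
    letI : MulAction Cov200 (Fin 100) := MulAction.compHom _ proj
    have hN : coverFive.N = 100 := rfl
    refine StemPerm.noStem_of_points coverFive (digitVec 5 _) coverFive_check ptFive cGen cGen_closure
      (fun i hi x hx => ?_) (fun x hx y hy h => congrArg Fin.val (coverFive_table.2 ⟨x, hx⟩ ⟨y, hy⟩ h))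
      cov_rels_five (k := 12096) (by rw [card_Cov200, hN]) (by norm_num)
    show proj (cGen i) (ptFive x) = _
    rw [← base_lift (ptFive x), proj_apply]
    have := coverFive_table.1 ⟨i, hi⟩ ⟨x, hN ▸ hx⟩
    show basePt (cPerm (Fin.ofNat 2 i) _) = _
    rwa [show Fin.ofNat 2 i = (⟨i, hi⟩ : Fin 2) from Fin.ext (Nat.mod_eq_of_lt hi)]
  refine noStem_of_not_sq_dvd hp fun hd => ?_
  rw [card_Cov200] at hd
  have h1 : p ∣ 1209600 := (dvd_pow_self p two_ne_zero).trans hd
  have h7 : p = 7 := by
    rw [show (1209600 : ℕ) = 2 ^ 8 * (3 ^ 3 * (5 ^ 2 * 7)) by norm_num] at h1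
    rcases hp.dvd_mul.1 h1 with h | h
    · exact absurd ((Nat.prime_dvd_prime_iff_eq hp Nat.prime_two).1 (hp.dvd_of_dvd_pow h)) h2
    rcases hp.dvd_mul.1 h with h | h
    · exact absurd ((Nat.prime_dvd_prime_iff_eq hp Nat.prime_three).1 (hp.dvd_of_dvd_pow h)) h3
    rcases hp.dvd_mul.1 h with h | h
    · exact absurd ((Nat.prime_dvd_prime_iff_eq hp (by norm_num)).1 (hp.dvd_of_dvd_pow h)) h5
    exact (Nat.prime_dvd_prime_iff_eq hp (by norm_num)).1 h
  subst h7
  norm_num at hd

theorem multiplier_J2 : Cfsg.HasCyclicSchurMultiplier Spor.J2 2 := by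
  have hperf : commutator Spor.J2 = ⊤ := by
    haveI := isSimple_J2
    rcases IsSimpleGroup.eq_bot_or_eq_top_of_normal (commutator Spor.J2) inferInstance with h | h
    · exfalso
      obtain ⟨a, b, hab⟩ := exists_noncomm_J2
      refine hab ?_
      have hm : ⁅a, b⁆ ∈ commutator Spor.J2 := Subgroup.commutator_mem_commutator (Subgroup.mem_top a) (Subgroup.mem_top b)
      rw [h, Subgroup.mem_bot] at hm
      exact commutatorElement_eq_one_iff_mul_comm.1 hm
    · exact h
  have hk2 : Nat.card toJ2.ker = 2 := by rw [toJ2_ker, card_ker]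
  haveI : Fact (Nat.Prime 2) := ⟨Nat.prime_two⟩
  haveI := isCyclic_of_prime_card hk2
  exact Schur.hasSchurMultiplier_of_cover hperf toJ2_stem noStem_Cov200
    ((zmodCyclicMulEquiv (G := toJ2.ker) inferInstance).symm.trans
      (AddEquiv.toMultiplicative (ZMod.ringEquivCongr hk2).toAddEquiv))

end Cfsg.Lib.J2.Mult
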