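import Cfsg.Agent.Lib.J2.OrderDefs
import Cfsg.Agent.Lib.J2.DataAut

/-!
# Kernel checks for the automorphism group
-/

set_option autoImplicit false
set_option maxHeartbeats 0
set_option maxRecDepth 4000

namespace Cfsg.Lib.J2

/-- The `x`-th reflection, packed. -/
def rP (x : ℕ) : ℕ := tget 0 reflTab x

theorem rP_ok : ((List.range 315).all fun x => (List.range 315).all fun y =>
    Nat.beq (app (rP x) (app (tP (posP x)) y)) (app (tP (posP x)) (app (genP 0) y))) = true := by
  decide +kernel

/-- The value of a word at an assignment of the letters. -/
def evalWord (img : List ℕ) (e : List ℕ × ℕ) : ℕ :=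
  e.1.foldr (fun j x => app (rP (img.getD j 0)) x) (img.getD e.2 0)

/-- All relations hold at an assignment. -/
def relsHold (img : List ℕ) (rs : List ((List ℕ × ℕ) × (List ℕ × ℕ))) : Bool :=
  rs.all fun r => Nat.beq (evalWord img r.1) (evalWord img r.2)

theorem rels_base : (relsHold [genLine 0, genLine 1, genLine 2, genLine 3] (relThree ++ relFour) &&
    (relThree ++ relFour).all fun r =>
      (r.1.1.all fun j => Nat.blt j 4) && Nat.blt r.1.2 4 &&
      (r.2.1.all fun j => Nat.blt j 4) && Nat.blt r.2.2 4) = true := by decide +kernel

/-- A pair is an image of one of the two base pairs. -/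
def pairOK (c d : ℕ) : Bool :=
  (List.range 12).any fun j =>
    (Nat.beq (app (wP j) (genLine 2)) c && Nat.beq (app (wP j) (genLine 3)) d) ||
    (Nat.beq (app (wP j) altPair.1) c && Nat.beq (app (wP j) altPair.2) d)

theorem third_ok : ((List.range 315).all fun c => thirdCands.any (Nat.beq c) ||
    !relsHold [genLine 0, genLine 1, c, 0] relThree) = true := by decide +kernel

theorem fourth_ok : (thirdCands.all fun c => (List.range 315).all fun d =>
    pairOK c d || !relsHold [genLine 0, genLine 1, c, d] relFour) = true := by decide +kernel

theorem alt_ok : (Nat.blt altPair.1 315 && Nat.blt altPair.2 315 &&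
    ((List.range 12).all fun j => !(Nat.beq (app (wP j) (genLine 2)) altPair.1 &&
      Nat.beq (app (wP j) (genLine 3)) altPair.2))) = true := by decide +kernel

/-- The product of the first reflection and another has order dividing three. -/
def cubeOne (p : ℕ) : Bool :=
  onBase (fun x => app (genP 0) (app (rP p) (app (genP 0) (app (rP p) (app (genP 0) (app (rP p) x))))))
    (fun x => x)

theorem cube_suborbit : ((List.range 315).all fun p => !cubeOne p || Nat.beq p 0 ||
    (List.range 160).any fun i => Nat.beq (app (vP i) (genLine 1)) p) = true := by decide +kernel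

theorem cube_base : cubeOne (genLine 1) = true := by decide +kernel

theorem pi_ok : (((List.range 315).all fun x => Nat.blt (app piTab x) 315) &&
    nodupB ((List.range 315).map (app piTab)) &&
    ((List.range 4).all fun g => (List.range 315).all fun x =>
      Nat.beq (app piTab (app (genP g) x)) (app (rP (app piTab (genLine g))) (app piTab x))) &&
    Nat.beq (app piTab (genLine 0)) (genLine 0) && Nat.beq (app piTab (genLine 1)) (genLine 1) &&
    Nat.beq (app piTab (genLine 2)) altPair.1 && Nat.beq (app piTab (genLine 3)) altPair.2) = true := by
  decide +kernel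

/-- Elements of order four square to reflections. -/
def squareOK (d n : ℕ) : Bool :=
  let T := tP (tget 0 dRepTab d)
  let V := vP (Nat.div n 12)
  let W := wP (Nat.mod n 12)
  !onBase (fun x => walk T V W 4 x) (fun x => x) || onBase (fun x => walk T V W 2 x) (fun x => x) ||
    (List.range 315).any fun k => onBase (fun x => walk T V W 2 x) (fun x => app (rP k) x)

theorem squares_ok : ((List.range 6).all fun d => (List.range 1920).all (squareOK d)) = true := by
  decide +kernel

theorem root_ok : (onBase (fun x => app (vP 9) (app (wP 2) (app (vP 9) (app (wP 2) x))))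
    (fun x => app (genP 0) x)) = true := by decide +kernel

/-- A reflection coded by the images of the base points. -/
def rKey (x : ℕ) : ℕ :=
  (List.range 4).foldl (fun acc t => Nat.add (Nat.mul 512 acc) (app (rP x) (genLine t))) 0

theorem rKey_distinct : nodupB ((List.range 315).map rKey) = true := by decide +kernel

end Cfsg.Lib.J2
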