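import Cfsg.Agent.Lib.J2.Simple
import Cfsg.Agent.Lib.J2.AutCheck
import Cfsg.Prelude.Def_KGroupFacts

/-!
# The outer automorphism group of the Hall–Janko group has order two
-/

set_option autoImplicit false
set_option linter.unusedSimpArgs false
set_option linter.style.haveILetI false
set_option maxRecDepth 4000

namespace Cfsg.Lib.J2

/-- The `x`-th reflection as an element of the permutation group. -/
noncomputable def rE (x : Fin 315) : PGrp := ⟨rep (sG x), sG x, rfl⟩

theorem rE_genIdx (g : Fin 4) : rE (genIdx g) = gE g := rfl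

theorem rE_conj (u : PGrp) (x : Fin 315) :
    u * rE x * u⁻¹ = rE ((u : Equiv.Perm (Fin 315)) x) := by
  obtain ⟨_, a, rfl⟩ := u
  apply Subtype.ext
  show rep a * rep (sG x) * (rep a)⁻¹ = rep (sG (rep a x))
  rw [← map_inv, ← map_mul, ← map_mul, rep_spec]

theorem rE_inv (x : Fin 315) : (rE x)⁻¹ = rE x := by
  apply Subtype.ext
  show (rep (sG x))⁻¹ = rep (sG x)
  rw [← map_inv]
  congr 1

theorem rE_real (x : Fin 315) : Realises (rE x) (rP x) := by
  have e : rE x = tE (pos x) * gE 0 * (tE (pos x))⁻¹ := by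
    rw [← rE_genIdx 0, rE_conj, genIdx_zero, tE_zero_pt, pt_pos]
  intro y
  obtain ⟨z, hz⟩ := (tE (pos x) : Equiv.Perm (Fin 315)).surjective y
  have h := nat_beq (all_range (all_range rP_ok x.2) z.2)
  have h1 : app (tP (posP x)) z = (y : ℕ) := by rw [← hz]; exact (tE_real (pos x) z).symm
  rw [h1] at h
  rw [e, Subgroup.coe_mul, Subgroup.coe_mul, Subgroup.coe_inv, Equiv.Perm.mul_apply,
    Equiv.Perm.mul_apply, Equiv.Perm.inv_eq_iff_eq.mpr hz.symm, h]
  exact (tE_real (pos x)).apply (gE_real 0 z)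

theorem rE_injective : Function.Injective rE := by
  intro x y h
  have hk : rKey x = rKey y := by
    have hg : ∀ t : Fin 4, app (rP x) (genLine t) = app (rP y) (genLine t) := fun t => by
      have h1 := rE_real x (genIdx t)
      rw [h, rE_real y (genIdx t)] at h1
      exact h1.symm
    have e : ∀ z : ℕ, rKey z = Nat.add (Nat.mul 512 (Nat.add (Nat.mul 512 (Nat.add (Nat.mul 512
        (Nat.add (Nat.mul 512 0) (app (rP z) (genLine 0)))) (app (rP z) (genLine 1))))
        (app (rP z) (genLine 2)))) (app (rP z) (genLine 3)) := fun z => rfl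
    rw [e, e]
    rw [show app (rP x) (genLine 0) = app (rP y) (genLine 0) from hg 0,
      show app (rP x) (genLine 1) = app (rP y) (genLine 1) from hg 1,
      show app (rP x) (genLine 2) = app (rP y) (genLine 2) from hg 2,
      show app (rP x) (genLine 3) = app (rP y) (genLine 3) from hg 3]
  apply Fin.ext
  refine ((nodupB_inj rKey_distinct).getElem_inj_iff (i := (x : ℕ)) (j := (y : ℕ))
    (hi := by simp) (hj := by simp)).mp ?_
  simp only [List.getElem_map, List.getElem_range]
  exact hk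

theorem closure_gE : Subgroup.closure (Set.range gE) = (⊤ : Subgroup PGrp) := by
  refine eq_top_iff.mpr fun f _ => ?_
  obtain ⟨_, x, rfl⟩ := f
  have hx : x ∈ (Subgroup.closure (Set.range gE)).comap rep.rangeRestrict := by
    refine (Subgroup.closure_le _).mpr ?_ (closure_gens.symm ▸ Subgroup.mem_top x)
    rintro _ ⟨g, rfl⟩
    exact Subgroup.subset_closure ⟨g, rfl⟩
  exact hx

theorem mulEquiv_eq_of_gE {α β : MulAut PGrp} (h : ∀ g, α (gE g) = β (gE g)) : α = β := by
  refine MulEquiv.toMonoidHom_injective (MonoidHom.eq_of_eqOn_dense closure_gE ?_)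
  rintro _ ⟨g, rfl⟩
  exact h g

theorem pow_onBase (d : Fin 6) (q : Fin 160 × Fin 12) (o : ℕ) :
    onBase (fun x => walk (tP (dRep d)) (vP q.1) (wP q.2) o x) (fun x => x) = true ↔
      (nfEl (dRep d, q) : PGrp) ^ o = 1 := by
  constructor
  · intro h
    exact eq_of_base fun g => Fin.ext (by rw [pow_walk]; exact nat_beq (all_range h g.2))
  · intro h
    refine List.all_eq_true.mpr fun t ht => ?_
    have h1 := pow_walk (dRep d, q) o (genIdx ⟨t, List.mem_range.mp ht⟩)
    rw [h] at h1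
    change genLine t = walk (tP (dRep d)) (vP q.1) (wP q.2) o (genLine t) at h1
    show Nat.beq (walk (tP (dRep d)) (vP q.1) (wP q.2) o (genLine t)) (genLine t) = true
    rw [← h1]
    exact Nat.beq_refl _

theorem square_is_reflection {v : PGrp} (h4 : v ^ 4 = 1) (h2 : v ^ 2 ≠ 1) : ∃ k, v ^ 2 = rE k := by
  obtain ⟨u, d, q, hq⟩ := exists_conj_form v
  have hv : v = u * nfEl (dRep d, q) * u⁻¹ := by rw [← hq]; group
  set w := nfEl (dRep d, q) with hw
  rw [hv, conj_pow] at h4 h2
  have w4 : w ^ 4 = 1 := conj_eq_one_iff.mp h4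
  have w2 : w ^ 2 ≠ 1 := fun h => h2 (by rw [h, mul_one, mul_inv_cancel])
  have h := all_range (all_range squares_ok d.2) (show 12 * (q.1 : ℕ) + q.2 < 1920 by omega)
  unfold squareOK at h
  rw [show Nat.div (12 * (q.1 : ℕ) + q.2) 12 = q.1 by
      show (12 * (q.1 : ℕ) + q.2) / 12 = q.1; omega,
    show Nat.mod (12 * (q.1 : ℕ) + q.2) 12 = q.2 by
      show (12 * (q.1 : ℕ) + q.2) % 12 = q.2; omega] at h
  rcases Bool.or_eq_true_iff.mp h with h | h
  · rcases Bool.or_eq_true_iff.mp h with h | h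
    · exfalso
      rw [show (tget 0 dRepTab (d : ℕ)) = ((dRep d : Fin 315) : ℕ) from rfl,
        (pow_onBase d q 4).mpr w4] at h
      simp at h
    · exact absurd ((pow_onBase d q 2).mp h) w2
  · obtain ⟨k, hk, hk'⟩ := List.any_eq_true.mp h
    have e : w ^ 2 = rE ⟨k, List.mem_range.mp hk⟩ :=
      eq_of_onBase (pow_walk (dRep d, q) 2) (rE_real ⟨k, List.mem_range.mp hk⟩) hk'
    refine ⟨(u : Equiv.Perm (Fin 315)) ⟨k, List.mem_range.mp hk⟩, ?_⟩
    rw [hv, conj_pow, e, rE_conj]

theorem exists_root : ∃ v : PGrp, v ^ 4 = 1 ∧ v ^ 2 = gE 0 := by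
  have e : hEl (9, 2) * hEl (9, 2) = gE 0 := eq_of_onBase
    (F := fun x => app (vP 9) (app (wP 2) (app (vP 9) (app (wP 2) x))))
    (fun x => by
      rw [Subgroup.coe_mul, Equiv.Perm.mul_apply]
      show ((hEl (9, 2) : Equiv.Perm (Fin 315)) _ : ℕ) = _
      rw [hEl_apply, hEl_apply]
      rfl)
    (gE_real 0) root_ok
  refine ⟨hEl (9, 2), ?_, by rw [pow_two, e]⟩
  rw [show 4 = 2 * 2 from rfl, pow_mul, pow_two (hEl (9, 2)), e, pow_two]
  conv_lhs => lhs; rw [← rE_genIdx 0, ← rE_inv, rE_genIdx]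
  exact inv_mul_cancel _

theorem maps_rE (α : MulAut PGrp) (x : Fin 315) : ∃ y, α (rE x) = rE y := by
  obtain ⟨v, hv4, hv2⟩ := exists_root
  obtain ⟨g, hg, -⟩ := rep_sG_conj x
  have h2 : (α v) ^ 2 ≠ 1 := by
    rw [← map_pow, hv2, map_ne_one_iff α α.injective]
    intro h
    haveI := isSimple_PGrp
    obtain ⟨f, hf⟩ := exists_orderOf_of_mem (show (7 : ℕ) ∈ ordList by decide)
    have hall : ∀ y, rE y = 1 := fun y => by
      obtain ⟨u, hu, -⟩ := rep_sG_conj y
      show (⟨rep (sG y), sG y, rfl⟩ : PGrp) = 1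
      rw [hu, h, mul_one, mul_inv_cancel]
    exact absurd (rE_injective ((hall 0).trans (hall 1).symm)) (by decide)
  obtain ⟨k, hk⟩ := square_is_reflection (by rw [← map_pow, hv4, map_one]) h2
  rw [← map_pow, hv2] at hk
  exact ⟨((α g : PGrp) : Equiv.Perm (Fin 315)) k, by
    show α ⟨rep (sG x), sG x, rfl⟩ = _
    rw [hg, map_mul, map_mul, map_inv, hk, rE_conj]⟩

/-- The action of an automorphism on the reflections. -/
noncomputable def autPerm (α : MulAut PGrp) (x : Fin 315) : Fin 315 := (maps_rE α x).choose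

theorem autPerm_spec (α : MulAut PGrp) (x : Fin 315) : α (rE x) = rE (autPerm α x) :=
  (maps_rE α x).choose_spec

theorem rP_lt (x y : Fin 315) : app (rP x) y < 315 := by
  rw [← rE_real x y]
  exact Fin.is_lt _

theorem autPerm_eval (α : MulAut PGrp) (e : List ℕ × ℕ) (img : List ℕ)
    (himg : ∀ g : Fin 4, img.getD g 0 = (autPerm α (genIdx g) : ℕ))
    (hw : e.1.all (fun j => Nat.blt j 4) = true) (hk : Nat.blt e.2 4 = true) :
    ∃ y : Fin 315, evalWord [genLine 0, genLine 1, genLine 2, genLine 3] e = y ∧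
      evalWord img e = autPerm α y := by
  obtain ⟨w, k⟩ := e
  have hget : ∀ g : Fin 4, [genLine 0, genLine 1, genLine 2, genLine 3].getD g 0 = genLine g := by
    intro g; fin_cases g <;> rfl
  induction w with
  | nil =>
    exact ⟨genIdx ⟨k, nat_blt hk⟩, hget ⟨k, nat_blt hk⟩, himg ⟨k, nat_blt hk⟩⟩
  | cons j w ih =>
    rw [List.all_cons, Bool.and_eq_true] at hw
    obtain ⟨y, h1, h2⟩ := ih hw.2 hk
    let g : Fin 4 := ⟨j, nat_blt hw.1⟩
    refine ⟨((rE (genIdx g) : PGrp) : Equiv.Perm (Fin 315)) y, ?_, ?_⟩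
    · rw [rE_real (genIdx g) y, ← h1]
      show app (rP ([genLine 0, genLine 1, genLine 2, genLine 3].getD (g : ℕ) 0)) _ = _
      rw [hget]
      rfl
    · have h3 := autPerm_spec α (((rE (genIdx g) : PGrp) : Equiv.Perm (Fin 315)) y)
      rw [← rE_conj, map_mul, map_mul, map_inv, autPerm_spec, autPerm_spec, rE_conj] at h3
      rw [← rE_injective h3, rE_real, ← h2]
      show app (rP (img.getD (g : ℕ) 0)) _ = _
      rw [himg]
      rfl

theorem relsHold_aut (α : MulAut PGrp) (img : List ℕ)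
    (himg : ∀ g : Fin 4, img.getD g 0 = (autPerm α (genIdx g) : ℕ)) :
    relsHold img (relThree ++ relFour) = true := by
  obtain ⟨hb, hw⟩ := Bool.and_eq_true_iff.mp rels_base
  refine List.all_eq_true.mpr fun r hr => ?_
  have hr' := List.all_eq_true.mp hw r hr
  simp only [Bool.and_eq_true] at hr'
  obtain ⟨⟨⟨a1, a2⟩, b1⟩, b2⟩ := hr'
  obtain ⟨y, h1, h2⟩ := autPerm_eval α r.1 img himg a1 a2
  obtain ⟨z, h3, h4⟩ := autPerm_eval α r.2 img himg b1 b2
  have h5 := nat_beq (List.all_eq_true.mp hb r hr)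
  rw [h1, h3] at h5
  obtain rfl := Fin.ext h5
  rw [h2, h4]
  exact Nat.beq_refl _

theorem autPerm_conj (u : PGrp) (α : MulAut PGrp) (x : Fin 315) :
    autPerm (MulAut.conj u * α) x = (u : Equiv.Perm (Fin 315)) (autPerm α x) := by
  apply rE_injective
  rw [← autPerm_spec, MulAut.mul_apply, autPerm_spec, MulAut.conj_apply, rE_conj]

/-- The two alternative points. -/
def altC : Fin 315 := ⟨altPair.1, by
  have h := alt_ok; simp only [Bool.and_eq_true] at h; exact nat_blt h.1.1⟩

/-- The last alternative point. -/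
def altD : Fin 315 := ⟨altPair.2, by
  have h := alt_ok; simp only [Bool.and_eq_true] at h; exact nat_blt h.1.2⟩

/-- The images of the four base points. -/
def altImg (g : Fin 4) : Fin 315 := ![genIdx 0, genIdx 1, altC, altD] g

theorem normalise_aut (α : MulAut PGrp) : ∃ u : PGrp,
    (∀ g, autPerm (MulAut.conj u * α) (genIdx g) = genIdx g) ∨
    (∀ g, autPerm (MulAut.conj u * α) (genIdx g) = altImg g) := by
  obtain ⟨t, ht⟩ := range_transitive (autPerm α (genIdx 0))
  set β := MulAut.conj t⁻¹ * α with hβ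
  have hb0 : autPerm β (genIdx 0) = genIdx 0 := by
    rw [hβ, autPerm_conj, Subgroup.coe_inv, Equiv.Perm.inv_eq_iff_eq, genIdx_zero, ht]
    rfl
  set p := autPerm β (genIdx 1) with hp
  have hgp : gE 0 = rE (genIdx 0) := rfl
  have hcube : (gE 0 * rE (genIdx 1)) ^ 3 = 1 := by
    refine eq_of_onBase (fun x => ?_) (f' := 1) (F' := fun x => x) (fun x => rfl) cube_base
    simp only [pow_succ, pow_zero, one_mul, Subgroup.coe_mul, Equiv.Perm.mul_apply]
    rw [gE_real 0 _, rE_real, gE_real 0 _, rE_real, gE_real 0 _, rE_real]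
    rfl
  have hcube' : (gE 0 * rE p) ^ 3 = 1 := by
    have h := congrArg β hcube
    rwa [map_pow, map_mul, map_one, hgp, autPerm_spec, autPerm_spec, hb0, ← hgp, ← hp] at h
  have hp0 : p ≠ 0 := by
    intro h
    have h1 : rE (genIdx 1) = rE (genIdx 0) := β.injective (by
      rw [autPerm_spec, autPerm_spec, hb0, ← hp, h, genIdx_zero])
    have h2 := rE_injective h1
    revert h2
    decide +kernel
  have hsub := all_range cube_suborbit p.2
  rw [Bool.or_eq_true, Bool.or_eq_true, Bool.not_eq_true'] at hsub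
  obtain ⟨i, hi⟩ : ∃ i : Fin 160, (vE i : Equiv.Perm (Fin 315)) (genIdx 1) = p := by
    rcases hsub with (h | h) | h
    · exfalso
      have : cubeOne p = true := by
        refine List.all_eq_true.mpr fun t ht => ?_
        have e := congrArg (fun f : PGrp =>
          (((f : Equiv.Perm (Fin 315)) (genIdx ⟨t, List.mem_range.mp ht⟩) : Fin 315) : ℕ)) hcube'
        simp only [pow_succ, pow_zero, one_mul, Subgroup.coe_mul, Equiv.Perm.mul_apply] at e
        rw [gE_real 0 _, rE_real, gE_real 0 _, rE_real, gE_real 0 _, rE_real] at e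
        change _ = genLine t at e
        simp only [Nat.beq_eq]
        exact e
      rw [this] at h
      exact Bool.noConfusion h
    · exact absurd (Fin.ext (nat_beq h)) hp0
    · obtain ⟨i, hi, hi'⟩ := List.any_eq_true.mp h
      exact ⟨⟨i, List.mem_range.mp hi⟩, Fin.ext ((vE_real _ _).trans (nat_beq hi'))⟩
  set γ := MulAut.conj (vE i)⁻¹ * β with hγ
  have hg0 : autPerm γ (genIdx 0) = genIdx 0 := by
    rw [hγ, autPerm_conj, hb0, Subgroup.coe_inv, Equiv.Perm.inv_eq_iff_eq, genIdx_zero]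
    exact (Fin.ext (vE_fix_zero i i.2)).symm
  have hg1 : autPerm γ (genIdx 1) = genIdx 1 := by
    rw [hγ, autPerm_conj, ← hp, Subgroup.coe_inv, Equiv.Perm.inv_eq_iff_eq, hi]
  set c := autPerm γ (genIdx 2) with hc
  set d := autPerm γ (genIdx 3) with hd
  have himg : ∀ g : Fin 4, [genLine 0, genLine 1, (c : ℕ), (d : ℕ)].getD g 0 =
      (autPerm γ (genIdx g) : ℕ) := by
    intro g
    fin_cases g
    · exact (congrArg Fin.val hg0).symm
    · exact (congrArg Fin.val hg1).symm
    · exact (congrArg Fin.val hc)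
    · exact (congrArg Fin.val hd)
  have hrel := relsHold_aut γ _ himg
  simp only [relsHold, List.all_append, Bool.and_eq_true] at hrel
  have hc3 := all_range third_ok c.2
  have hmem : (c : ℕ) ∈ thirdCands := by
    rcases Bool.or_eq_true_iff.mp hc3 with h | h
    · obtain ⟨e, he, he'⟩ := List.any_eq_true.mp h
      rwa [nat_beq he']
    · exfalso
      rw [Bool.not_eq_true'] at h
      have h' : relsHold [genLine 0, genLine 1, (c : ℕ), 0] relThree = true := hrel.1
      rw [h'] at h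
      exact Bool.noConfusion h
  have hd4 := all_range (List.all_eq_true.mp fourth_ok _ hmem) d.2
  have hpair : pairOK c d = true := by
    rcases Bool.or_eq_true_iff.mp hd4 with h | h
    · exact h
    · exfalso
      rw [Bool.not_eq_true'] at h
      have h' : relsHold [genLine 0, genLine 1, (c : ℕ), (d : ℕ)] relFour = true := hrel.2
      rw [h'] at h
      exact Bool.noConfusion h
  obtain ⟨j, hj, hj'⟩ := List.any_eq_true.mp hpair
  let jj : Fin 12 := ⟨j, List.mem_range.mp hj⟩
  have key : ∀ C D : Fin 315, app (wP j) C = c → app (wP j) D = d →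
      ∀ g, autPerm (MulAut.conj ((wE jj)⁻¹ * ((vE i)⁻¹ * t⁻¹)) * α) (genIdx g) =
        ![genIdx 0, genIdx 1, C, D] g := by
    intro C D hC hD g
    have e : MulAut.conj ((wE jj)⁻¹ * ((vE i)⁻¹ * t⁻¹)) * α = MulAut.conj (wE jj)⁻¹ * γ := by
      rw [hγ, hβ, map_mul, map_mul, mul_assoc, mul_assoc]
    rw [e, autPerm_conj, Subgroup.coe_inv, Equiv.Perm.inv_eq_iff_eq]
    fin_cases g
    · exact hg0.trans (by rw [genIdx_zero]; exact (wE_fix jj).1.symm)
    · exact hg1.trans (wE_fix jj).2.symm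
    · exact Fin.ext (((wE_real jj C).trans hC).symm)
    · exact Fin.ext (((wE_real jj D).trans hD).symm)
  refine ⟨(wE jj)⁻¹ * ((vE i)⁻¹ * t⁻¹), ?_⟩
  rcases Bool.or_eq_true_iff.mp hj' with h | h
  · obtain ⟨hC, hD⟩ := Bool.and_eq_true_iff.mp h
    refine Or.inl fun g => (key (genIdx 2) (genIdx 3) (nat_beq hC) (nat_beq hD) g).trans ?_
    fin_cases g <;> rfl
  · obtain ⟨hC, hD⟩ := Bool.and_eq_true_iff.mp h
    exact Or.inr (key altC altD (nat_beq hC) (nat_beq hD))

theorem mem_inn_or (α : MulAut PGrp) : α ∈ Cfsg.Inn PGrp ∨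
    ∃ u : PGrp, ∀ g, (MulAut.conj u * α) (gE g) = rE (altImg g) := by
  obtain ⟨u, h | h⟩ := normalise_aut α
  · left
    have e : MulAut.conj u * α = 1 := mulEquiv_eq_of_gE fun g => by
      rw [← rE_genIdx, autPerm_spec, h]
      rfl
    have e2 : α = MulAut.conj u⁻¹ := by rw [map_inv]; exact eq_inv_of_mul_eq_one_right e
    rw [e2]
    exact ⟨u⁻¹, rfl⟩
  · exact Or.inr ⟨u, fun g => by rw [← rE_genIdx, autPerm_spec, h]⟩

theorem conj_inn (α : MulAut PGrp) (u : PGrp) : α * MulAut.conj u * α⁻¹ = MulAut.conj (α u) := by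
  ext x
  simp [MulAut.mul_apply]

theorem inn_mul_mem {α β : MulAut PGrp} (hα : α ∉ Cfsg.Inn PGrp) (hβ : β ∉ Cfsg.Inn PGrp) :
    α⁻¹ * β ∈ Cfsg.Inn PGrp := by
  obtain ⟨u, hu⟩ := (mem_inn_or α).resolve_left hα
  obtain ⟨v, hv⟩ := (mem_inn_or β).resolve_left hβ
  have e : MulAut.conj u * α = MulAut.conj v * β :=
    mulEquiv_eq_of_gE fun g => (hu g).trans (hv g).symm
  have e2 : α⁻¹ * β = MulAut.conj (α⁻¹ (v⁻¹ * u)) := by
    have e3 : β = MulAut.conj (v⁻¹ * u) * α := by
      rw [map_mul, map_inv, mul_assoc, e, inv_mul_cancel_left]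
    rw [← conj_inn, inv_inv, e3, mul_assoc]
  rw [e2]
  exact ⟨_, rfl⟩

/-- The outer permutation of the reflections. -/
noncomputable def piPerm : Equiv.Perm (Fin 315) :=
  Equiv.ofBijective (fun x => ⟨app piTab x, by
    have h := pi_ok; simp only [Bool.and_eq_true] at h
    exact nat_blt (all_range h.1.1.1.1.1.1 x.2)⟩) (by
    refine (Finite.injective_iff_bijective).mp fun x y h => Fin.ext ?_
    have hp := pi_ok; simp only [Bool.and_eq_true] at hp
    refine ((nodupB_inj hp.1.1.1.1.1.2).getElem_inj_iff (i := (x : ℕ)) (j := (y : ℕ))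
      (hi := by simp) (hj := by simp)).mp ?_
    simp only [List.getElem_map, List.getElem_range]
    exact congrArg Fin.val h)

theorem piPerm_base (g : Fin 4) : piPerm (genIdx g) = altImg g := by
  have h := pi_ok
  simp only [Bool.and_eq_true] at h
  fin_cases g
  · exact Fin.ext (nat_beq h.1.1.1.2)
  · exact Fin.ext (nat_beq h.1.1.2)
  · exact Fin.ext (nat_beq h.1.2)
  · exact Fin.ext (nat_beq h.2)

theorem piPerm_conj (g : Fin 4) : piPerm * (gE g : Equiv.Perm (Fin 315)) * piPerm⁻¹ =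
    (rE (piPerm (genIdx g)) : Equiv.Perm (Fin 315)) := by
  rw [mul_inv_eq_iff_eq_mul]
  refine Equiv.ext fun x => Fin.ext ?_
  have h := pi_ok
  simp only [Bool.and_eq_true] at h
  have h1 := nat_beq (all_range (all_range h.1.1.1.1.2 g.2) x.2)
  rw [Equiv.Perm.mul_apply, Equiv.Perm.mul_apply, rE_real]
  show app piTab ((gE g : Equiv.Perm (Fin 315)) x : ℕ) = app (rP (app piTab (genLine g))) (app piTab x)
  rw [gE_real g x]
  exact h1

theorem piPerm_normalizes (f : PGrp) :
    piPerm * (f : Equiv.Perm (Fin 315)) * piPerm⁻¹ ∈ PGrp := by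
  have hf : f ∈ PGrp.comap ((MulAut.conj piPerm).toMonoidHom.comp PGrp.subtype) := by
    refine (Subgroup.closure_le _).mpr ?_ (closure_gE.symm ▸ Subgroup.mem_top f)
    rintro _ ⟨g, rfl⟩
    show piPerm * (gE g : Equiv.Perm (Fin 315)) * piPerm⁻¹ ∈ PGrp
    rw [piPerm_conj]
    exact SetLike.coe_mem _
  exact hf

/-- The outer automorphism. -/
noncomputable def outerAut : MulAut PGrp :=
  MulEquiv.ofBijective
    ({ toFun := fun f => ⟨piPerm * (f : Equiv.Perm (Fin 315)) * piPerm⁻¹, piPerm_normalizes f⟩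
       map_one' := Subtype.ext (by simp)
       map_mul' := fun a b => Subtype.ext (by
        show piPerm * ((a : Equiv.Perm (Fin 315)) * b) * piPerm⁻¹ = _
        exact conj_mul.symm) } : PGrp →* PGrp)
    (Finite.injective_iff_bijective.mp fun a b h => Subtype.ext (by
      have h' := congrArg Subtype.val h
      exact mul_left_cancel (mul_right_cancel h')))

theorem outerAut_gE (g : Fin 4) : outerAut (gE g) = rE (altImg g) :=
  Subtype.ext ((piPerm_conj g).trans (by rw [piPerm_base]))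

theorem outerAut_not_inn : outerAut ∉ Cfsg.Inn PGrp := by
  rintro ⟨u, hu⟩
  have h : ∀ g, (u : Equiv.Perm (Fin 315)) (genIdx g) = altImg g := fun g => by
    apply rE_injective
    rw [← rE_conj, ← outerAut_gE, ← hu, rE_genIdx]
    rfl
  obtain ⟨⟨i, j⟩, rfl⟩ := exists_hEl (f := u) (by
    have h0 := h 0
    rw [genIdx_zero] at h0
    exact h0.trans (by show genIdx 0 = 0; exact genIdx_zero))
  have h1 := h 1
  rw [hEl, Subgroup.coe_mul, Equiv.Perm.mul_apply, (wE_fix j).2] at h1
  have hi : i = 0 := by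
    apply Fin.ext
    refine ((nodupB_inj v_distinct).getElem_inj_iff (i := (i : ℕ)) (j := ((0 : Fin 160) : ℕ))
      (hi := by simp) (hj := by simp)).mp ?_
    simp only [List.getElem_map, List.getElem_range]
    show app (vP i) (genLine 1) = app (vP 0) (genLine 1)
    rw [show app (vP 0) (genLine 1) = genLine 1 from nat_beq (all_range vzero_id (genIdx 1).2)]
    exact (vE_real i (genIdx 1)).symm.trans (congrArg Fin.val h1)
  subst hi
  have h2 := h 2
  have h3 := h 3
  have e : hEl (0, j) = wE j := by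
    rw [hEl, realises_unique (vE_real 0) (realises_one vzero_id), one_mul]
  rw [e] at h2 h3
  have ha := alt_ok
  simp only [Bool.and_eq_true] at ha
  have h4 := all_range ha.2 j.2
  have c1 : app (wP j) (genLine 2) = altPair.1 := (wE_real j (genIdx 2)).symm.trans (congrArg Fin.val h2)
  have c2 : app (wP j) (genLine 3) = altPair.2 := (wE_real j (genIdx 3)).symm.trans (congrArg Fin.val h3)
  rw [c1, c2] at h4
  simp at h4

theorem card_out_PGrp : Nat.card (Cfsg.Out PGrp) = 2 := by
  have h : (Cfsg.Inn PGrp).index = 2 := by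
    rw [Subgroup.index_eq_two_iff]
    refine ⟨outerAut, fun β => ?_⟩
    by_cases hβ : β ∈ Cfsg.Inn PGrp
    · refine Or.inr ⟨hβ, fun hc => outerAut_not_inn ?_⟩
      exact ((Cfsg.Inn PGrp).mul_mem_cancel_left hβ).mp hc
    · refine Or.inl ⟨?_, hβ⟩
      have hinv : β⁻¹ ∉ Cfsg.Inn PGrp := fun hc => hβ ((Cfsg.Inn PGrp).inv_mem_iff.mp hc)
      have := inn_mul_mem hinv outerAut_not_inn
      rwa [inv_inv] at this
  exact h

/-- Automorphism groups of isomorphic groups. -/
theorem card_out_congr {G H : Type} [Group G] [Group H] (e : G ≃* H) :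
    Nat.card (Cfsg.Out G) = Nat.card (Cfsg.Out H) := by
  refine Nat.card_congr (QuotientGroup.congr _ _ (MulAut.congr e) ?_).toEquiv
  ext α
  constructor
  · rintro ⟨β, ⟨u, rfl⟩, rfl⟩
    refine ⟨e u, ?_⟩
    ext x
    simp
  · rintro ⟨u, rfl⟩
    refine ⟨MulAut.conj (e.symm u), ⟨_, rfl⟩, ?_⟩
    ext x
    simp

theorem card_out_J2 : Nat.card (Cfsg.Out Spor.J2) = 2 := by
  rw [card_out_congr j2Equiv, card_out_PGrp]

end Cfsg.Lib.J2
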