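import Cfsg.Agent.Lib.J2.Group

/-!
# The centre of the reflection group is `{1, -1}`
-/

set_option autoImplicit false
set_option linter.unusedSimpArgs false

open Quaternion

namespace Cfsg.Lib.J2

open Ico

theorem coord_lines : (Vec.beq (lineVec 0) ⟨scale 2 one, zero, zero⟩ &&
    Vec.beq (lineVec 1) ⟨zero, scale 2 one, zero⟩ && Vec.beq (lineVec 2) ⟨zero, zero, scale 2 one⟩) = true := by
  decide +kernel

theorem toQ_scale_two_one : toQ (scale 2 one) = (2 : ℝ) • (1 : ℍ[ℝ]) := by
  rw [toQ_scale, toQ_one]; norm_num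

theorem toV_lineVec_zero : toV (lineVec (0 : Fin 315)) = ![(2 : ℝ) • (1 : ℍ[ℝ]), 0, 0] ∧
    toV (lineVec (1 : Fin 315)) = ![0, (2 : ℝ) • (1 : ℍ[ℝ]), 0] ∧
    toV (lineVec (2 : Fin 315)) = ![0, 0, (2 : ℝ) • (1 : ℍ[ℝ])] := by
  have h := coord_lines
  simp only [Bool.and_eq_true, Vec.beq_iff] at h
  refine ⟨?_, ?_, ?_⟩
  · rw [show ((0 : Fin 315) : ℕ) = 0 from rfl, h.1.1]
    simp [toV, toQ_zero, toQ_scale_two_one]
  · rw [show ((1 : Fin 315) : ℕ) = 1 from rfl, h.1.2]
    simp [toV, toQ_zero, toQ_scale_two_one]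
  · rw [show ((2 : Fin 315) : ℕ) = 2 from rfl, h.2]
    simp [toV, toQ_zero, toQ_scale_two_one]

theorem qrefl_coord (t : Fin 3) (r x : QV)
    (hr : r = fun s => if s = t then (2 : ℝ) • (1 : ℍ[ℝ]) else 0) :
    Spor.qrefl r x = fun s => if s = t then -x s else x s := by
  subst hr
  funext s
  have hq : Spor.qip x (fun s => if s = t then (2 : ℝ) • (1 : ℍ[ℝ]) else 0) = (2 : ℝ) • x t := by
    unfold Spor.qip
    rw [Finset.sum_eq_single t (fun b _ hb => by simp [hb]) (by simp)]
    simp
  simp only [Spor.qrefl, hq, smul_smul]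
  by_cases hs : s = t
  · subst hs
    simp only [if_true, smul_mul_assoc, mul_smul_comm, mul_one, smul_smul]
    module
  · simp [hs]

/-- Minus one in the reflection group. -/
noncomputable def negG : Spor.twoJ2 := sG 0 * (sG 1 * sG 2)

theorem negG_apply (x : Spor.icoLeech) :
    (((negG : Equiv.Perm Spor.icoLeech) x : Spor.icoLeech) : QV) = -(x : QV) := by
  show Spor.qrefl (toV (lineVec (0 : Fin 315))) (Spor.qrefl (toV (lineVec (1 : Fin 315)))
    (Spor.qrefl (toV (lineVec (2 : Fin 315))) (x : QV))) = _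
  rw [qrefl_coord 0 _ _ (by rw [toV_lineVec_zero.1]; funext s; fin_cases s <;> simp),
    qrefl_coord 1 _ _ (by rw [toV_lineVec_zero.2.1]; funext s; fin_cases s <;> simp),
    qrefl_coord 2 _ _ (by rw [toV_lineVec_zero.2.2]; funext s; fin_cases s <;> simp)]
  funext s
  fin_cases s <;> simp

theorem negG_ne_one : negG ≠ 1 := by
  intro h
  have h' := negG_apply (rVec 0).1
  rw [h] at h'
  change toV (lineVec (0 : Fin 315)) = -toV (lineVec (0 : Fin 315)) at h'
  rw [toV_lineVec_zero.1] at h'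
  have h0 := congrArg QuaternionAlgebra.re (congrFun h' 0)
  simp at h0
  linarith

theorem negG_central : negG ∈ Subgroup.center Spor.twoJ2 := by
  rw [Subgroup.mem_center_iff]
  intro g
  refine Subtype.ext (Equiv.ext fun x => Subtype.ext ?_)
  simp only [Subgroup.coe_mul, Equiv.Perm.mul_apply, negG_apply]
  let zero' : Spor.icoLeech := ⟨0, by
    have h := mem_icoLeech_iff.mpr ⟨gen3, gens_memL.2.2, rfl⟩
    convert icoLeech_smul (zero_mem Spor.icosians) h using 1
    funext t; simp⟩
  have h0 : ((g : Equiv.Perm Spor.icoLeech) zero' : QV) = 0 := by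
    have h := (isIso_of_mem g.2).comb zero' zero' zero' 1 (one_mem _) (by funext t; simp [zero'])
    funext t
    have ht := congrFun h t
    simpa using ht.symm
  have h := (isIso_of_mem g.2).comb x zero' ((negG : Equiv.Perm Spor.icoLeech) x) (-1)
    (neg_mem (one_mem _)) (by rw [negG_apply]; funext t; simp [zero'])
  rw [h, h0]
  funext t
  simp

theorem unit_zero_pos {z : Spor.twoJ2} (hz : z ∈ Subgroup.center Spor.twoJ2) (i : Fin 315) :
    ∃ u, IsUnitIco u ∧ (((z : Equiv.Perm Spor.icoLeech) (rVec i).1 : Spor.icoLeech) : QV) =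
      fun t => toQ u * toV (lineVec i) t := by
  obtain ⟨k, u, hu, e⟩ := exists_line (moveVec (isIso_of_mem z.2) (rVec i))
  have h1 : sRef i = sRef k := by
    have hc := congrArg Subtype.val (Subgroup.mem_center_iff.mp hz (sG i))
    have h2 := conj_refl (isIso_of_mem z.2) (rVec i)
    rw [show refl (moveVec (isIso_of_mem z.2) (rVec i)) = sRef k from
      refl_eq_of_smul (toQ_unit_mul_star hu).2 e] at h2
    rw [← h2]
    simp only [Subgroup.coe_mul] at hc
    change sRef i * (z : Equiv.Perm Spor.icoLeech) = (z : Equiv.Perm Spor.icoLeech) * sRef i at hc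
    rw [show refl (rVec i) = sRef i from rfl, ← hc, mul_inv_cancel_right]
  obtain rfl := sRef_injective h1
  exact ⟨u, hu, e⟩

/-- The constraints on a central element at two lines, given the middle scalar. -/
def centerOK (u : Ico) : Bool :=
  let x := (lineVec 211).x
  let w := (lineVec 27).z
  let u0 := mul (mul (conj x) u) x
  let u2 := mul (mul (conj w) u) w
  (!(Ico.beq (mul (lineVec 211).z u2) (mul u (lineVec 211).z) &&
      Ico.beq (mul (lineVec 27).x u0) (mul u (lineVec 27).x))) ||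
    ((Ico.beq u one && Ico.beq u0 one && Ico.beq u2 one) ||
      (Ico.beq u (Ico.neg one) && Ico.beq u0 (Ico.neg one) && Ico.beq u2 (Ico.neg one)))

theorem center_check : (units.all centerOK &&
    (Ico.beq (lineVec 211).y one && Ico.beq (lineVec 27).y one && memb units (lineVec 211).x &&
      memb units (lineVec 27).z)) = true := by decide +kernel

theorem center_cases {z : Spor.twoJ2} (hz : z ∈ Subgroup.center Spor.twoJ2) :
    z = 1 ∨ z = negG := by
  have hf := isIso_of_mem z.2
  obtain ⟨v0, hv0, e0⟩ := unit_zero_pos hz 0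
  obtain ⟨v1, hv1, e1⟩ := unit_zero_pos hz 1
  obtain ⟨v2, hv2, e2⟩ := unit_zero_pos hz 2
  rw [toV_lineVec_zero.1] at e0
  rw [toV_lineVec_zero.2.1] at e1
  rw [toV_lineVec_zero.2.2] at e2
  have hdiag : ∀ x : Spor.icoLeech, (((z : Equiv.Perm Spor.icoLeech) x : Spor.icoLeech) : QV) =
      ![(x : QV) 0 * toQ v0, (x : QV) 1 * toQ v1, (x : QV) 2 * toQ v2] := by
    intro x
    let zero' : Spor.icoLeech := ⟨0, by
      have h := mem_icoLeech_iff.mpr ⟨gen3, gens_memL.2.2, rfl⟩
      convert icoLeech_smul (zero_mem Spor.icosians) h using 1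
      funext t; simp⟩
    have hzero : ((z : Equiv.Perm Spor.icoLeech) zero' : QV) = 0 := by
      have h := hf.comb zero' zero' zero' 1 (one_mem _) (by funext t; simp [zero'])
      funext t
      simpa using (congrFun h t).symm
    have hx := x.2.1
    let w2 : Spor.icoLeech := ⟨(fun t => (x : QV) 2 * toV (lineVec (2 : Fin 315)) t) + (zero' : QV),
      icoLeech_add (icoLeech_smul (hx 2) (rVec 2).1.2) zero'.2⟩
    let w1 : Spor.icoLeech := ⟨(fun t => (x : QV) 1 * toV (lineVec (1 : Fin 315)) t) + (w2 : QV),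
      icoLeech_add (icoLeech_smul (hx 1) (rVec 1).1.2) w2.2⟩
    let w0 : Spor.icoLeech := ⟨(fun t => (x : QV) 0 * toV (lineVec (0 : Fin 315)) t) + (w1 : QV),
      icoLeech_add (icoLeech_smul (hx 0) (rVec 0).1.2) w1.2⟩
    have h2 := hf.comb (rVec 2).1 zero' w2 _ (hx 2) rfl
    have h1 := hf.comb (rVec 1).1 w2 w1 _ (hx 1) rfl
    have h0 := hf.comb (rVec 0).1 w1 w0 _ (hx 0) rfl
    rw [e2, hzero] at h2
    rw [e1, h2] at h1
    rw [e0, h1] at h0
    have hd := hf.comb x x w0 1 (one_mem _) (by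
      funext t
      simp only [w0, w1, w2, zero', toV_lineVec_zero.1, toV_lineVec_zero.2.1, toV_lineVec_zero.2.2]
      fin_cases t <;> simp [two_smul, mul_add])
    rw [hd] at h0
    funext t
    have ht := congrFun h0 t
    refine smul_right_injective ℍ[ℝ] (by norm_num : (2 : ℝ) ≠ 0) ?_
    fin_cases t <;> simpa [two_smul, mul_add, add_mul] using ht
  have hc := center_check
  simp only [Bool.and_eq_true, Ico.beq_iff] at hc
  obtain ⟨hall, ⟨⟨hya, hyb⟩, hxa⟩, hzb⟩ := hc
  have hxu := mem_units_iff.mp (mem_of_memb hxa)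
  have hwu := mem_units_iff.mp (mem_of_memb hzb)
  have hline : ∀ (i : Fin 315), (lineVec i).y = one →
      mul (lineVec i).x v0 = mul v1 (lineVec i).x ∧ mul (lineVec i).z v2 = mul v1 (lineVec i).z := by
    intro i hy
    obtain ⟨u, hu, e⟩ := unit_zero_pos hz i
    have hI := allI_of_memL (lineVec_spec i).1
    have e' := (hdiag (rVec i).1).symm.trans e
    have t0 := congrFun e' 0
    have t1 := congrFun e' 1
    have t2 := congrFun e' 2
    change toQ (lineVec i).x * toQ v0 = toQ u * toQ (lineVec i).x at t0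
    change toQ (lineVec i).y * toQ v1 = toQ u * toQ (lineVec i).y at t1
    change toQ (lineVec i).z * toQ v2 = toQ u * toQ (lineVec i).z at t2
    rw [hy, toQ_one, one_mul, mul_one] at t1
    rw [← t1] at t0 t2
    exact ⟨toQ_injective (by rw [toQ_mul hI.1 hv0.1, toQ_mul hv1.1 hI.1, t0]),
      toQ_injective (by rw [toQ_mul hI.2.2 hv2.1, toQ_mul hv1.1 hI.2.2, t2])⟩
  obtain ⟨a0, a2⟩ := hline ⟨211, by norm_num⟩ hya
  obtain ⟨b0, b2⟩ := hline ⟨27, by norm_num⟩ hyb
  dsimp only at a0 a2 b0 b2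
  have f0 : mul (mul (conj (lineVec 211).x) v1) (lineVec 211).x = v0 := by
    rw [mul_assoc' (inI_conj hxu.1) hv1.1 hxu.1, ← a0, ← mul_assoc' (inI_conj hxu.1) hxu.1 hv0.1,
      conj_mul_self' hxu]
    exact toQ_injective (by rw [toQ_mul (by decide) hv0.1, toQ_one, one_mul])
  have f2 : mul (mul (conj (lineVec 27).z) v1) (lineVec 27).z = v2 := by
    rw [mul_assoc' (inI_conj hwu.1) hv1.1 hwu.1, ← b2, ← mul_assoc' (inI_conj hwu.1) hwu.1 hv2.1,
      conj_mul_self' hwu]
    exact toQ_injective (by rw [toQ_mul (by decide) hv2.1, toQ_one, one_mul])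
  have hk := List.all_eq_true.mp hall v1 (mem_units_iff.mpr hv1)
  unfold centerOK at hk
  simp only [f0, f2, b0, a2, Bool.or_eq_true, Bool.and_eq_true, Bool.not_eq_true',
    Bool.and_eq_false_iff, Ico.beq_iff] at hk
  rcases hk with hk | hk | hk
  · exfalso
    rcases hk with hk | hk
    · exact Bool.noConfusion ((Ico.beq_iff.mpr rfl).symm.trans hk)
    · exact Bool.noConfusion ((Ico.beq_iff.mpr rfl).symm.trans hk)
  · refine Or.inl (Subtype.ext (Equiv.ext fun x => Subtype.ext ?_))
    rw [hdiag, hk.1.1, hk.1.2, hk.2, toQ_one]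
    funext t
    fin_cases t <;> simp
  · refine Or.inr (Subtype.ext (Equiv.ext fun x => Subtype.ext ?_))
    rw [hdiag, negG_apply, hk.1.1, hk.1.2, hk.2, toQ_neg, toQ_one]
    funext t
    fin_cases t <;> simp

theorem center_eq : (Subgroup.center Spor.twoJ2 : Set Spor.twoJ2) = {1, negG} := by
  ext z
  refine ⟨center_cases, ?_⟩
  rintro (rfl | rfl)
  · exact (Subgroup.center Spor.twoJ2).one_mem
  · exact negG_central

theorem card_center : Nat.card (Subgroup.center Spor.twoJ2) = 2 := by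
  rw [← SetLike.coe_sort_coe, Nat.card_coe_set_eq, center_eq, Set.ncard_pair (Ne.symm negG_ne_one)]

theorem card_twoJ2 : Nat.card Spor.twoJ2 = 1209600 := by
  rw [Subgroup.card_eq_card_quotient_mul_card_subgroup (Subgroup.center Spor.twoJ2), card_center,
    show Nat.card (Spor.twoJ2 ⧸ Subgroup.center Spor.twoJ2) = Nat.card Spor.J2 from rfl, card_J2]

end Cfsg.Lib.J2
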