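import Cfsg.Agent.Lib.J2.Minimal

/-!
# Every minimal vector is a unit multiple of a tabulated representative
-/

set_option autoImplicit false
set_option linter.unusedSimpArgs false

open Quaternion

namespace Cfsg.Lib.J2

open Ico

theorem toQ_eq_norm {x : Ico} {N : Ico} (h : nrm x = scale 4 N) :
    toQ x * star (toQ x) = toQ N := by
  have h' := congrArg toQ h
  rw [toQ_nrm, toQ_scale, show ((4 : ℤ) : ℝ) = 4 by norm_num] at h'
  exact smul_right_injective ℍ[ℝ] (by norm_num : (4 : ℝ) ≠ 0) h'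

theorem isUnitIco_iff {u : Ico} :
    IsUnitIco u ↔ inI u = true ∧ toQ u * star (toQ u) = 1 := by
  refine ⟨fun h => ⟨h.1, (toQ_unit_mul_star h).1⟩, fun ⟨h1, h2⟩ => ⟨h1, toQ_injective ?_⟩⟩
  rw [toQ_nrm, h2]
  ext <;> simp [zr]; norm_num

theorem IsUnitIco.one' : IsUnitIco one := ⟨by decide, rfl⟩

theorem IsUnitIco.conj' {u : Ico} (h : IsUnitIco u) : IsUnitIco (conj u) := by
  rw [isUnitIco_iff, toQ_conj, star_star]
  exact ⟨inI_conj h.1, (toQ_unit_mul_star h).2⟩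

theorem IsUnitIco.mul' {u w : Ico} (h : IsUnitIco u) (hw : IsUnitIco w) : IsUnitIco (mul u w) := by
  rw [isUnitIco_iff, toQ_mul h.1 hw.1, star_mul]
  refine ⟨inI_mul h.1 hw.1, ?_⟩
  rw [mul_assoc, ← mul_assoc (toQ w), (toQ_unit_mul_star hw).1, one_mul, (toQ_unit_mul_star h).1]

theorem conj_mul_cancel {u x : Ico} (h : IsUnitIco u) (hx : inI x = true) :
    mul u (mul (conj u) x) = x := by
  apply toQ_injective
  rw [toQ_mul h.1 (inI_mul (inI_conj h.1) hx), toQ_mul (inI_conj h.1) hx, toQ_conj, ← mul_assoc,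
    (toQ_unit_mul_star h).1, one_mul]

theorem conj_mul_self' {u : Ico} (h : IsUnitIco u) : mul (conj u) u = one := by
  apply toQ_injective
  rw [toQ_mul (inI_conj h.1) h.1, toQ_conj, (toQ_unit_mul_star h).2, toQ_one]

theorem mul_zero' (u : Ico) : mul u zero = zero := by
  simp [Ico.mul, mulRaw, divBy, zero]

theorem mul_assoc' {a b c : Ico} (ha : inI a = true) (hb : inI b = true) (hc : inI c = true) :
    mul (mul a b) c = mul a (mul b c) := by
  apply toQ_injective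
  rw [toQ_mul (inI_mul ha hb) hc, toQ_mul ha hb, toQ_mul ha (inI_mul hb hc), toQ_mul hb hc,
    mul_assoc]

theorem memL_smul {a : Ico} {v : Vec} (ha : inI a = true) (hv : v.memL = true) :
    (v.smul a).memL = true := by
  have hI := allI_of_memL hv
  rw [memL_iff ⟨inI_mul ha hI.1, inI_mul ha hI.2.1, inI_mul ha hI.2.2⟩, toV_smul ha hI]
  exact icoLeech_smul (toQ_mem ha) ((memL_iff hI).mp hv)

theorem leftIdeal_neg {q a : ℍ[ℝ]} (ha : a ∈ Spor.leftIdeal q) : -a ∈ Spor.leftIdeal q := by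
  simpa using leftIdeal_smul (neg_mem (one_mem Spor.icosians)) ha

theorem memL_swap {x y z : Ico} (h : Vec.memL ⟨x, y, z⟩ = true) :
    Vec.memL ⟨y, x, z⟩ = true ∧ Vec.memL ⟨x, z, y⟩ = true := by
  obtain ⟨hx, hy, hz⟩ := allI_of_memL h
  obtain ⟨h0, h1, h2, h3⟩ := (memL_iff ⟨hx, hy, hz⟩).mp h
  simp only [toV, Matrix.cons_val_zero, Matrix.cons_val_one, Matrix.cons_val] at h1 h2 h3
  constructor
  · rw [memL_iff (v := ⟨y, x, z⟩) ⟨hy, hx, hz⟩]
    refine ⟨?_, ?_, ?_, ?_⟩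
    · simp [Fin.forall_fin_succ, toV, toQ_mem hx, toQ_mem hy, toQ_mem hz]
    · simpa [toV] using leftIdeal_neg h1
    · simpa [toV] using leftIdeal_add h1 h2
    · simpa [toV, add_comm (toQ y)] using h3
  · rw [memL_iff (v := ⟨x, z, y⟩) ⟨hx, hz, hy⟩]
    refine ⟨?_, ?_, ?_, ?_⟩
    · simp [Fin.forall_fin_succ, toV, toQ_mem hx, toQ_mem hy, toQ_mem hz]
    · simpa [toV] using leftIdeal_add h1 h2
    · simpa [toV] using leftIdeal_neg h2
    · simpa [toV, add_assoc, add_comm (toQ z)] using h3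

theorem inIh_of_memL {x y z : Ico} (h : Vec.memL ⟨x, y, z⟩ = true) :
    inIh (Ico.add x (Ico.neg y)) = true ∧ inIh (Ico.add y (Ico.neg x)) = true := by
  have h' := h
  have h'' := (memL_swap h).1
  simp only [Vec.memL, Bool.and_eq_true] at h' h''
  exact ⟨h'.2.1.1, h''.2.1.1⟩

/-- A unit multiple of a representative. -/
def Found (v : Vec) : Prop := ∃ u, IsUnitIco u ∧ ∃ r ∈ lines, v = r.smul u

/-- All six arrangements are found. -/
def FoundAll (x y z : Ico) : Prop :=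
  Found ⟨x, y, z⟩ ∧ Found ⟨x, z, y⟩ ∧ Found ⟨y, x, z⟩ ∧ Found ⟨z, x, y⟩ ∧ Found ⟨y, z, x⟩ ∧
    Found ⟨z, y, x⟩

theorem found_of_any {u : Ico} (hu : IsUnitIco u) {x y z x' y' z' : Ico}
    (h : lines.any (Vec.beq ⟨x', y', z'⟩) = true)
    (e : mul u x' = x ∧ mul u y' = y ∧ mul u z' = z) : Found ⟨x, y, z⟩ := by
  obtain ⟨r, hr, hr'⟩ := List.any_eq_true.mp h
  refine ⟨u, hu, r, hr, ?_⟩
  rw [← Vec.beq_iff.mp hr']
  simp [Vec.smul, e.1, e.2.1, e.2.2]

theorem found_three {u : Ico} (hu : IsUnitIco u) {x y z x' y' z' : Ico}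
    (h : placed3 x' y' z' = true) (e : mul u x' = x ∧ mul u y' = y ∧ mul u z' = z) :
    Found ⟨x, y, z⟩ ∧ Found ⟨y, x, z⟩ ∧ Found ⟨y, z, x⟩ := by
  simp only [placed3, Bool.and_eq_true] at h
  exact ⟨found_of_any hu h.1.1 e, found_of_any hu h.1.2 ⟨e.2.1, e.1, e.2.2⟩,
    found_of_any hu h.2 ⟨e.2.1, e.2.2, e.1⟩⟩

theorem toQ_scale_two {a : Ico} (ha : inI a = true) : mul a (scale 2 one) = scale 2 a := by
  apply toQ_injective
  rw [toQ_mul ha (by decide), toQ_scale, toQ_scale, toQ_one, mul_smul_comm, mul_one]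

theorem found_800 {x : Ico} (h : Vec.memL ⟨x, zero, zero⟩ = true)
    (hn : nrm x = ⟨64, 0, 0, 0, 0, 0, 0, 0⟩) : FoundAll x zero zero := by
  have hadd : ∀ t : Ico, Ico.add t (Ico.neg zero) = t := fun t => by simp [Ico.add, Ico.neg, zero]
  have hadd' : ∀ t : Ico, Ico.add (Ico.add t zero) zero = t := fun t => by simp [Ico.add, zero]
  have h1 := (inIh_of_memL h).1
  rw [hadd] at h1
  have h2 : inIhb x = true := by
    simp only [Vec.memL, Bool.and_eq_true] at h
    simpa [hadd'] using h.2.2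
  obtain ⟨a, ha, rfl⟩ := exists_two_mul h1 h2
  have hu : IsUnitIco a := by
    refine ⟨ha, ?_⟩
    rw [nrm_eq] at hn ⊢
    simp only [scale, Ico.mk.injEq, and_true] at hn ⊢
    constructor <;> linarith [hn.1, hn.2]
  obtain ⟨g1, g2, g3⟩ := found_three hu check800_ok
    ⟨toQ_scale_two ha, mul_zero' a, mul_zero' a⟩
  exact ⟨g1, g1, g2, g2, g3, g3⟩

theorem exists_ideal_unit {y : Ico} (hy : inIh y = true)
    (hn : nrm y = ⟨32, 0, 0, 0, 0, 0, 0, 0⟩) : ∃ a, IsUnitIco a ∧ y = mul a icH := by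
  obtain ⟨q, hq, e⟩ := inIh_iff.mp hy
  obtain ⟨a, ha, rfl⟩ := mem_icosians_iff.mp hq
  rw [← toQ_icH] at e
  refine ⟨a, isUnitIco_iff.mpr ⟨ha, ?_⟩, toQ_injective (by rw [toQ_mul ha (by decide), e])⟩
  have h := toQ_eq_norm (N := scale 2 one) (x := y) (by rw [hn]; rfl)
  rw [e, star_mul, mul_assoc, ← mul_assoc (toQ icH), toQ_scale, toQ_one] at h
  rw [show star (toQ icH) = toQ icHb by rw [← toQ_conj]; rfl, icHb_mul_icH.2, smul_mul_assoc,
    one_mul, mul_smul_comm] at h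
  exact smul_right_injective ℍ[ℝ] (by norm_num : (2 : ℝ) ≠ 0)
    (h.trans (by norm_num))

theorem found_440_three {y z : Ico} (h : Vec.memL ⟨zero, y, z⟩ = true)
    (hy : nrm y = ⟨32, 0, 0, 0, 0, 0, 0, 0⟩) (hz : nrm z = ⟨32, 0, 0, 0, 0, 0, 0, 0⟩) :
    Found ⟨zero, y, z⟩ ∧ Found ⟨y, zero, z⟩ ∧ Found ⟨y, z, zero⟩ := by
  have hadd : ∀ t : Ico, Ico.add t (Ico.neg zero) = t := fun t => by simp [Ico.add, Ico.neg, zero]
  have h1 := (inIh_of_memL h).2
  rw [hadd] at h1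
  have h2 := (inIh_of_memL (memL_swap h).2).2
  rw [hadd] at h2
  obtain ⟨a, ha, rfl⟩ := exists_ideal_unit h1 hy
  obtain ⟨b, hb, rfl⟩ := exists_ideal_unit h2 hz
  have hh : inI icH = true := by decide
  have e1 : mul (conj b) (mul b icH) = icH := by
    rw [← mul_assoc' (inI_conj hb.1) hb.1 hh, conj_mul_self' hb]
    apply toQ_injective
    rw [toQ_mul (by decide) hh, toQ_one, one_mul]
  have hw := hb.conj'.mul' ha
  have hm := memL_smul (inI_conj hb.1) h
  simp only [Vec.smul, mul_zero', e1, ← mul_assoc' (inI_conj hb.1) ha.1 hh] at hm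
  have hc := List.all_eq_true.mp check440_ok _ (mem_units_iff.mpr hw)
  rw [hm] at hc
  simp only [Bool.not_true, Bool.false_or] at hc
  exact found_three hb hc ⟨mul_zero' b,
    by rw [mul_assoc' (inI_conj hb.1) ha.1 hh, conj_mul_cancel hb (inI_mul ha.1 hh)], rfl⟩

theorem found_422_three {x y z : Ico} (h : Vec.memL ⟨x, y, z⟩ = true)
    (hxn : nrm x = ⟨32, 0, 0, 0, 0, 0, 0, 0⟩) (hy : IsUnitIco y) (hz : IsUnitIco z) :
    Found ⟨x, y, z⟩ ∧ Found ⟨y, x, z⟩ ∧ Found ⟨y, z, x⟩ := by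
  have hx := (allI_of_memL h).1
  have hx' := inI_mul (inI_conj hy.1) hx
  have hm := memL_smul (inI_conj hy.1) h
  simp only [Vec.smul, conj_mul_self' hy] at hm
  have hnx : nrm (mul (conj y) x) = ⟨32, 0, 0, 0, 0, 0, 0, 0⟩ := by
    apply toQ_injective
    rw [toQ_nrm, toQ_mul (inI_conj hy.1) hx, star_mul, mul_assoc, ← mul_assoc (toQ x),
      toQ_eq_norm (N := scale 2 one) (x := x) (by rw [hxn]; rfl), toQ_scale, toQ_one,
      smul_mul_assoc, one_mul, mul_smul_comm, toQ_conj, star_star, (toQ_unit_mul_star hy).2]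
    ext <;> simp [zr] <;> norm_num
  have hmem := mem_units_iff.mpr (hy.conj'.mul' hz)
  have hc := List.all_eq_true.mp check422_ok _ hmem
  rw [(inIh_of_memL (memL_swap (memL_swap hm).1).2).1, Bool.not_true, Bool.false_or] at hc
  have hnear := of_enumOK (by norm_num) enum_near hx' hnx
  rw [(inIh_of_memL hm).2, Bool.not_true, Bool.false_or] at hnear
  have hp := List.all_eq_true.mp hc _ (mem_of_memb hnear)
  rw [hm, Bool.not_true, Bool.false_or] at hp
  refine found_three hy hp ⟨conj_mul_cancel hy hx, ?_, conj_mul_cancel hy hz.1⟩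
  apply toQ_injective
  rw [toQ_mul hy.1 (by decide), toQ_one, mul_one]

/-- The inverse of the golden ratio. -/
def icTauInv : Ico := ⟨-2, 2, 0, 0, 0, 0, 0, 0⟩

/-- The inverse of the conjugate golden ratio. -/
def icSigInv : Ico := ⟨-2, -2, 0, 0, 0, 0, 0, 0⟩

theorem exists_scaled_unit {x c d N : Ico} (hx : inI x = true) (hc : inI c = true)
    (hd : inI d = true) (hN : inI N = true) (hn : nrm x = scale 4 N) (hdc : mul d c = one)
    (hcs : conj c = c) (hcn : mul (mul c N) c = one) : ∃ u, IsUnitIco u ∧ x = mul d u := by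
  refine ⟨mul c x, isUnitIco_iff.mpr ⟨inI_mul hc hx, ?_⟩, ?_⟩
  · rw [toQ_mul hc hx, star_mul, ← toQ_conj c, hcs, mul_assoc, ← mul_assoc (toQ x),
      toQ_eq_norm hn, ← mul_assoc, ← toQ_mul hc hN, ← toQ_mul (inI_mul hc hN) hc, hcn, toQ_one]
  · rw [← mul_assoc' hd hc hx, hdc]
    apply toQ_injective
    rw [toQ_mul (by decide) hx, toQ_one, one_mul]

theorem exists_tau_unit {x : Ico} (hx : inI x = true) (hn : nrm x = ⟨24, 8, 0, 0, 0, 0, 0, 0⟩) :
    ∃ u, IsUnitIco u ∧ x = mul icTau u :=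
  exists_scaled_unit (c := icTauInv) (d := icTau) (N := ⟨6, 2, 0, 0, 0, 0, 0, 0⟩) hx (by decide)
    (by decide) (by decide) (by rw [hn]; rfl) rfl rfl rfl

theorem exists_sig_unit {x : Ico} (hx : inI x = true) (hn : nrm x = ⟨24, -8, 0, 0, 0, 0, 0, 0⟩) :
    ∃ u, IsUnitIco u ∧ x = mul icSig u :=
  exists_scaled_unit (c := icSigInv) (d := icSig) (N := ⟨6, -2, 0, 0, 0, 0, 0, 0⟩) hx (by decide)
    (by decide) (by decide) (by rw [hn]; rfl) rfl rfl rfl

theorem toQ_real_comm (p q : ℤ) (w : ℍ[ℝ]) :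
    w * toQ ⟨p, q, 0, 0, 0, 0, 0, 0⟩ = toQ ⟨p, q, 0, 0, 0, 0, 0, 0⟩ * w := by
  have hz : zr 0 0 = 0 := by simp [zr]
  have e : toQ ⟨p, q, 0, 0, 0, 0, 0, 0⟩ = ((zr p q : ℝ) : ℍ[ℝ]) := by ext <;> simp [hz]
  rw [e]
  exact (Quaternion.coe_commutes _ w).symm

theorem smul_scaled {c w u : Ico} (p q : ℤ) (hc : c = ⟨p, q, 0, 0, 0, 0, 0, 0⟩)
    (hcI : inI c = true) (hw : inI w = true) (hu : inI u = true) :
    mul w (mul c u) = mul c (mul w u) := by
  subst hc
  apply toQ_injective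
  rw [toQ_mul hw (inI_mul hcI hu), toQ_mul hcI hu, toQ_mul hcI (inI_mul hw hu), toQ_mul hw hu,
    ← mul_assoc, toQ_real_comm, mul_assoc]

theorem found_332 {x y z : Ico} (h : Vec.memL ⟨x, y, z⟩ = true)
    (hxn : nrm x = ⟨24, 8, 0, 0, 0, 0, 0, 0⟩) (hyn : nrm y = ⟨24, -8, 0, 0, 0, 0, 0, 0⟩)
    (hz : IsUnitIco z) : FoundAll x y z := by
  obtain ⟨hx, hy, -⟩ := allI_of_memL h
  obtain ⟨a, ha, rfl⟩ := exists_tau_unit hx hxn
  obtain ⟨b, hb, rfl⟩ := exists_sig_unit hy hyn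
  have hm := memL_smul (inI_conj hz.1) h
  simp only [Vec.smul, conj_mul_self' hz, smul_scaled 2 2 rfl (by decide) (inI_conj hz.1) ha.1,
    smul_scaled (c := icTau) 2 2 rfl (by decide) (inI_conj hz.1) ha.1,
    smul_scaled (c := icSig) 2 (-2) rfl (by decide) (inI_conj hz.1) hb.1] at hm
  have hc := List.all_eq_true.mp check332_ok _ (mem_units_iff.mpr (hz.conj'.mul' ha))
  rw [(inIh_of_memL (memL_swap hm).2).1, Bool.not_true, Bool.false_or] at hc
  have hc2 := List.all_eq_true.mp hc _ (mem_units_iff.mpr (hz.conj'.mul' hb))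
  rw [(inIh_of_memL (memL_swap (memL_swap hm).1).2).1, Bool.not_true, Bool.false_or, hm,
    Bool.not_true, Bool.false_or] at hc2
  simp only [placed6, Bool.and_eq_true] at hc2
  have ex : mul z (mul icTau (mul (conj z) a)) = mul icTau a := by
    rw [← smul_scaled (c := icTau) 2 2 rfl (by decide) (inI_conj hz.1) ha.1,
      conj_mul_cancel hz (inI_mul (by decide) ha.1)]
  have ey : mul z (mul icSig (mul (conj z) b)) = mul icSig b := by
    rw [← smul_scaled (c := icSig) 2 (-2) rfl (by decide) (inI_conj hz.1) hb.1,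
      conj_mul_cancel hz (inI_mul (by decide) hb.1)]
  have ez : mul z one = z := by
    apply toQ_injective
    rw [toQ_mul hz.1 (by decide), toQ_one, mul_one]
  obtain ⟨g1, g2, g3⟩ := found_three hz hc2.1 ⟨ex, ey, ez⟩
  obtain ⟨g4, g5, g6⟩ := found_three hz hc2.2 ⟨ex, ez, ey⟩
  exact ⟨g1, g4, g2, g5, g3, g6⟩

theorem not_inIh_short {x y z : Ico} (h : Vec.memL ⟨x, y, z⟩ = true) (hz : z = zero) {w : Ico}
    (hw : IsUnitIco w) (hy : y = w ∨ y = mul icTau w ∨ y = mul icSig w) : False := by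
  subst hz
  have h1 := (inIh_of_memL (memL_swap (memL_swap h).1).2).1
  have h2 := (inIh_of_memL (memL_swap (memL_swap (memL_swap h).2).1).1).1
  have h3 : inIh (Ico.add y (Ico.neg zero)) = true := by
    have h' := h
    simp only [Vec.memL, Bool.and_eq_true] at h'
    exact h'.2.1.2
  rw [show Ico.add y (Ico.neg zero) = y by simp [Ico.add, Ico.neg, zero]] at h3
  have hall := List.all_eq_true.mp units_not_inIh _ (mem_units_iff.mpr hw)
  simp only [Bool.and_eq_true, Bool.not_eq_true'] at hall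
  rcases hy with rfl | rfl | rfl
  · exact Bool.noConfusion (h3.symm.trans hall.1.1)
  · exact Bool.noConfusion (h3.symm.trans hall.1.2)
  · exact Bool.noConfusion (h3.symm.trans hall.2)

/-- A norm pair. -/
abbrev NP := ℤ × ℤ

/-- The canonical norm patterns. -/
def patterns : List (NP × NP × NP) :=
  [((8, 0), (0, 0), (0, 0)), ((0, 0), (4, 0), (4, 0)), ((4, 0), (2, 0), (2, 0)),
   ((3, 1), (3, -1), (2, 0)), ((6, 0), (2, 0), (0, 0)), ((5, 1), (3, -1), (0, 0)),
   ((5, -1), (3, 1), (0, 0))]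

/-- The possible norm pairs. -/
def normPairs : List NP :=
  (([0, 1, 2, 3, 4, 5, 6, 7, 8] : List ℤ).flatMap fun a =>
    (([-3, -2, -1, 0, 1, 2, 3] : List ℤ).map fun b => (a, b))).filter fun p =>
      decide ((p.1 + p.2) % 2 = 0) && decide (5 * (p.2 * p.2) ≤ p.1 * p.1)

/-- Pattern test for a triple of pairs. -/
def pattOK (p q r : NP) : Bool :=
  (!decide (p.1 + q.1 + r.1 = 8)) || (!decide (p.2 + q.2 + r.2 = 0)) ||
    (patterns.contains (p, q, r) || patterns.contains (p, r, q) || patterns.contains (q, p, r) ||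
     patterns.contains (q, r, p) || patterns.contains (r, p, q) || patterns.contains (r, q, p))

theorem patterns_ok : (normPairs.all fun p => normPairs.all fun q => normPairs.all fun r =>
    pattOK p q r) = true := by decide +kernel

theorem mem_normPairs {A B : ℤ} (h : (A + B) % 2 = 0) (h0 : 0 ≤ A) (h8 : A ≤ 8)
    (hB : 5 * (B * B) ≤ A * A) : (A, B) ∈ normPairs := by
  refine List.mem_filter.mpr ⟨List.mem_flatMap.mpr ⟨A, ?_, List.mem_map.mpr ⟨B, ?_, rfl⟩⟩, ?_⟩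
  · interval_cases A <;> simp
  · have h1 : -3 ≤ B := by nlinarith
    have h2 : B ≤ 3 := by nlinarith
    interval_cases B <;> simp
  · simp [h, hB]

/-- The norm is given by a pair. -/
def HasNP (x : Ico) (p : NP) : Prop := nrm x = ⟨8 * p.1, 8 * p.2, 0, 0, 0, 0, 0, 0⟩

theorem foundAll_of_pattern {x y z : Ico} {p q r : NP} (h : Vec.memL ⟨x, y, z⟩ = true)
    (hpat : (p, q, r) ∈ patterns) (hp : HasNP x p) (hq : HasNP y q) (hr : HasNP z r) :
    FoundAll x y z := by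
  have hI := allI_of_memL h
  have hzero : ∀ {t : Ico}, inI t = true → HasNP t (0, 0) → t = zero := by
    intro t ht h0
    obtain ⟨A, B, e, -, -, -, hz⟩ := nrm_facts ht
    rw [HasNP, e] at h0
    simp only [Ico.mk.injEq] at h0
    exact hz (by linarith [h0.1])
  simp only [patterns, List.mem_cons, List.not_mem_nil, or_false, Prod.mk.injEq] at hpat
  rcases hpat with ⟨rfl, rfl, rfl⟩ | ⟨rfl, rfl, rfl⟩ | ⟨rfl, rfl, rfl⟩ | ⟨rfl, rfl, rfl⟩ |
    ⟨rfl, rfl, rfl⟩ | ⟨rfl, rfl, rfl⟩ | ⟨rfl, rfl, rfl⟩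
  · obtain rfl := hzero hI.2.1 hq
    obtain rfl := hzero hI.2.2 hr
    exact found_800 h (hp.trans rfl)
  · obtain rfl := hzero hI.1 hp
    obtain ⟨g1, g2, g3⟩ := found_440_three h (hq.trans rfl) (hr.trans rfl)
    obtain ⟨g4, g5, g6⟩ := found_440_three (memL_swap h).2 (hr.trans rfl) (hq.trans rfl)
    exact ⟨g1, g4, g2, g5, g3, g6⟩
  · obtain ⟨g1, g2, g3⟩ := found_422_three h (hp.trans rfl) ⟨hI.2.1, hq.trans rfl⟩
      ⟨hI.2.2, hr.trans rfl⟩
    obtain ⟨g4, g5, g6⟩ := found_422_three (memL_swap h).2 (hp.trans rfl) ⟨hI.2.2, hr.trans rfl⟩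
      ⟨hI.2.1, hq.trans rfl⟩
    exact ⟨g1, g4, g2, g5, g3, g6⟩
  · exact found_332 h (hp.trans rfl) (hq.trans rfl) ⟨hI.2.2, hr.trans rfl⟩
  · exact (not_inIh_short h (hzero hI.2.2 hr) ⟨hI.2.1, hq.trans rfl⟩ (Or.inl rfl)).elim
  · obtain ⟨u, hu, e⟩ := exists_sig_unit hI.2.1 (hq.trans rfl)
    exact (not_inIh_short h (hzero hI.2.2 hr) hu (Or.inr (Or.inr e))).elim
  · obtain ⟨u, hu, e⟩ := exists_tau_unit hI.2.1 (hq.trans rfl)
    exact (not_inIh_short h (hzero hI.2.2 hr) hu (Or.inr (Or.inl e))).elim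

/-- Minimal vectors are unit multiples of the representatives. -/
theorem found_of_minimal {v : Vec} (hv : v.memL = true) (hn : qipRaw v v = four4) : Found v := by
  obtain ⟨x, y, z⟩ := v
  obtain ⟨hx, hy, hz⟩ := allI_of_memL hv
  obtain ⟨A, B, ex, px, ax, bx, -⟩ := nrm_facts hx
  obtain ⟨A', B', ey, py, ay, by', -⟩ := nrm_facts hy
  obtain ⟨A'', B'', ez, pz, az, bz, -⟩ := nrm_facts hz
  change Ico.add (Ico.add (nrm x) (nrm y)) (nrm z) = four4 at hn
  rw [ex, ey, ez] at hn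
  simp only [Ico.add, four4, Ico.mk.injEq] at hn
  obtain ⟨hA, hB, -⟩ := hn
  have hsA : A + A' + A'' = 8 := by linarith
  have hsB : B + B' + B'' = 0 := by linarith
  have h := List.all_eq_true.mp (List.all_eq_true.mp (List.all_eq_true.mp patterns_ok _
    (mem_normPairs px ax (by linarith) bx)) _ (mem_normPairs py ay (by linarith) by')) _
    (mem_normPairs pz az (by linarith) bz)
  simp only [pattOK, hsA, hsB, decide_true, Bool.not_true, Bool.false_or, Bool.or_eq_true,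
    List.contains_iff_mem] at h
  have s1 := memL_swap hv
  rcases h with ((((h | h) | h) | h) | h) | h
  · exact (foundAll_of_pattern hv h ex ey ez).1
  · exact (foundAll_of_pattern s1.2 h ex ez ey).2.1
  · exact (foundAll_of_pattern s1.1 h ey ex ez).2.2.1
  · exact (foundAll_of_pattern (memL_swap s1.1).2 h ey ez ex).2.2.2.1
  · exact (foundAll_of_pattern (memL_swap s1.2).1 h ez ex ey).2.2.2.2.1
  · exact (foundAll_of_pattern (memL_swap (memL_swap s1.1).2).1 h ez ey ex).2.2.2.2.2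

end Cfsg.Lib.J2
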