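import Cfsg.Agent.Lib.J2.DataVec

/-!
# Certificate data for the fusion in a Sylow 2-subgroup of the Hall–Janko group
-/

set_option autoImplicit false
set_option maxRecDepth 4000

namespace Cfsg.Lib.J2

/-- The codes of seven generators of a Sylow 2-subgroup. -/
def sylGenCodes : List ℕ := [13, 110, 204, 385, 443, 3, 4]

/-- The codes of a Sylow 2-subgroup. -/
def sylTab : List (List ℕ) :=
  [[0, 13, 110, 204, 385, 443, 3, 4, 156, 289, 518, 568, 20, 19, 1022, 842, 1173, 159, 1639, 1236, 1633],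
    [1340, 692, 851, 685, 1416, 639, 1239, 527, 953, 1131, 800, 1175, 642, 118, 207, 392, 441, 6, 119, 208, 391],
    [434, 1420, 850, 691, 1030, 955, 797, 296, 526, 570, 17, 160, 295, 564, 1873, 1692, 1240, 1776, 1351, 1526, 1571],
    [1134, 1422, 1879, 1840, 1031, 1836, 1419, 1763, 793, 956, 1880, 1569, 293, 1780, 1345, 1640, 1128, 1779, 1534, 1029, 1337],
    [636, 1174, 1333, 1132, 1637, 849, 525, 640, 117, 210, 389, 442, 162, 689, 1242, 1166, 1754, 1349, 1562, 1695, 1339],
    [799, 567, 949, 1831, 1895, 1886, 1535, 1825, 1782, 1762, 1877, 1894, 1696, 1893, 1761, 1829, 1698, 1839, 1832, 1533, 1842],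
    [1352, 1570]]

/-- The parents in the generation of the Sylow 2-subgroup. -/
def sylParTab : List (List ℕ) :=
  [[0, 0, 1, 2, 3, 4, 5, 6, 8, 9, 10, 11, 12, 13, 16, 17, 18, 19, 20, 22, 24],
    [25, 26, 27, 29, 30, 32, 33, 34, 36, 37, 38, 40, 41, 43, 44, 45, 46, 48, 50, 51, 52],
    [53, 62, 68, 69, 75, 82, 83, 86, 87, 88, 90, 92, 93, 95, 101, 102, 104, 107, 109, 114, 115],
    [118, 125, 127, 130, 139, 144, 145, 150, 152, 153, 156, 158, 160, 163, 165, 180, 187, 192, 193, 195, 209],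
    [215, 216, 222, 230, 244, 251, 258, 265, 267, 268, 269, 270, 278, 285, 292, 299, 305, 312, 319, 326, 335],
    [363, 368, 390, 396, 402, 405, 410, 433, 449, 452, 460, 467, 473, 481, 487, 495, 544, 550, 573, 610, 612],
    [627, 683]]

/-- Products and fusions leading from the central involution to the generators. -/
def fusSteps : List (ℕ × ℕ × ℕ × ℕ × ℕ) :=
  [(0, 13, 2, 0, 1831),
    (0, 13, 13, 0, 1571),
    (1, 13, 1571, 0, 1351),
    (1, 1571, 1831, 0, 204),
    (0, 13, 53, 0, 1873),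
    (1, 13, 1873, 0, 1776),
    (1, 204, 1776, 0, 685),
    (1, 1351, 685, 0, 443),
    (0, 13, 274, 0, 1526),
    (1, 204, 1526, 0, 953),
    (1, 443, 953, 0, 110),
    (1, 685, 110, 0, 385),
    (0, 110, 53, 0, 850),
    (1, 13, 850, 0, 692),
    (1, 110, 692, 0, 526),
    (1, 385, 526, 0, 3),
    (0, 3, 53, 0, 689),
    (1, 3, 689, 0, 208),
    (1, 13, 208, 0, 295),
    (1, 204, 295, 0, 4)]

end Cfsg.Lib.J2
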