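import Cfsg.Agent.Lib.J2.Hundred

/-!
# Certificate tables: a point stabiliser on one hundred points and the unitary group `U3(3)`
-/

set_option autoImplicit false
set_option linter.style.longLine false

namespace Cfsg.Lib.J2.Pt

/-- Two stabiliser elements as words in the generators. -/
def word : Fin 2 → List (Fin 4) := ![[0, 2, 3, 1, 0, 2, 0, 2, 3, 2, 1, 3, 1, 2], [1]]

/-- Two unitary matrices, nine values per entry. -/
def matCode : Fin 2 → ℕ := ![185113052, 74059713]

/-- The sixty-three non-isotropic points. -/
def vecTab : ℕ := 0x2d1778eba018d26a2f4f2b670cd0995721fe144869b6a24a55c13b21d538a776109189933ab5ba31e5c5a47682d18a499f9054e02abf7326e5ec37a91b194d60070a3149e73d0012ac5a7bcfc02451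

/-- The orbit of length sixty-three, indexed by the points. -/
def bigTab : ℕ := 0x70a82546ed2356468bf3f4a3bb355c4338d0673db36e596523a1a060917320384c5871205b90f82489aabc692943c32707018a220d5d5d

/-- The generators on sixty-three letters. -/
def bigPi : Fin 2 → ℕ := ![0x1a4e41b4ad9e1ecc1b174bb9a01e3bba6d5251f76885743c7c228a94867604c1ffaf95000c3cb3b92b55a9ded0b270d, 0x2f10980c4b8ab652e64184ffb456c7770239a7962a24c7b7c5acb1d8cda211b752b958dc0e43a713f176c27bd0c6ca9]

/-- The orbit of length thirty-six. -/
def smallTab : ℕ := 0xc512e175864f4f9a961213b43194bc4df281829bcc5b15a364d4efd4ac15e04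

/-- The generators on thirty-six letters. -/
def smallPi : Fin 2 → ℕ := ![0x7d632316282151d79c09b6996175524d140f38d2ca2481c61000c1, 0x8e26da65e61c8607dd5d154f4ce59051234928b3072060c4140042]

end Cfsg.Lib.J2.Pt
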