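import Cfsg.Agent.Lib.J2.Ico

/-!
# Units, short icosians and line representatives (tables)
-/

set_option autoImplicit false
set_option maxRecDepth 4000

namespace Cfsg.Lib.J2

/-- A triple of icosians. -/
structure Vec where
  x : Ico
  y : Ico
  z : Ico

/-- Table lookup in a two-level list. -/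
def tget {α : Type} (d : α) (tab : List (List α)) (i : ℕ) : α :=
  (tab.getD (i / 21) []).getD (i % 21) d

/-- The 120 icosians of norm one. -/
def unitTab : List (List Ico) :=
  [[⟨-4, 0, 0, 0, 0, 0, 0, 0⟩, ⟨-2, 0, -2, 0, -2, 0, -2, 0⟩, ⟨-2, 0, -2, 0, -2, 0, 2, 0⟩, ⟨-2, 0, -2, 0, 2, 0, -2, 0⟩, ⟨-2, 0, -2, 0, 2, 0, 2, 0⟩, ⟨-2, 0, -1, -1, -1, 1, 0, 0⟩, ⟨-2, 0, -1, -1, 1, -1, 0, 0⟩, ⟨-2, 0, -1, 1, 0, 0, -1, -1⟩, ⟨-2, 0, -1, 1, 0, 0, 1, 1⟩, ⟨-2, 0, 0, 0, -1, -1, -1, 1⟩, ⟨-2, 0, 0, 0, -1, -1, 1, -1⟩, ⟨-2, 0, 0, 0, 1, 1, -1, 1⟩, ⟨-2, 0, 0, 0, 1, 1, 1, -1⟩,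 ⟨-2, 0, 1, -1, 0, 0, -1, -1⟩, ⟨-2, 0, 1, -1, 0, 0, 1, 1⟩, ⟨-2, 0, 1, 1, -1, 1, 0, 0⟩, ⟨-2, 0, 1, 1, 1, -1, 0, 0⟩, ⟨-2, 0, 2, 0, -2, 0, -2, 0⟩, ⟨-2, 0, 2, 0, -2, 0, 2, 0⟩, ⟨-2, 0, 2, 0, 2, 0, -2, 0⟩, ⟨-2, 0, 2, 0, 2, 0, 2, 0⟩],
    [⟨-1, -1, -2, 0, 0, 0, -1, 1⟩, ⟨-1, -1, -2, 0, 0, 0, 1, -1⟩, ⟨-1, -1, -1, 1, -2, 0, 0, 0⟩, ⟨-1, -1, -1, 1, 2, 0, 0, 0⟩, ⟨-1, -1, 0, 0, -1, 1, -2, 0⟩, ⟨-1, -1, 0, 0, -1, 1, 2, 0⟩, ⟨-1, -1, 0, 0, 1, -1, -2, 0⟩, ⟨-1, -1, 0, 0, 1, -1, 2, 0⟩, ⟨-1, -1, 1, -1, -2, 0, 0, 0⟩, ⟨-1, -1, 1, -1, 2, 0, 0, 0⟩, ⟨-1, -1, 2, 0, 0, 0, -1, 1⟩,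 ⟨-1, -1, 2, 0, 0, 0, 1, -1⟩, ⟨-1, 1, -2, 0, -1, -1, 0, 0⟩, ⟨-1, 1, -2, 0, 1, 1, 0, 0⟩, ⟨-1, 1, -1, -1, 0, 0, -2, 0⟩, ⟨-1, 1, -1, -1, 0, 0, 2, 0⟩, ⟨-1, 1, 0, 0, -2, 0, -1, -1⟩, ⟨-1, 1, 0, 0, -2, 0, 1, 1⟩, ⟨-1, 1, 0, 0, 2, 0, -1, -1⟩, ⟨-1, 1, 0, 0, 2, 0, 1, 1⟩, ⟨-1, 1, 1, 1, 0, 0, -2, 0⟩],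
    [⟨-1, 1, 1, 1, 0, 0, 2, 0⟩, ⟨-1, 1, 2, 0, -1, -1, 0, 0⟩, ⟨-1, 1, 2, 0, 1, 1, 0, 0⟩, ⟨0, 0, -4, 0, 0, 0, 0, 0⟩, ⟨0, 0, -2, 0, -1, 1, -1, -1⟩, ⟨0, 0, -2, 0, -1, 1, 1, 1⟩, ⟨0, 0, -2, 0, 1, -1, -1, -1⟩, ⟨0, 0, -2, 0, 1, -1, 1, 1⟩, ⟨0, 0, -1, -1, -2, 0, -1, 1⟩, ⟨0, 0, -1, -1, -2, 0, 1, -1⟩, ⟨0, 0, -1, -1, 2, 0, -1, 1⟩, ⟨0, 0, -1, -1, 2, 0, 1, -1⟩, ⟨0, 0, -1, 1, -1, -1, -2, 0⟩, ⟨0, 0, -1, 1, -1, -1, 2, 0⟩, ⟨0, 0, -1, 1, 1, 1, -2, 0⟩, ⟨0, 0, -1, 1, 1, 1, 2, 0⟩, ⟨0, 0, 0, 0, -4, 0, 0, 0⟩, ⟨0, 0, 0, 0, 0, 0, -4, 0⟩, ⟨0, 0, 0, 0, 0, 0, 4, 0⟩, ⟨0, 0, 0, 0, 4,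 0, 0, 0⟩, ⟨0, 0, 1, -1, -1, -1, -2, 0⟩],
    [⟨0, 0, 1, -1, -1, -1, 2, 0⟩, ⟨0, 0, 1, -1, 1, 1, -2, 0⟩, ⟨0, 0, 1, -1, 1, 1, 2, 0⟩, ⟨0, 0, 1, 1, -2, 0, -1, 1⟩, ⟨0, 0, 1, 1, -2, 0, 1, -1⟩, ⟨0, 0, 1, 1, 2, 0, -1, 1⟩, ⟨0, 0, 1, 1, 2, 0, 1, -1⟩, ⟨0, 0, 2, 0, -1, 1, -1, -1⟩, ⟨0, 0, 2, 0, -1, 1, 1, 1⟩, ⟨0, 0, 2, 0, 1, -1, -1, -1⟩, ⟨0, 0, 2, 0, 1, -1, 1, 1⟩, ⟨0, 0, 4, 0, 0, 0, 0, 0⟩, ⟨1, -1, -2, 0, -1, -1, 0, 0⟩, ⟨1, -1, -2, 0, 1, 1, 0, 0⟩, ⟨1, -1, -1, -1, 0, 0, -2, 0⟩, ⟨1, -1, -1, -1, 0, 0, 2, 0⟩, ⟨1, -1, 0, 0, -2, 0, -1, -1⟩, ⟨1, -1, 0, 0, -2, 0, 1, 1⟩, ⟨1,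 -1, 0, 0, 2, 0, -1, -1⟩, ⟨1, -1, 0, 0, 2, 0, 1, 1⟩, ⟨1, -1, 1, 1, 0, 0, -2, 0⟩],
    [⟨1, -1, 1, 1, 0, 0, 2, 0⟩, ⟨1, -1, 2, 0, -1, -1, 0, 0⟩, ⟨1, -1, 2, 0, 1, 1, 0, 0⟩, ⟨1, 1, -2, 0, 0, 0, -1, 1⟩, ⟨1, 1, -2, 0, 0, 0, 1, -1⟩, ⟨1, 1, -1, 1, -2, 0, 0, 0⟩, ⟨1, 1, -1, 1, 2, 0, 0, 0⟩, ⟨1, 1, 0, 0, -1, 1, -2, 0⟩, ⟨1, 1, 0, 0, -1, 1, 2, 0⟩, ⟨1, 1, 0, 0, 1, -1, -2, 0⟩, ⟨1, 1, 0, 0, 1, -1, 2, 0⟩, ⟨1, 1, 1, -1, -2, 0, 0, 0⟩, ⟨1, 1, 1, -1, 2, 0, 0, 0⟩, ⟨1, 1, 2, 0, 0, 0, -1, 1⟩, ⟨1, 1, 2, 0, 0, 0, 1, -1⟩, ⟨2, 0, -2, 0, -2, 0, -2, 0⟩, ⟨2, 0, -2, 0, -2, 0, 2, 0⟩, ⟨2,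 0, -2, 0, 2, 0, -2, 0⟩, ⟨2, 0, -2, 0, 2, 0, 2, 0⟩, ⟨2, 0, -1, -1, -1, 1, 0, 0⟩, ⟨2, 0, -1, -1, 1, -1, 0, 0⟩],
    [⟨2, 0, -1, 1, 0, 0, -1, -1⟩, ⟨2, 0, -1, 1, 0, 0, 1, 1⟩, ⟨2, 0, 0, 0, -1, -1, -1, 1⟩, ⟨2, 0, 0, 0, -1, -1, 1, -1⟩, ⟨2, 0, 0, 0, 1, 1, -1, 1⟩, ⟨2, 0, 0, 0, 1, 1, 1, -1⟩, ⟨2, 0, 1, -1, 0, 0, -1, -1⟩, ⟨2, 0, 1, -1, 0, 0, 1, 1⟩, ⟨2, 0, 1, 1, -1, 1, 0, 0⟩, ⟨2, 0, 1, 1, 1, -1, 0, 0⟩, ⟨2, 0, 2, 0, -2, 0, -2, 0⟩, ⟨2, 0, 2, 0, -2, 0, 2, 0⟩, ⟨2, 0, 2, 0, 2, 0, -2, 0⟩, ⟨2, 0, 2, 0, 2, 0, 2, 0⟩, ⟨4, 0, 0, 0, 0, 0, 0, 0⟩]]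

/-- The icosians of norm two congruent to one modulo the ideal of `h`. -/
def nearTab : List Ico :=
  [⟨-2, 0, -2, 0, -2, 0, 0, -2⟩, ⟨-2, 0, -2, 0, 0, -2, -2, 0⟩, ⟨-2, 0, -2, 0, 0, 2, 2, 0⟩, ⟨-2, 0, -2, 0, 2, 0, 0, 2⟩, ⟨-2, 0, 0, -2, -2, 0, -2, 0⟩, ⟨-2, 0, 0, -2, 2, 0, 2, 0⟩, ⟨-2, 0, 0, 2, -2, 0, 2, 0⟩, ⟨-2, 0, 0, 2, 2, 0, -2, 0⟩, ⟨-2, 0, 2, 0, -2, 0, 0, 2⟩, ⟨-2, 0, 2, 0, 0, -2, 2, 0⟩, ⟨-2, 0, 2, 0, 0, 2, -2, 0⟩, ⟨-2, 0, 2, 0, 2, 0, 0, -2⟩, ⟨0, -2, -2, 0, -2, 0, -2, 0⟩, ⟨0, -2, -2, 0, 2, 0, 2, 0⟩, ⟨0, -2, 2, 0, -2, 0, 2, 0⟩, ⟨0, -2, 2, 0, 2, 0, -2, 0⟩,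 ⟨0, 2, -2, 0, -2, 0, 2, 0⟩, ⟨0, 2, -2, 0, 2, 0, -2, 0⟩, ⟨0, 2, 2, 0, -2, 0, -2, 0⟩, ⟨0, 2, 2, 0, 2, 0, 2, 0⟩, ⟨2, 0, -2, 0, -2, 0, 0, 2⟩, ⟨2, 0, -2, 0, 0, -2, 2, 0⟩, ⟨2, 0, -2, 0, 0, 2, -2, 0⟩, ⟨2, 0, -2, 0, 2, 0, 0, -2⟩, ⟨2, 0, 0, -2, -2, 0, 2, 0⟩, ⟨2, 0, 0, -2, 2, 0, -2, 0⟩, ⟨2, 0, 0, 2, -2, 0, -2, 0⟩, ⟨2, 0, 0, 2, 2, 0, 2, 0⟩, ⟨2, 0, 2, 0, -2, 0, 0, -2⟩, ⟨2, 0, 2, 0, 0, -2, -2, 0⟩, ⟨2, 0, 2, 0, 0, 2, 2, 0⟩, ⟨2, 0, 2, 0, 2, 0, 0, 2⟩]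

/-- Representatives of the 315 lines of minimal vectors. -/
def lineTab : List (List Vec) :=
  [[⟨⟨8, 0, 0, 0, 0, 0, 0, 0⟩, ⟨0, 0, 0, 0, 0, 0, 0, 0⟩, ⟨0, 0, 0, 0, 0, 0, 0, 0⟩⟩,
      ⟨⟨0, 0, 0, 0, 0, 0, 0, 0⟩, ⟨8, 0, 0, 0, 0, 0, 0, 0⟩, ⟨0, 0, 0, 0, 0, 0, 0, 0⟩⟩,
      ⟨⟨0, 0, 0, 0, 0, 0, 0, 0⟩, ⟨0, 0, 0, 0, 0, 0, 0, 0⟩, ⟨8, 0, 0, 0, 0, 0, 0, 0⟩⟩,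
      ⟨⟨0, 0, 0, 0, 0, 0, 0, 0⟩, ⟨0, 2, -2, 0, -2, 0, -2, 0⟩, ⟨0, -2, 2, 0, 2, 0, 2, 0⟩⟩,
      ⟨⟨0, 0, 0, 0, 0, 0, 0, 0⟩, ⟨2, 0, 0, 2, -2, 0, 2, 0⟩, ⟨0, -2, 2, 0, 2, 0, 2, 0⟩⟩,
      ⟨⟨0, 0, 0, 0, 0, 0, 0, 0⟩, ⟨2, 0, 2, 0, 0, 2, -2, 0⟩, ⟨0, -2, 2, 0, 2, 0, 2, 0⟩⟩,
      ⟨⟨0, 0, 0, 0, 0, 0, 0, 0⟩, ⟨2, 0, -2, 0, 2, 0, 0, 2⟩, ⟨0, -2, 2, 0, 2, 0, 2, 0⟩⟩,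
      ⟨⟨0, 0, 0, 0, 0, 0, 0, 0⟩, ⟨-2, 0, 2, 0, -2, 0, 0, -2⟩, ⟨0, -2, 2, 0, 2, 0, 2, 0⟩⟩,
      ⟨⟨0, 0, 0, 0, 0, 0, 0, 0⟩, ⟨-2, 0, -2, 0, 0, -2, 2, 0⟩, ⟨0, -2, 2, 0, 2, 0, 2, 0⟩⟩,
      ⟨⟨0, 0, 0, 0, 0, 0, 0, 0⟩, ⟨-2, 0, 0, -2, 2, 0, -2, 0⟩, ⟨0, -2, 2, 0, 2, 0, 2, 0⟩⟩,
      ⟨⟨0, 0, 0, 0, 0, 0, 0, 0⟩, ⟨0, -2, 2, 0, 2, 0, 2, 0⟩, ⟨0, -2, 2, 0, 2, 0, 2, 0⟩⟩,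
      ⟨⟨0, 2, -2, 0, -2, 0, -2, 0⟩, ⟨0, 0, 0, 0, 0, 0, 0, 0⟩, ⟨0, -2, 2, 0, 2, 0, 2, 0⟩⟩,
      ⟨⟨2, 0, 0, 2, -2, 0, 2, 0⟩, ⟨0, 0, 0, 0, 0, 0, 0, 0⟩, ⟨0, -2, 2, 0, 2, 0, 2, 0⟩⟩,
      ⟨⟨2, 0, 2, 0, 0, 2, -2, 0⟩, ⟨0, 0, 0, 0, 0, 0, 0, 0⟩, ⟨0, -2, 2, 0, 2, 0, 2, 0⟩⟩,
      ⟨⟨2, 0, -2, 0, 2, 0, 0, 2⟩, ⟨0, 0, 0, 0, 0, 0, 0, 0⟩, ⟨0, -2, 2, 0, 2, 0, 2, 0⟩⟩,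
      ⟨⟨-2, 0, 2, 0, -2, 0, 0, -2⟩, ⟨0, 0, 0, 0, 0, 0, 0, 0⟩, ⟨0, -2, 2, 0, 2, 0, 2, 0⟩⟩,
      ⟨⟨-2, 0, -2, 0, 0, -2, 2, 0⟩, ⟨0, 0, 0, 0, 0, 0, 0, 0⟩, ⟨0, -2, 2, 0, 2, 0, 2, 0⟩⟩,
      ⟨⟨-2, 0, 0, -2, 2, 0, -2, 0⟩, ⟨0, 0, 0, 0, 0, 0, 0, 0⟩, ⟨0, -2, 2, 0, 2, 0, 2, 0⟩⟩,
      ⟨⟨0, -2, 2, 0, 2, 0, 2, 0⟩, ⟨0, 0, 0, 0, 0, 0, 0, 0⟩, ⟨0, -2, 2, 0, 2, 0, 2, 0⟩⟩,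
      ⟨⟨0, 2, -2, 0, -2, 0, -2, 0⟩, ⟨0, -2, 2, 0, 2, 0, 2, 0⟩, ⟨0, 0, 0, 0, 0, 0, 0, 0⟩⟩,
      ⟨⟨2, 0, 0, 2, -2, 0, 2, 0⟩, ⟨0, -2, 2, 0, 2, 0, 2, 0⟩, ⟨0, 0, 0, 0, 0, 0, 0, 0⟩⟩],
    [⟨⟨2, 0, 2, 0, 0, 2, -2, 0⟩, ⟨0, -2, 2, 0, 2, 0, 2, 0⟩, ⟨0, 0, 0, 0, 0, 0, 0, 0⟩⟩,
      ⟨⟨2, 0, -2, 0, 2, 0, 0, 2⟩, ⟨0, -2, 2, 0, 2, 0, 2, 0⟩, ⟨0, 0, 0, 0, 0, 0, 0, 0⟩⟩,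
      ⟨⟨-2, 0, 2, 0, -2, 0, 0, -2⟩, ⟨0, -2, 2, 0, 2, 0, 2, 0⟩, ⟨0, 0, 0, 0, 0, 0, 0, 0⟩⟩,
      ⟨⟨-2, 0, -2, 0, 0, -2, 2, 0⟩, ⟨0, -2, 2, 0, 2, 0, 2, 0⟩, ⟨0, 0, 0, 0, 0, 0, 0, 0⟩⟩,
      ⟨⟨-2, 0, 0, -2, 2, 0, -2, 0⟩, ⟨0, -2, 2, 0, 2, 0, 2, 0⟩, ⟨0, 0, 0, 0, 0, 0, 0, 0⟩⟩,
      ⟨⟨0, -2, 2, 0, 2, 0, 2, 0⟩, ⟨0, -2, 2, 0, 2, 0, 2, 0⟩, ⟨0, 0, 0, 0, 0, 0, 0, 0⟩⟩,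
      ⟨⟨-2, 0, -2, 0, 2, 0, 0, 2⟩, ⟨4, 0, 0, 0, 0, 0, 0, 0⟩, ⟨-4, 0, 0, 0, 0, 0, 0, 0⟩⟩,
      ⟨⟨-2, 0, 0, 2, -2, 0, 2, 0⟩, ⟨4, 0, 0, 0, 0, 0, 0, 0⟩, ⟨-4, 0, 0, 0, 0, 0, 0, 0⟩⟩,
      ⟨⟨-2, 0, 2, 0, 0, 2, -2, 0⟩, ⟨4, 0, 0, 0, 0, 0, 0, 0⟩, ⟨-4, 0, 0, 0, 0, 0, 0, 0⟩⟩,
      ⟨⟨0, -2, -2, 0, -2, 0, -2, 0⟩, ⟨4, 0, 0, 0, 0, 0, 0, 0⟩, ⟨-4, 0, 0, 0, 0, 0, 0, 0⟩⟩,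
      ⟨⟨0, 2, 2, 0, 2, 0, 2, 0⟩, ⟨4, 0, 0, 0, 0, 0, 0, 0⟩, ⟨-4, 0, 0, 0, 0, 0, 0, 0⟩⟩,
      ⟨⟨2, 0, -2, 0, 0, -2, 2, 0⟩, ⟨4, 0, 0, 0, 0, 0, 0, 0⟩, ⟨-4, 0, 0, 0, 0, 0, 0, 0⟩⟩,
      ⟨⟨2, 0, 0, -2, 2, 0, -2, 0⟩, ⟨4, 0, 0, 0, 0, 0, 0, 0⟩, ⟨-4, 0, 0, 0, 0, 0, 0, 0⟩⟩,
      ⟨⟨2, 0, 2, 0, -2, 0, 0, -2⟩, ⟨4, 0, 0, 0, 0, 0, 0, 0⟩, ⟨-4, 0, 0, 0, 0, 0, 0, 0⟩⟩,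
      ⟨⟨-2, 0, -2, 0, -2, 0, 0, -2⟩, ⟨4, 0, 0, 0, 0, 0, 0, 0⟩, ⟨0, 0, -4, 0, 0, 0, 0, 0⟩⟩,
      ⟨⟨-2, 0, 0, 2, 2, 0, -2, 0⟩, ⟨4, 0, 0, 0, 0, 0, 0, 0⟩, ⟨0, 0, -4, 0, 0, 0, 0, 0⟩⟩,
      ⟨⟨-2, 0, 2, 0, 0, -2, 2, 0⟩, ⟨4, 0, 0, 0, 0, 0, 0, 0⟩, ⟨0, 0, -4, 0, 0, 0, 0, 0⟩⟩,
      ⟨⟨0, -2, -2, 0, 2, 0, 2, 0⟩, ⟨4, 0, 0, 0, 0, 0, 0, 0⟩, ⟨0, 0, -4, 0, 0, 0, 0, 0⟩⟩,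
      ⟨⟨0, 2, 2, 0, -2, 0, -2, 0⟩, ⟨4, 0, 0, 0, 0, 0, 0, 0⟩, ⟨0, 0, -4, 0, 0, 0, 0, 0⟩⟩,
      ⟨⟨2, 0, -2, 0, 0, 2, -2, 0⟩, ⟨4, 0, 0, 0, 0, 0, 0, 0⟩, ⟨0, 0, -4, 0, 0, 0, 0, 0⟩⟩,
      ⟨⟨2, 0, 0, -2, -2, 0, 2, 0⟩, ⟨4, 0, 0, 0, 0, 0, 0, 0⟩, ⟨0, 0, -4, 0, 0, 0, 0, 0⟩⟩],
    [⟨⟨2, 0, 2, 0, 2, 0, 0, 2⟩, ⟨4, 0, 0, 0, 0, 0, 0, 0⟩, ⟨0, 0, -4, 0, 0, 0, 0, 0⟩⟩,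
      ⟨⟨-2, 0, -2, 0, 0, 2, 2, 0⟩, ⟨4, 0, 0, 0, 0, 0, 0, 0⟩, ⟨0, 0, 0, 0, -4, 0, 0, 0⟩⟩,
      ⟨⟨-2, 0, 0, -2, -2, 0, -2, 0⟩, ⟨4, 0, 0, 0, 0, 0, 0, 0⟩, ⟨0, 0, 0, 0, -4, 0, 0, 0⟩⟩,
      ⟨⟨-2, 0, 2, 0, 2, 0, 0, -2⟩, ⟨4, 0, 0, 0, 0, 0, 0, 0⟩, ⟨0, 0, 0, 0, -4, 0, 0, 0⟩⟩,
      ⟨⟨0, -2, 2, 0, -2, 0, 2, 0⟩, ⟨4, 0, 0, 0, 0, 0, 0, 0⟩, ⟨0, 0, 0, 0, -4, 0, 0, 0⟩⟩,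
      ⟨⟨0, 2, -2, 0, 2, 0, -2, 0⟩, ⟨4, 0, 0, 0, 0, 0, 0, 0⟩, ⟨0, 0, 0, 0, -4, 0, 0, 0⟩⟩,
      ⟨⟨2, 0, -2, 0, -2, 0, 0, 2⟩, ⟨4, 0, 0, 0, 0, 0, 0, 0⟩, ⟨0, 0, 0, 0, -4, 0, 0, 0⟩⟩,
      ⟨⟨2, 0, 0, 2, 2, 0, 2, 0⟩, ⟨4, 0, 0, 0, 0, 0, 0, 0⟩, ⟨0, 0, 0, 0, -4, 0, 0, 0⟩⟩,
      ⟨⟨2, 0, 2, 0, 0, -2, -2, 0⟩, ⟨4, 0, 0, 0, 0, 0, 0, 0⟩, ⟨0, 0, 0, 0, -4, 0, 0, 0⟩⟩,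
      ⟨⟨-2, 0, -2, 0, 0, -2, -2, 0⟩, ⟨4, 0, 0, 0, 0, 0, 0, 0⟩, ⟨0, 0, 0, 0, 0, 0, -4, 0⟩⟩,
      ⟨⟨-2, 0, 0, -2, 2, 0, 2, 0⟩, ⟨4, 0, 0, 0, 0, 0, 0, 0⟩, ⟨0, 0, 0, 0, 0, 0, -4, 0⟩⟩,
      ⟨⟨-2, 0, 2, 0, -2, 0, 0, 2⟩, ⟨4, 0, 0, 0, 0, 0, 0, 0⟩, ⟨0, 0, 0, 0, 0, 0, -4, 0⟩⟩,
      ⟨⟨0, -2, 2, 0, 2, 0, -2, 0⟩, ⟨4, 0, 0, 0, 0, 0, 0, 0⟩, ⟨0, 0, 0, 0, 0, 0, -4, 0⟩⟩,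
      ⟨⟨0, 2, -2, 0, -2, 0, 2, 0⟩, ⟨4, 0, 0, 0, 0, 0, 0, 0⟩, ⟨0, 0, 0, 0, 0, 0, -4, 0⟩⟩,
      ⟨⟨2, 0, -2, 0, 2, 0, 0, -2⟩, ⟨4, 0, 0, 0, 0, 0, 0, 0⟩, ⟨0, 0, 0, 0, 0, 0, -4, 0⟩⟩,
      ⟨⟨2, 0, 0, 2, -2, 0, -2, 0⟩, ⟨4, 0, 0, 0, 0, 0, 0, 0⟩, ⟨0, 0, 0, 0, 0, 0, -4, 0⟩⟩,
      ⟨⟨2, 0, 2, 0, 0, 2, 2, 0⟩, ⟨4, 0, 0, 0, 0, 0, 0, 0⟩, ⟨0, 0, 0, 0, 0, 0, -4, 0⟩⟩,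
      ⟨⟨-2, 0, -2, 0, 0, -2, -2, 0⟩, ⟨4, 0, 0, 0, 0, 0, 0, 0⟩, ⟨0, 0, 0, 0, 0, 0, 4, 0⟩⟩,
      ⟨⟨-2, 0, 0, -2, 2, 0, 2, 0⟩, ⟨4, 0, 0, 0, 0, 0, 0, 0⟩, ⟨0, 0, 0, 0, 0, 0, 4, 0⟩⟩,
      ⟨⟨-2, 0, 2, 0, -2, 0, 0, 2⟩, ⟨4, 0, 0, 0, 0, 0, 0, 0⟩, ⟨0, 0, 0, 0, 0, 0, 4, 0⟩⟩,
      ⟨⟨0, -2, 2, 0, 2, 0, -2, 0⟩, ⟨4, 0, 0, 0, 0, 0, 0, 0⟩, ⟨0, 0, 0, 0, 0, 0, 4, 0⟩⟩],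
    [⟨⟨0, 2, -2, 0, -2, 0, 2, 0⟩, ⟨4, 0, 0, 0, 0, 0, 0, 0⟩, ⟨0, 0, 0, 0, 0, 0, 4, 0⟩⟩,
      ⟨⟨2, 0, -2, 0, 2, 0, 0, -2⟩, ⟨4, 0, 0, 0, 0, 0, 0, 0⟩, ⟨0, 0, 0, 0, 0, 0, 4, 0⟩⟩,
      ⟨⟨2, 0, 0, 2, -2, 0, -2, 0⟩, ⟨4, 0, 0, 0, 0, 0, 0, 0⟩, ⟨0, 0, 0, 0, 0, 0, 4, 0⟩⟩,
      ⟨⟨2, 0, 2, 0, 0, 2, 2, 0⟩, ⟨4, 0, 0, 0, 0, 0, 0, 0⟩, ⟨0, 0, 0, 0, 0, 0, 4, 0⟩⟩,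
      ⟨⟨-2, 0, -2, 0, 0, 2, 2, 0⟩, ⟨4, 0, 0, 0, 0, 0, 0, 0⟩, ⟨0, 0, 0, 0, 4, 0, 0, 0⟩⟩,
      ⟨⟨-2, 0, 0, -2, -2, 0, -2, 0⟩, ⟨4, 0, 0, 0, 0, 0, 0, 0⟩, ⟨0, 0, 0, 0, 4, 0, 0, 0⟩⟩,
      ⟨⟨-2, 0, 2, 0, 2, 0, 0, -2⟩, ⟨4, 0, 0, 0, 0, 0, 0, 0⟩, ⟨0, 0, 0, 0, 4, 0, 0, 0⟩⟩,
      ⟨⟨0, -2, 2, 0, -2, 0, 2, 0⟩, ⟨4, 0, 0, 0, 0, 0, 0, 0⟩, ⟨0, 0, 0, 0, 4, 0, 0, 0⟩⟩,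
      ⟨⟨0, 2, -2, 0, 2, 0, -2, 0⟩, ⟨4, 0, 0, 0, 0, 0, 0, 0⟩, ⟨0, 0, 0, 0, 4, 0, 0, 0⟩⟩,
      ⟨⟨2, 0, -2, 0, -2, 0, 0, 2⟩, ⟨4, 0, 0, 0, 0, 0, 0, 0⟩, ⟨0, 0, 0, 0, 4, 0, 0, 0⟩⟩,
      ⟨⟨2, 0, 0, 2, 2, 0, 2, 0⟩, ⟨4, 0, 0, 0, 0, 0, 0, 0⟩, ⟨0, 0, 0, 0, 4, 0, 0, 0⟩⟩,
      ⟨⟨2, 0, 2, 0, 0, -2, -2, 0⟩, ⟨4, 0, 0, 0, 0, 0, 0, 0⟩, ⟨0, 0, 0, 0, 4, 0, 0, 0⟩⟩,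
      ⟨⟨-2, 0, -2, 0, -2, 0, 0, -2⟩, ⟨4, 0, 0, 0, 0, 0, 0, 0⟩, ⟨0, 0, 4, 0, 0, 0, 0, 0⟩⟩,
      ⟨⟨-2, 0, 0, 2, 2, 0, -2, 0⟩, ⟨4, 0, 0, 0, 0, 0, 0, 0⟩, ⟨0, 0, 4, 0, 0, 0, 0, 0⟩⟩,
      ⟨⟨-2, 0, 2, 0, 0, -2, 2, 0⟩, ⟨4, 0, 0, 0, 0, 0, 0, 0⟩, ⟨0, 0, 4, 0, 0, 0, 0, 0⟩⟩,
      ⟨⟨0, -2, -2, 0, 2, 0, 2, 0⟩, ⟨4, 0, 0, 0, 0, 0, 0, 0⟩, ⟨0, 0, 4, 0, 0, 0, 0, 0⟩⟩,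
      ⟨⟨0, 2, 2, 0, -2, 0, -2, 0⟩, ⟨4, 0, 0, 0, 0, 0, 0, 0⟩, ⟨0, 0, 4, 0, 0, 0, 0, 0⟩⟩,
      ⟨⟨2, 0, -2, 0, 0, 2, -2, 0⟩, ⟨4, 0, 0, 0, 0, 0, 0, 0⟩, ⟨0, 0, 4, 0, 0, 0, 0, 0⟩⟩,
      ⟨⟨2, 0, 0, -2, -2, 0, 2, 0⟩, ⟨4, 0, 0, 0, 0, 0, 0, 0⟩, ⟨0, 0, 4, 0, 0, 0, 0, 0⟩⟩,
      ⟨⟨2, 0, 2, 0, 2, 0, 0, 2⟩, ⟨4, 0, 0, 0, 0, 0, 0, 0⟩, ⟨0, 0, 4, 0, 0, 0, 0, 0⟩⟩,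
      ⟨⟨-2, 0, -2, 0, 2, 0, 0, 2⟩, ⟨4, 0, 0, 0, 0, 0, 0, 0⟩, ⟨4, 0, 0, 0, 0, 0, 0, 0⟩⟩],
    [⟨⟨-2, 0, 0, 2, -2, 0, 2, 0⟩, ⟨4, 0, 0, 0, 0, 0, 0, 0⟩, ⟨4, 0, 0, 0, 0, 0, 0, 0⟩⟩,
      ⟨⟨-2, 0, 2, 0, 0, 2, -2, 0⟩, ⟨4, 0, 0, 0, 0, 0, 0, 0⟩, ⟨4, 0, 0, 0, 0, 0, 0, 0⟩⟩,
      ⟨⟨0, -2, -2, 0, -2, 0, -2, 0⟩, ⟨4, 0, 0, 0, 0, 0, 0, 0⟩, ⟨4, 0, 0, 0, 0, 0, 0, 0⟩⟩,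
      ⟨⟨0, 2, 2, 0, 2, 0, 2, 0⟩, ⟨4, 0, 0, 0, 0, 0, 0, 0⟩, ⟨4, 0, 0, 0, 0, 0, 0, 0⟩⟩,
      ⟨⟨2, 0, -2, 0, 0, -2, 2, 0⟩, ⟨4, 0, 0, 0, 0, 0, 0, 0⟩, ⟨4, 0, 0, 0, 0, 0, 0, 0⟩⟩,
      ⟨⟨2, 0, 0, -2, 2, 0, -2, 0⟩, ⟨4, 0, 0, 0, 0, 0, 0, 0⟩, ⟨4, 0, 0, 0, 0, 0, 0, 0⟩⟩,
      ⟨⟨2, 0, 2, 0, -2, 0, 0, -2⟩, ⟨4, 0, 0, 0, 0, 0, 0, 0⟩, ⟨4, 0, 0, 0, 0, 0, 0, 0⟩⟩,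
      ⟨⟨4, 0, 0, 0, 0, 0, 0, 0⟩, ⟨-2, 0, -2, 0, 2, 0, 0, 2⟩, ⟨-4, 0, 0, 0, 0, 0, 0, 0⟩⟩,
      ⟨⟨4, 0, 0, 0, 0, 0, 0, 0⟩, ⟨-2, 0, 0, 2, -2, 0, 2, 0⟩, ⟨-4, 0, 0, 0, 0, 0, 0, 0⟩⟩,
      ⟨⟨4, 0, 0, 0, 0, 0, 0, 0⟩, ⟨-2, 0, 2, 0, 0, 2, -2, 0⟩, ⟨-4, 0, 0, 0, 0, 0, 0, 0⟩⟩,
      ⟨⟨4, 0, 0, 0, 0, 0, 0, 0⟩, ⟨0, -2, -2, 0, -2, 0, -2, 0⟩, ⟨-4, 0, 0, 0, 0, 0, 0, 0⟩⟩,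
      ⟨⟨4, 0, 0, 0, 0, 0, 0, 0⟩, ⟨0, 2, 2, 0, 2, 0, 2, 0⟩, ⟨-4, 0, 0, 0, 0, 0, 0, 0⟩⟩,
      ⟨⟨4, 0, 0, 0, 0, 0, 0, 0⟩, ⟨2, 0, -2, 0, 0, -2, 2, 0⟩, ⟨-4, 0, 0, 0, 0, 0, 0, 0⟩⟩,
      ⟨⟨4, 0, 0, 0, 0, 0, 0, 0⟩, ⟨2, 0, 0, -2, 2, 0, -2, 0⟩, ⟨-4, 0, 0, 0, 0, 0, 0, 0⟩⟩,
      ⟨⟨4, 0, 0, 0, 0, 0, 0, 0⟩, ⟨2, 0, 2, 0, -2, 0, 0, -2⟩, ⟨-4, 0, 0, 0, 0, 0, 0, 0⟩⟩,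
      ⟨⟨4, 0, 0, 0, 0, 0, 0, 0⟩, ⟨-2, 0, -2, 0, -2, 0, 0, -2⟩, ⟨0, 0, -4, 0, 0, 0, 0, 0⟩⟩,
      ⟨⟨4, 0, 0, 0, 0, 0, 0, 0⟩, ⟨-2, 0, 0, 2, 2, 0, -2, 0⟩, ⟨0, 0, -4, 0, 0, 0, 0, 0⟩⟩,
      ⟨⟨4, 0, 0, 0, 0, 0, 0, 0⟩, ⟨-2, 0, 2, 0, 0, -2, 2, 0⟩, ⟨0, 0, -4, 0, 0, 0, 0, 0⟩⟩,
      ⟨⟨4, 0, 0, 0, 0, 0, 0, 0⟩, ⟨0, -2, -2, 0, 2, 0, 2, 0⟩, ⟨0, 0, -4, 0, 0, 0, 0, 0⟩⟩,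
      ⟨⟨4, 0, 0, 0, 0, 0, 0, 0⟩, ⟨0, 2, 2, 0, -2, 0, -2, 0⟩, ⟨0, 0, -4, 0, 0, 0, 0, 0⟩⟩,
      ⟨⟨4, 0, 0, 0, 0, 0, 0, 0⟩, ⟨2, 0, -2, 0, 0, 2, -2, 0⟩, ⟨0, 0, -4, 0, 0, 0, 0, 0⟩⟩],
    [⟨⟨4, 0, 0, 0, 0, 0, 0, 0⟩, ⟨2, 0, 0, -2, -2, 0, 2, 0⟩, ⟨0, 0, -4, 0, 0, 0, 0, 0⟩⟩,
      ⟨⟨4, 0, 0, 0, 0, 0, 0, 0⟩, ⟨2, 0, 2, 0, 2, 0, 0, 2⟩, ⟨0, 0, -4, 0, 0, 0, 0, 0⟩⟩,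
      ⟨⟨4, 0, 0, 0, 0, 0, 0, 0⟩, ⟨-2, 0, -2, 0, 0, 2, 2, 0⟩, ⟨0, 0, 0, 0, -4, 0, 0, 0⟩⟩,
      ⟨⟨4, 0, 0, 0, 0, 0, 0, 0⟩, ⟨-2, 0, 0, -2, -2, 0, -2, 0⟩, ⟨0, 0, 0, 0, -4, 0, 0, 0⟩⟩,
      ⟨⟨4, 0, 0, 0, 0, 0, 0, 0⟩, ⟨-2, 0, 2, 0, 2, 0, 0, -2⟩, ⟨0, 0, 0, 0, -4, 0, 0, 0⟩⟩,
      ⟨⟨4, 0, 0, 0, 0, 0, 0, 0⟩, ⟨0, -2, 2, 0, -2, 0, 2, 0⟩, ⟨0, 0, 0, 0, -4, 0, 0, 0⟩⟩,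
      ⟨⟨4, 0, 0, 0, 0, 0, 0, 0⟩, ⟨0, 2, -2, 0, 2, 0, -2, 0⟩, ⟨0, 0, 0, 0, -4, 0, 0, 0⟩⟩,
      ⟨⟨4, 0, 0, 0, 0, 0, 0, 0⟩, ⟨2, 0, -2, 0, -2, 0, 0, 2⟩, ⟨0, 0, 0, 0, -4, 0, 0, 0⟩⟩,
      ⟨⟨4, 0, 0, 0, 0, 0, 0, 0⟩, ⟨2, 0, 0, 2, 2, 0, 2, 0⟩, ⟨0, 0, 0, 0, -4, 0, 0, 0⟩⟩,
      ⟨⟨4, 0, 0, 0, 0, 0, 0, 0⟩, ⟨2, 0, 2, 0, 0, -2, -2, 0⟩, ⟨0, 0, 0, 0, -4, 0, 0, 0⟩⟩,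
      ⟨⟨4, 0, 0, 0, 0, 0, 0, 0⟩, ⟨-2, 0, -2, 0, 0, -2, -2, 0⟩, ⟨0, 0, 0, 0, 0, 0, -4, 0⟩⟩,
      ⟨⟨4, 0, 0, 0, 0, 0, 0, 0⟩, ⟨-2, 0, 0, -2, 2, 0, 2, 0⟩, ⟨0, 0, 0, 0, 0, 0, -4, 0⟩⟩,
      ⟨⟨4, 0, 0, 0, 0, 0, 0, 0⟩, ⟨-2, 0, 2, 0, -2, 0, 0, 2⟩, ⟨0, 0, 0, 0, 0, 0, -4, 0⟩⟩,
      ⟨⟨4, 0, 0, 0, 0, 0, 0, 0⟩, ⟨0, -2, 2, 0, 2, 0, -2, 0⟩, ⟨0, 0, 0, 0, 0, 0, -4, 0⟩⟩,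
      ⟨⟨4, 0, 0, 0, 0, 0, 0, 0⟩, ⟨0, 2, -2, 0, -2, 0, 2, 0⟩, ⟨0, 0, 0, 0, 0, 0, -4, 0⟩⟩,
      ⟨⟨4, 0, 0, 0, 0, 0, 0, 0⟩, ⟨2, 0, -2, 0, 2, 0, 0, -2⟩, ⟨0, 0, 0, 0, 0, 0, -4, 0⟩⟩,
      ⟨⟨4, 0, 0, 0, 0, 0, 0, 0⟩, ⟨2, 0, 0, 2, -2, 0, -2, 0⟩, ⟨0, 0, 0, 0, 0, 0, -4, 0⟩⟩,
      ⟨⟨4, 0, 0, 0, 0, 0, 0, 0⟩, ⟨2, 0, 2, 0, 0, 2, 2, 0⟩, ⟨0, 0, 0, 0, 0, 0, -4, 0⟩⟩,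
      ⟨⟨4, 0, 0, 0, 0, 0, 0, 0⟩, ⟨-2, 0, -2, 0, 0, -2, -2, 0⟩, ⟨0, 0, 0, 0, 0, 0, 4, 0⟩⟩,
      ⟨⟨4, 0, 0, 0, 0, 0, 0, 0⟩, ⟨-2, 0, 0, -2, 2, 0, 2, 0⟩, ⟨0, 0, 0, 0, 0, 0, 4, 0⟩⟩,
      ⟨⟨4, 0, 0, 0, 0, 0, 0, 0⟩, ⟨-2, 0, 2, 0, -2, 0, 0, 2⟩, ⟨0, 0, 0, 0, 0, 0, 4, 0⟩⟩],
    [⟨⟨4, 0, 0, 0, 0, 0, 0, 0⟩, ⟨0, -2, 2, 0, 2, 0, -2, 0⟩, ⟨0, 0, 0, 0, 0, 0, 4, 0⟩⟩,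
      ⟨⟨4, 0, 0, 0, 0, 0, 0, 0⟩, ⟨0, 2, -2, 0, -2, 0, 2, 0⟩, ⟨0, 0, 0, 0, 0, 0, 4, 0⟩⟩,
      ⟨⟨4, 0, 0, 0, 0, 0, 0, 0⟩, ⟨2, 0, -2, 0, 2, 0, 0, -2⟩, ⟨0, 0, 0, 0, 0, 0, 4, 0⟩⟩,
      ⟨⟨4, 0, 0, 0, 0, 0, 0, 0⟩, ⟨2, 0, 0, 2, -2, 0, -2, 0⟩, ⟨0, 0, 0, 0, 0, 0, 4, 0⟩⟩,
      ⟨⟨4, 0, 0, 0, 0, 0, 0, 0⟩, ⟨2, 0, 2, 0, 0, 2, 2, 0⟩, ⟨0, 0, 0, 0, 0, 0, 4, 0⟩⟩,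
      ⟨⟨4, 0, 0, 0, 0, 0, 0, 0⟩, ⟨-2, 0, -2, 0, 0, 2, 2, 0⟩, ⟨0, 0, 0, 0, 4, 0, 0, 0⟩⟩,
      ⟨⟨4, 0, 0, 0, 0, 0, 0, 0⟩, ⟨-2, 0, 0, -2, -2, 0, -2, 0⟩, ⟨0, 0, 0, 0, 4, 0, 0, 0⟩⟩,
      ⟨⟨4, 0, 0, 0, 0, 0, 0, 0⟩, ⟨-2, 0, 2, 0, 2, 0, 0, -2⟩, ⟨0, 0, 0, 0, 4, 0, 0, 0⟩⟩,
      ⟨⟨4, 0, 0, 0, 0, 0, 0, 0⟩, ⟨0, -2, 2, 0, -2, 0, 2, 0⟩, ⟨0, 0, 0, 0, 4, 0, 0, 0⟩⟩,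
      ⟨⟨4, 0, 0, 0, 0, 0, 0, 0⟩, ⟨0, 2, -2, 0, 2, 0, -2, 0⟩, ⟨0, 0, 0, 0, 4, 0, 0, 0⟩⟩,
      ⟨⟨4, 0, 0, 0, 0, 0, 0, 0⟩, ⟨2, 0, -2, 0, -2, 0, 0, 2⟩, ⟨0, 0, 0, 0, 4, 0, 0, 0⟩⟩,
      ⟨⟨4, 0, 0, 0, 0, 0, 0, 0⟩, ⟨2, 0, 0, 2, 2, 0, 2, 0⟩, ⟨0, 0, 0, 0, 4, 0, 0, 0⟩⟩,
      ⟨⟨4, 0, 0, 0, 0, 0, 0, 0⟩, ⟨2, 0, 2, 0, 0, -2, -2, 0⟩, ⟨0, 0, 0, 0, 4, 0, 0, 0⟩⟩,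
      ⟨⟨4, 0, 0, 0, 0, 0, 0, 0⟩, ⟨-2, 0, -2, 0, -2, 0, 0, -2⟩, ⟨0, 0, 4, 0, 0, 0, 0, 0⟩⟩,
      ⟨⟨4, 0, 0, 0, 0, 0, 0, 0⟩, ⟨-2, 0, 0, 2, 2, 0, -2, 0⟩, ⟨0, 0, 4, 0, 0, 0, 0, 0⟩⟩,
      ⟨⟨4, 0, 0, 0, 0, 0, 0, 0⟩, ⟨-2, 0, 2, 0, 0, -2, 2, 0⟩, ⟨0, 0, 4, 0, 0, 0, 0, 0⟩⟩,
      ⟨⟨4, 0, 0, 0, 0, 0, 0, 0⟩, ⟨0, -2, -2, 0, 2, 0, 2, 0⟩, ⟨0, 0, 4, 0, 0, 0, 0, 0⟩⟩,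
      ⟨⟨4, 0, 0, 0, 0, 0, 0, 0⟩, ⟨0, 2, 2, 0, -2, 0, -2, 0⟩, ⟨0, 0, 4, 0, 0, 0, 0, 0⟩⟩,
      ⟨⟨4, 0, 0, 0, 0, 0, 0, 0⟩, ⟨2, 0, -2, 0, 0, 2, -2, 0⟩, ⟨0, 0, 4, 0, 0, 0, 0, 0⟩⟩,
      ⟨⟨4, 0, 0, 0, 0, 0, 0, 0⟩, ⟨2, 0, 0, -2, -2, 0, 2, 0⟩, ⟨0, 0, 4, 0, 0, 0, 0, 0⟩⟩,
      ⟨⟨4, 0, 0, 0, 0, 0, 0, 0⟩, ⟨2, 0, 2, 0, 2, 0, 0, 2⟩, ⟨0, 0, 4, 0, 0, 0, 0, 0⟩⟩],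
    [⟨⟨4, 0, 0, 0, 0, 0, 0, 0⟩, ⟨-2, 0, -2, 0, 2, 0, 0, 2⟩, ⟨4, 0, 0, 0, 0, 0, 0, 0⟩⟩,
      ⟨⟨4, 0, 0, 0, 0, 0, 0, 0⟩, ⟨-2, 0, 0, 2, -2, 0, 2, 0⟩, ⟨4, 0, 0, 0, 0, 0, 0, 0⟩⟩,
      ⟨⟨4, 0, 0, 0, 0, 0, 0, 0⟩, ⟨-2, 0, 2, 0, 0, 2, -2, 0⟩, ⟨4, 0, 0, 0, 0, 0, 0, 0⟩⟩,
      ⟨⟨4, 0, 0, 0, 0, 0, 0, 0⟩, ⟨0, -2, -2, 0, -2, 0, -2, 0⟩, ⟨4, 0, 0, 0, 0, 0, 0, 0⟩⟩,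
      ⟨⟨4, 0, 0, 0, 0, 0, 0, 0⟩, ⟨0, 2, 2, 0, 2, 0, 2, 0⟩, ⟨4, 0, 0, 0, 0, 0, 0, 0⟩⟩,
      ⟨⟨4, 0, 0, 0, 0, 0, 0, 0⟩, ⟨2, 0, -2, 0, 0, -2, 2, 0⟩, ⟨4, 0, 0, 0, 0, 0, 0, 0⟩⟩,
      ⟨⟨4, 0, 0, 0, 0, 0, 0, 0⟩, ⟨2, 0, 0, -2, 2, 0, -2, 0⟩, ⟨4, 0, 0, 0, 0, 0, 0, 0⟩⟩,
      ⟨⟨4, 0, 0, 0, 0, 0, 0, 0⟩, ⟨2, 0, 2, 0, -2, 0, 0, -2⟩, ⟨4, 0, 0, 0, 0, 0, 0, 0⟩⟩,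
      ⟨⟨4, 0, 0, 0, 0, 0, 0, 0⟩, ⟨-4, 0, 0, 0, 0, 0, 0, 0⟩, ⟨-2, 0, -2, 0, 2, 0, 0, 2⟩⟩,
      ⟨⟨4, 0, 0, 0, 0, 0, 0, 0⟩, ⟨-4, 0, 0, 0, 0, 0, 0, 0⟩, ⟨-2, 0, 0, 2, -2, 0, 2, 0⟩⟩,
      ⟨⟨4, 0, 0, 0, 0, 0, 0, 0⟩, ⟨-4, 0, 0, 0, 0, 0, 0, 0⟩, ⟨-2, 0, 2, 0, 0, 2, -2, 0⟩⟩,
      ⟨⟨4, 0, 0, 0, 0, 0, 0, 0⟩, ⟨-4, 0, 0, 0, 0, 0, 0, 0⟩, ⟨0, -2, -2, 0, -2, 0, -2, 0⟩⟩,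
      ⟨⟨4, 0, 0, 0, 0, 0, 0, 0⟩, ⟨-4, 0, 0, 0, 0, 0, 0, 0⟩, ⟨0, 2, 2, 0, 2, 0, 2, 0⟩⟩,
      ⟨⟨4, 0, 0, 0, 0, 0, 0, 0⟩, ⟨-4, 0, 0, 0, 0, 0, 0, 0⟩, ⟨2, 0, -2, 0, 0, -2, 2, 0⟩⟩,
      ⟨⟨4, 0, 0, 0, 0, 0, 0, 0⟩, ⟨-4, 0, 0, 0, 0, 0, 0, 0⟩, ⟨2, 0, 0, -2, 2, 0, -2, 0⟩⟩,
      ⟨⟨4, 0, 0, 0, 0, 0, 0, 0⟩, ⟨-4, 0, 0, 0, 0, 0, 0, 0⟩, ⟨2, 0, 2, 0, -2, 0, 0, -2⟩⟩,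
      ⟨⟨4, 0, 0, 0, 0, 0, 0, 0⟩, ⟨0, 0, -4, 0, 0, 0, 0, 0⟩, ⟨-2, 0, -2, 0, -2, 0, 0, -2⟩⟩,
      ⟨⟨4, 0, 0, 0, 0, 0, 0, 0⟩, ⟨0, 0, -4, 0, 0, 0, 0, 0⟩, ⟨-2, 0, 0, 2, 2, 0, -2, 0⟩⟩,
      ⟨⟨4, 0, 0, 0, 0, 0, 0, 0⟩, ⟨0, 0, -4, 0, 0, 0, 0, 0⟩, ⟨-2, 0, 2, 0, 0, -2, 2, 0⟩⟩,
      ⟨⟨4, 0, 0, 0, 0, 0, 0, 0⟩, ⟨0, 0, -4, 0, 0, 0, 0, 0⟩, ⟨0, -2, -2, 0, 2, 0, 2, 0⟩⟩,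
      ⟨⟨4, 0, 0, 0, 0, 0, 0, 0⟩, ⟨0, 0, -4, 0, 0, 0, 0, 0⟩, ⟨0, 2, 2, 0, -2, 0, -2, 0⟩⟩],
    [⟨⟨4, 0, 0, 0, 0, 0, 0, 0⟩, ⟨0, 0, -4, 0, 0, 0, 0, 0⟩, ⟨2, 0, -2, 0, 0, 2, -2, 0⟩⟩,
      ⟨⟨4, 0, 0, 0, 0, 0, 0, 0⟩, ⟨0, 0, -4, 0, 0, 0, 0, 0⟩, ⟨2, 0, 0, -2, -2, 0, 2, 0⟩⟩,
      ⟨⟨4, 0, 0, 0, 0, 0, 0, 0⟩, ⟨0, 0, -4, 0, 0, 0, 0, 0⟩, ⟨2, 0, 2, 0, 2, 0, 0, 2⟩⟩,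
      ⟨⟨4, 0, 0, 0, 0, 0, 0, 0⟩, ⟨0, 0, 0, 0, -4, 0, 0, 0⟩, ⟨-2, 0, -2, 0, 0, 2, 2, 0⟩⟩,
      ⟨⟨4, 0, 0, 0, 0, 0, 0, 0⟩, ⟨0, 0, 0, 0, -4, 0, 0, 0⟩, ⟨-2, 0, 0, -2, -2, 0, -2, 0⟩⟩,
      ⟨⟨4, 0, 0, 0, 0, 0, 0, 0⟩, ⟨0, 0, 0, 0, -4, 0, 0, 0⟩, ⟨-2, 0, 2, 0, 2, 0, 0, -2⟩⟩,
      ⟨⟨4, 0, 0, 0, 0, 0, 0, 0⟩, ⟨0, 0, 0, 0, -4, 0, 0, 0⟩, ⟨0, -2, 2, 0, -2, 0, 2, 0⟩⟩,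
      ⟨⟨4, 0, 0, 0, 0, 0, 0, 0⟩, ⟨0, 0, 0, 0, -4, 0, 0, 0⟩, ⟨0, 2, -2, 0, 2, 0, -2, 0⟩⟩,
      ⟨⟨4, 0, 0, 0, 0, 0, 0, 0⟩, ⟨0, 0, 0, 0, -4, 0, 0, 0⟩, ⟨2, 0, -2, 0, -2, 0, 0, 2⟩⟩,
      ⟨⟨4, 0, 0, 0, 0, 0, 0, 0⟩, ⟨0, 0, 0, 0, -4, 0, 0, 0⟩, ⟨2, 0, 0, 2, 2, 0, 2, 0⟩⟩,
      ⟨⟨4, 0, 0, 0, 0, 0, 0, 0⟩, ⟨0, 0, 0, 0, -4, 0, 0, 0⟩, ⟨2, 0, 2, 0, 0, -2, -2, 0⟩⟩,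
      ⟨⟨4, 0, 0, 0, 0, 0, 0, 0⟩, ⟨0, 0, 0, 0, 0, 0, -4, 0⟩, ⟨-2, 0, -2, 0, 0, -2, -2, 0⟩⟩,
      ⟨⟨4, 0, 0, 0, 0, 0, 0, 0⟩, ⟨0, 0, 0, 0, 0, 0, -4, 0⟩, ⟨-2, 0, 0, -2, 2, 0, 2, 0⟩⟩,
      ⟨⟨4, 0, 0, 0, 0, 0, 0, 0⟩, ⟨0, 0, 0, 0, 0, 0, -4, 0⟩, ⟨-2, 0, 2, 0, -2, 0, 0, 2⟩⟩,
      ⟨⟨4, 0, 0, 0, 0, 0, 0, 0⟩, ⟨0, 0, 0, 0, 0, 0, -4, 0⟩, ⟨0, -2, 2, 0, 2, 0, -2, 0⟩⟩,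
      ⟨⟨4, 0, 0, 0, 0, 0, 0, 0⟩, ⟨0, 0, 0, 0, 0, 0, -4, 0⟩, ⟨0, 2, -2, 0, -2, 0, 2, 0⟩⟩,
      ⟨⟨4, 0, 0, 0, 0, 0, 0, 0⟩, ⟨0, 0, 0, 0, 0, 0, -4, 0⟩, ⟨2, 0, -2, 0, 2, 0, 0, -2⟩⟩,
      ⟨⟨4, 0, 0, 0, 0, 0, 0, 0⟩, ⟨0, 0, 0, 0, 0, 0, -4, 0⟩, ⟨2, 0, 0, 2, -2, 0, -2, 0⟩⟩,
      ⟨⟨4, 0, 0, 0, 0, 0, 0, 0⟩, ⟨0, 0, 0, 0, 0, 0, -4, 0⟩, ⟨2, 0, 2, 0, 0, 2, 2, 0⟩⟩,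
      ⟨⟨4, 0, 0, 0, 0, 0, 0, 0⟩, ⟨0, 0, 0, 0, 0, 0, 4, 0⟩, ⟨-2, 0, -2, 0, 0, -2, -2, 0⟩⟩,
      ⟨⟨4, 0, 0, 0, 0, 0, 0, 0⟩, ⟨0, 0, 0, 0, 0, 0, 4, 0⟩, ⟨-2, 0, 0, -2, 2, 0, 2, 0⟩⟩],
    [⟨⟨4, 0, 0, 0, 0, 0, 0, 0⟩, ⟨0, 0, 0, 0, 0, 0, 4, 0⟩, ⟨-2, 0, 2, 0, -2, 0, 0, 2⟩⟩,
      ⟨⟨4, 0, 0, 0, 0, 0, 0, 0⟩, ⟨0, 0, 0, 0, 0, 0, 4, 0⟩, ⟨0, -2, 2, 0, 2, 0, -2, 0⟩⟩,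
      ⟨⟨4, 0, 0, 0, 0, 0, 0, 0⟩, ⟨0, 0, 0, 0, 0, 0, 4, 0⟩, ⟨0, 2, -2, 0, -2, 0, 2, 0⟩⟩,
      ⟨⟨4, 0, 0, 0, 0, 0, 0, 0⟩, ⟨0, 0, 0, 0, 0, 0, 4, 0⟩, ⟨2, 0, -2, 0, 2, 0, 0, -2⟩⟩,
      ⟨⟨4, 0, 0, 0, 0, 0, 0, 0⟩, ⟨0, 0, 0, 0, 0, 0, 4, 0⟩, ⟨2, 0, 0, 2, -2, 0, -2, 0⟩⟩,
      ⟨⟨4, 0, 0, 0, 0, 0, 0, 0⟩, ⟨0, 0, 0, 0, 0, 0, 4, 0⟩, ⟨2, 0, 2, 0, 0, 2, 2, 0⟩⟩,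
      ⟨⟨4, 0, 0, 0, 0, 0, 0, 0⟩, ⟨0, 0, 0, 0, 4, 0, 0, 0⟩, ⟨-2, 0, -2, 0, 0, 2, 2, 0⟩⟩,
      ⟨⟨4, 0, 0, 0, 0, 0, 0, 0⟩, ⟨0, 0, 0, 0, 4, 0, 0, 0⟩, ⟨-2, 0, 0, -2, -2, 0, -2, 0⟩⟩,
      ⟨⟨4, 0, 0, 0, 0, 0, 0, 0⟩, ⟨0, 0, 0, 0, 4, 0, 0, 0⟩, ⟨-2, 0, 2, 0, 2, 0, 0, -2⟩⟩,
      ⟨⟨4, 0, 0, 0, 0, 0, 0, 0⟩, ⟨0, 0, 0, 0, 4, 0, 0, 0⟩, ⟨0, -2, 2, 0, -2, 0, 2, 0⟩⟩,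
      ⟨⟨4, 0, 0, 0, 0, 0, 0, 0⟩, ⟨0, 0, 0, 0, 4, 0, 0, 0⟩, ⟨0, 2, -2, 0, 2, 0, -2, 0⟩⟩,
      ⟨⟨4, 0, 0, 0, 0, 0, 0, 0⟩, ⟨0, 0, 0, 0, 4, 0, 0, 0⟩, ⟨2, 0, -2, 0, -2, 0, 0, 2⟩⟩,
      ⟨⟨4, 0, 0, 0, 0, 0, 0, 0⟩, ⟨0, 0, 0, 0, 4, 0, 0, 0⟩, ⟨2, 0, 0, 2, 2, 0, 2, 0⟩⟩,
      ⟨⟨4, 0, 0, 0, 0, 0, 0, 0⟩, ⟨0, 0, 0, 0, 4, 0, 0, 0⟩, ⟨2, 0, 2, 0, 0, -2, -2, 0⟩⟩,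
      ⟨⟨4, 0, 0, 0, 0, 0, 0, 0⟩, ⟨0, 0, 4, 0, 0, 0, 0, 0⟩, ⟨-2, 0, -2, 0, -2, 0, 0, -2⟩⟩,
      ⟨⟨4, 0, 0, 0, 0, 0, 0, 0⟩, ⟨0, 0, 4, 0, 0, 0, 0, 0⟩, ⟨-2, 0, 0, 2, 2, 0, -2, 0⟩⟩,
      ⟨⟨4, 0, 0, 0, 0, 0, 0, 0⟩, ⟨0, 0, 4, 0, 0, 0, 0, 0⟩, ⟨-2, 0, 2, 0, 0, -2, 2, 0⟩⟩,
      ⟨⟨4, 0, 0, 0, 0, 0, 0, 0⟩, ⟨0, 0, 4, 0, 0, 0, 0, 0⟩, ⟨0, -2, -2, 0, 2, 0, 2, 0⟩⟩,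
      ⟨⟨4, 0, 0, 0, 0, 0, 0, 0⟩, ⟨0, 0, 4, 0, 0, 0, 0, 0⟩, ⟨0, 2, 2, 0, -2, 0, -2, 0⟩⟩,
      ⟨⟨4, 0, 0, 0, 0, 0, 0, 0⟩, ⟨0, 0, 4, 0, 0, 0, 0, 0⟩, ⟨2, 0, -2, 0, 0, 2, -2, 0⟩⟩,
      ⟨⟨4, 0, 0, 0, 0, 0, 0, 0⟩, ⟨0, 0, 4, 0, 0, 0, 0, 0⟩, ⟨2, 0, 0, -2, -2, 0, 2, 0⟩⟩],
    [⟨⟨4, 0, 0, 0, 0, 0, 0, 0⟩, ⟨0, 0, 4, 0, 0, 0, 0, 0⟩, ⟨2, 0, 2, 0, 2, 0, 0, 2⟩⟩,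
      ⟨⟨4, 0, 0, 0, 0, 0, 0, 0⟩, ⟨4, 0, 0, 0, 0, 0, 0, 0⟩, ⟨-2, 0, -2, 0, 2, 0, 0, 2⟩⟩,
      ⟨⟨4, 0, 0, 0, 0, 0, 0, 0⟩, ⟨4, 0, 0, 0, 0, 0, 0, 0⟩, ⟨-2, 0, 0, 2, -2, 0, 2, 0⟩⟩,
      ⟨⟨4, 0, 0, 0, 0, 0, 0, 0⟩, ⟨4, 0, 0, 0, 0, 0, 0, 0⟩, ⟨-2, 0, 2, 0, 0, 2, -2, 0⟩⟩,
      ⟨⟨4, 0, 0, 0, 0, 0, 0, 0⟩, ⟨4, 0, 0, 0, 0, 0, 0, 0⟩, ⟨0, -2, -2, 0, -2, 0, -2, 0⟩⟩,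
      ⟨⟨4, 0, 0, 0, 0, 0, 0, 0⟩, ⟨4, 0, 0, 0, 0, 0, 0, 0⟩, ⟨0, 2, 2, 0, 2, 0, 2, 0⟩⟩,
      ⟨⟨4, 0, 0, 0, 0, 0, 0, 0⟩, ⟨4, 0, 0, 0, 0, 0, 0, 0⟩, ⟨2, 0, -2, 0, 0, -2, 2, 0⟩⟩,
      ⟨⟨4, 0, 0, 0, 0, 0, 0, 0⟩, ⟨4, 0, 0, 0, 0, 0, 0, 0⟩, ⟨2, 0, 0, -2, 2, 0, -2, 0⟩⟩,
      ⟨⟨4, 0, 0, 0, 0, 0, 0, 0⟩, ⟨4, 0, 0, 0, 0, 0, 0, 0⟩, ⟨2, 0, 2, 0, -2, 0, 0, -2⟩⟩,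
      ⟨⟨-1, -1, -1, -1, -1, -1, 1, 1⟩, ⟨-1, 1, -1, 1, 1, -1, 1, -1⟩, ⟨4, 0, 0, 0, 0, 0, 0, 0⟩⟩,
      ⟨⟨-1, -1, -1, -1, -1, -1, 1, 1⟩, ⟨1, -1, 1, -1, -1, 1, -1, 1⟩, ⟨4, 0, 0, 0, 0, 0, 0, 0⟩⟩,
      ⟨⟨-1, -1, -1, -1, 1, 1, -1, -1⟩, ⟨-1, 1, 1, -1, 1, -1, -1, 1⟩, ⟨4, 0, 0, 0, 0, 0, 0, 0⟩⟩,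
      ⟨⟨-1, -1, -1, -1, 1, 1, -1, -1⟩, ⟨1, -1, -1, 1, -1, 1, 1, -1⟩, ⟨4, 0, 0, 0, 0, 0, 0, 0⟩⟩,
      ⟨⟨-1, -1, 1, 1, -1, -1, -1, -1⟩, ⟨-1, 1, 1, -1, -1, 1, 1, -1⟩, ⟨4, 0, 0, 0, 0, 0, 0, 0⟩⟩,
      ⟨⟨-1, -1, 1, 1, -1, -1, -1, -1⟩, ⟨1, -1, -1, 1, 1, -1, -1, 1⟩, ⟨4, 0, 0, 0, 0, 0, 0, 0⟩⟩,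
      ⟨⟨-1, -1, 1, 1, 1, 1, 1, 1⟩, ⟨-1, 1, -1, 1, -1, 1, -1, 1⟩, ⟨4, 0, 0, 0, 0, 0, 0, 0⟩⟩,
      ⟨⟨-1, -1, 1, 1, 1, 1, 1, 1⟩, ⟨1, -1, 1, -1, 1, -1, 1, -1⟩, ⟨4, 0, 0, 0, 0, 0, 0, 0⟩⟩,
      ⟨⟨1, 1, -1, -1, -1, -1, -1, -1⟩, ⟨-1, 1, -1, 1, -1, 1, -1, 1⟩, ⟨4, 0, 0, 0, 0, 0, 0, 0⟩⟩,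
      ⟨⟨1, 1, -1, -1, -1, -1, -1, -1⟩, ⟨1, -1, 1, -1, 1, -1, 1, -1⟩, ⟨4, 0, 0, 0, 0, 0, 0, 0⟩⟩,
      ⟨⟨1, 1, -1, -1, 1, 1, 1, 1⟩, ⟨-1, 1, 1, -1, -1, 1, 1, -1⟩, ⟨4, 0, 0, 0, 0, 0, 0, 0⟩⟩,
      ⟨⟨1, 1, -1, -1, 1, 1, 1, 1⟩, ⟨1, -1, -1, 1, 1, -1, -1, 1⟩, ⟨4, 0, 0, 0, 0, 0, 0, 0⟩⟩],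
    [⟨⟨1, 1, 1, 1, -1, -1, 1, 1⟩, ⟨-1, 1, 1, -1, 1, -1, -1, 1⟩, ⟨4, 0, 0, 0, 0, 0, 0, 0⟩⟩,
      ⟨⟨1, 1, 1, 1, -1, -1, 1, 1⟩, ⟨1, -1, -1, 1, -1, 1, 1, -1⟩, ⟨4, 0, 0, 0, 0, 0, 0, 0⟩⟩,
      ⟨⟨1, 1, 1, 1, 1, 1, -1, -1⟩, ⟨-1, 1, -1, 1, 1, -1, 1, -1⟩, ⟨4, 0, 0, 0, 0, 0, 0, 0⟩⟩,
      ⟨⟨1, 1, 1, 1, 1, 1, -1, -1⟩, ⟨1, -1, 1, -1, -1, 1, -1, 1⟩, ⟨4, 0, 0, 0, 0, 0, 0, 0⟩⟩,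
      ⟨⟨-1, -1, -1, -1, -1, -1, 1, 1⟩, ⟨4, 0, 0, 0, 0, 0, 0, 0⟩, ⟨-1, 1, -1, 1, 1, -1, 1, -1⟩⟩,
      ⟨⟨-1, -1, -1, -1, -1, -1, 1, 1⟩, ⟨4, 0, 0, 0, 0, 0, 0, 0⟩, ⟨1, -1, 1, -1, -1, 1, -1, 1⟩⟩,
      ⟨⟨-1, -1, -1, -1, 1, 1, -1, -1⟩, ⟨4, 0, 0, 0, 0, 0, 0, 0⟩, ⟨-1, 1, 1, -1, 1, -1, -1, 1⟩⟩,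
      ⟨⟨-1, -1, -1, -1, 1, 1, -1, -1⟩, ⟨4, 0, 0, 0, 0, 0, 0, 0⟩, ⟨1, -1, -1, 1, -1, 1, 1, -1⟩⟩,
      ⟨⟨-1, -1, 1, 1, -1, -1, -1, -1⟩, ⟨4, 0, 0, 0, 0, 0, 0, 0⟩, ⟨-1, 1, 1, -1, -1, 1, 1, -1⟩⟩,
      ⟨⟨-1, -1, 1, 1, -1, -1, -1, -1⟩, ⟨4, 0, 0, 0, 0, 0, 0, 0⟩, ⟨1, -1, -1, 1, 1, -1, -1, 1⟩⟩,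
      ⟨⟨-1, -1, 1, 1, 1, 1, 1, 1⟩, ⟨4, 0, 0, 0, 0, 0, 0, 0⟩, ⟨-1, 1, -1, 1, -1, 1, -1, 1⟩⟩,
      ⟨⟨-1, -1, 1, 1, 1, 1, 1, 1⟩, ⟨4, 0, 0, 0, 0, 0, 0, 0⟩, ⟨1, -1, 1, -1, 1, -1, 1, -1⟩⟩,
      ⟨⟨1, 1, -1, -1, -1, -1, -1, -1⟩, ⟨4, 0, 0, 0, 0, 0, 0, 0⟩, ⟨-1, 1, -1, 1, -1, 1, -1, 1⟩⟩,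
      ⟨⟨1, 1, -1, -1, -1, -1, -1, -1⟩, ⟨4, 0, 0, 0, 0, 0, 0, 0⟩, ⟨1, -1, 1, -1, 1, -1, 1, -1⟩⟩,
      ⟨⟨1, 1, -1, -1, 1, 1, 1, 1⟩, ⟨4, 0, 0, 0, 0, 0, 0, 0⟩, ⟨-1, 1, 1, -1, -1, 1, 1, -1⟩⟩,
      ⟨⟨1, 1, -1, -1, 1, 1, 1, 1⟩, ⟨4, 0, 0, 0, 0, 0, 0, 0⟩, ⟨1, -1, -1, 1, 1, -1, -1, 1⟩⟩,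
      ⟨⟨1, 1, 1, 1, -1, -1, 1, 1⟩, ⟨4, 0, 0, 0, 0, 0, 0, 0⟩, ⟨-1, 1, 1, -1, 1, -1, -1, 1⟩⟩,
      ⟨⟨1, 1, 1, 1, -1, -1, 1, 1⟩, ⟨4, 0, 0, 0, 0, 0, 0, 0⟩, ⟨1, -1, -1, 1, -1, 1, 1, -1⟩⟩,
      ⟨⟨1, 1, 1, 1, 1, 1, -1, -1⟩, ⟨4, 0, 0, 0, 0, 0, 0, 0⟩, ⟨-1, 1, -1, 1, 1, -1, 1, -1⟩⟩,
      ⟨⟨1, 1, 1, 1, 1, 1, -1, -1⟩, ⟨4, 0, 0, 0, 0, 0, 0, 0⟩, ⟨1, -1, 1, -1, -1, 1, -1, 1⟩⟩,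
      ⟨⟨-1, 1, -1, 1, 1, -1, 1, -1⟩, ⟨-1, -1, -1, -1, -1, -1, 1, 1⟩, ⟨4, 0, 0, 0, 0, 0, 0, 0⟩⟩],
    [⟨⟨1, -1, 1, -1, -1, 1, -1, 1⟩, ⟨-1, -1, -1, -1, -1, -1, 1, 1⟩, ⟨4, 0, 0, 0, 0, 0, 0, 0⟩⟩,
      ⟨⟨-1, 1, 1, -1, 1, -1, -1, 1⟩, ⟨-1, -1, -1, -1, 1, 1, -1, -1⟩, ⟨4, 0, 0, 0, 0, 0, 0, 0⟩⟩,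
      ⟨⟨1, -1, -1, 1, -1, 1, 1, -1⟩, ⟨-1, -1, -1, -1, 1, 1, -1, -1⟩, ⟨4, 0, 0, 0, 0, 0, 0, 0⟩⟩,
      ⟨⟨-1, 1, 1, -1, -1, 1, 1, -1⟩, ⟨-1, -1, 1, 1, -1, -1, -1, -1⟩, ⟨4, 0, 0, 0, 0, 0, 0, 0⟩⟩,
      ⟨⟨1, -1, -1, 1, 1, -1, -1, 1⟩, ⟨-1, -1, 1, 1, -1, -1, -1, -1⟩, ⟨4, 0, 0, 0, 0, 0, 0, 0⟩⟩,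
      ⟨⟨-1, 1, -1, 1, -1, 1, -1, 1⟩, ⟨-1, -1, 1, 1, 1, 1, 1, 1⟩, ⟨4, 0, 0, 0, 0, 0, 0, 0⟩⟩,
      ⟨⟨1, -1, 1, -1, 1, -1, 1, -1⟩, ⟨-1, -1, 1, 1, 1, 1, 1, 1⟩, ⟨4, 0, 0, 0, 0, 0, 0, 0⟩⟩,
      ⟨⟨-1, 1, -1, 1, -1, 1, -1, 1⟩, ⟨1, 1, -1, -1, -1, -1, -1, -1⟩, ⟨4, 0, 0, 0, 0, 0, 0, 0⟩⟩,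
      ⟨⟨1, -1, 1, -1, 1, -1, 1, -1⟩, ⟨1, 1, -1, -1, -1, -1, -1, -1⟩, ⟨4, 0, 0, 0, 0, 0, 0, 0⟩⟩,
      ⟨⟨-1, 1, 1, -1, -1, 1, 1, -1⟩, ⟨1, 1, -1, -1, 1, 1, 1, 1⟩, ⟨4, 0, 0, 0, 0, 0, 0, 0⟩⟩,
      ⟨⟨1, -1, -1, 1, 1, -1, -1, 1⟩, ⟨1, 1, -1, -1, 1, 1, 1, 1⟩, ⟨4, 0, 0, 0, 0, 0, 0, 0⟩⟩,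
      ⟨⟨-1, 1, 1, -1, 1, -1, -1, 1⟩, ⟨1, 1, 1, 1, -1, -1, 1, 1⟩, ⟨4, 0, 0, 0, 0, 0, 0, 0⟩⟩,
      ⟨⟨1, -1, -1, 1, -1, 1, 1, -1⟩, ⟨1, 1, 1, 1, -1, -1, 1, 1⟩, ⟨4, 0, 0, 0, 0, 0, 0, 0⟩⟩,
      ⟨⟨-1, 1, -1, 1, 1, -1, 1, -1⟩, ⟨1, 1, 1, 1, 1, 1, -1, -1⟩, ⟨4, 0, 0, 0, 0, 0, 0, 0⟩⟩,
      ⟨⟨1, -1, 1, -1, -1, 1, -1, 1⟩, ⟨1, 1, 1, 1, 1, 1, -1, -1⟩, ⟨4, 0, 0, 0, 0, 0, 0, 0⟩⟩,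
      ⟨⟨4, 0, 0, 0, 0, 0, 0, 0⟩, ⟨-1, -1, -1, -1, -1, -1, 1, 1⟩, ⟨-1, 1, -1, 1, 1, -1, 1, -1⟩⟩,
      ⟨⟨4, 0, 0, 0, 0, 0, 0, 0⟩, ⟨-1, -1, -1, -1, -1, -1, 1, 1⟩, ⟨1, -1, 1, -1, -1, 1, -1, 1⟩⟩,
      ⟨⟨4, 0, 0, 0, 0, 0, 0, 0⟩, ⟨-1, -1, -1, -1, 1, 1, -1, -1⟩, ⟨-1, 1, 1, -1, 1, -1, -1, 1⟩⟩,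
      ⟨⟨4, 0, 0, 0, 0, 0, 0, 0⟩, ⟨-1, -1, -1, -1, 1, 1, -1, -1⟩, ⟨1, -1, -1, 1, -1, 1, 1, -1⟩⟩,
      ⟨⟨4, 0, 0, 0, 0, 0, 0, 0⟩, ⟨-1, -1, 1, 1, -1, -1, -1, -1⟩, ⟨-1, 1, 1, -1, -1, 1, 1, -1⟩⟩,
      ⟨⟨4, 0, 0, 0, 0, 0, 0, 0⟩, ⟨-1, -1, 1, 1, -1, -1, -1, -1⟩, ⟨1, -1, -1, 1, 1, -1, -1, 1⟩⟩],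
    [⟨⟨4, 0, 0, 0, 0, 0, 0, 0⟩, ⟨-1, -1, 1, 1, 1, 1, 1, 1⟩, ⟨-1, 1, -1, 1, -1, 1, -1, 1⟩⟩,
      ⟨⟨4, 0, 0, 0, 0, 0, 0, 0⟩, ⟨-1, -1, 1, 1, 1, 1, 1, 1⟩, ⟨1, -1, 1, -1, 1, -1, 1, -1⟩⟩,
      ⟨⟨4, 0, 0, 0, 0, 0, 0, 0⟩, ⟨1, 1, -1, -1, -1, -1, -1, -1⟩, ⟨-1, 1, -1, 1, -1, 1, -1, 1⟩⟩,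
      ⟨⟨4, 0, 0, 0, 0, 0, 0, 0⟩, ⟨1, 1, -1, -1, -1, -1, -1, -1⟩, ⟨1, -1, 1, -1, 1, -1, 1, -1⟩⟩,
      ⟨⟨4, 0, 0, 0, 0, 0, 0, 0⟩, ⟨1, 1, -1, -1, 1, 1, 1, 1⟩, ⟨-1, 1, 1, -1, -1, 1, 1, -1⟩⟩,
      ⟨⟨4, 0, 0, 0, 0, 0, 0, 0⟩, ⟨1, 1, -1, -1, 1, 1, 1, 1⟩, ⟨1, -1, -1, 1, 1, -1, -1, 1⟩⟩,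
      ⟨⟨4, 0, 0, 0, 0, 0, 0, 0⟩, ⟨1, 1, 1, 1, -1, -1, 1, 1⟩, ⟨-1, 1, 1, -1, 1, -1, -1, 1⟩⟩,
      ⟨⟨4, 0, 0, 0, 0, 0, 0, 0⟩, ⟨1, 1, 1, 1, -1, -1, 1, 1⟩, ⟨1, -1, -1, 1, -1, 1, 1, -1⟩⟩,
      ⟨⟨4, 0, 0, 0, 0, 0, 0, 0⟩, ⟨1, 1, 1, 1, 1, 1, -1, -1⟩, ⟨-1, 1, -1, 1, 1, -1, 1, -1⟩⟩,
      ⟨⟨4, 0, 0, 0, 0, 0, 0, 0⟩, ⟨1, 1, 1, 1, 1, 1, -1, -1⟩, ⟨1, -1, 1, -1, -1, 1, -1, 1⟩⟩,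
      ⟨⟨-1, 1, -1, 1, 1, -1, 1, -1⟩, ⟨4, 0, 0, 0, 0, 0, 0, 0⟩, ⟨-1, -1, -1, -1, -1, -1, 1, 1⟩⟩,
      ⟨⟨1, -1, 1, -1, -1, 1, -1, 1⟩, ⟨4, 0, 0, 0, 0, 0, 0, 0⟩, ⟨-1, -1, -1, -1, -1, -1, 1, 1⟩⟩,
      ⟨⟨-1, 1, 1, -1, 1, -1, -1, 1⟩, ⟨4, 0, 0, 0, 0, 0, 0, 0⟩, ⟨-1, -1, -1, -1, 1, 1, -1, -1⟩⟩,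
      ⟨⟨1, -1, -1, 1, -1, 1, 1, -1⟩, ⟨4, 0, 0, 0, 0, 0, 0, 0⟩, ⟨-1, -1, -1, -1, 1, 1, -1, -1⟩⟩,
      ⟨⟨-1, 1, 1, -1, -1, 1, 1, -1⟩, ⟨4, 0, 0, 0, 0, 0, 0, 0⟩, ⟨-1, -1, 1, 1, -1, -1, -1, -1⟩⟩,
      ⟨⟨1, -1, -1, 1, 1, -1, -1, 1⟩, ⟨4, 0, 0, 0, 0, 0, 0, 0⟩, ⟨-1, -1, 1, 1, -1, -1, -1, -1⟩⟩,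
      ⟨⟨-1, 1, -1, 1, -1, 1, -1, 1⟩, ⟨4, 0, 0, 0, 0, 0, 0, 0⟩, ⟨-1, -1, 1, 1, 1, 1, 1, 1⟩⟩,
      ⟨⟨1, -1, 1, -1, 1, -1, 1, -1⟩, ⟨4, 0, 0, 0, 0, 0, 0, 0⟩, ⟨-1, -1, 1, 1, 1, 1, 1, 1⟩⟩,
      ⟨⟨-1, 1, -1, 1, -1, 1, -1, 1⟩, ⟨4, 0, 0, 0, 0, 0, 0, 0⟩, ⟨1, 1, -1, -1, -1, -1, -1, -1⟩⟩,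
      ⟨⟨1, -1, 1, -1, 1, -1, 1, -1⟩, ⟨4, 0, 0, 0, 0, 0, 0, 0⟩, ⟨1, 1, -1, -1, -1, -1, -1, -1⟩⟩,
      ⟨⟨-1, 1, 1, -1, -1, 1, 1, -1⟩, ⟨4, 0, 0, 0, 0, 0, 0, 0⟩, ⟨1, 1, -1, -1, 1, 1, 1, 1⟩⟩],
    [⟨⟨1, -1, -1, 1, 1, -1, -1, 1⟩, ⟨4, 0, 0, 0, 0, 0, 0, 0⟩, ⟨1, 1, -1, -1, 1, 1, 1, 1⟩⟩,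
      ⟨⟨-1, 1, 1, -1, 1, -1, -1, 1⟩, ⟨4, 0, 0, 0, 0, 0, 0, 0⟩, ⟨1, 1, 1, 1, -1, -1, 1, 1⟩⟩,
      ⟨⟨1, -1, -1, 1, -1, 1, 1, -1⟩, ⟨4, 0, 0, 0, 0, 0, 0, 0⟩, ⟨1, 1, 1, 1, -1, -1, 1, 1⟩⟩,
      ⟨⟨-1, 1, -1, 1, 1, -1, 1, -1⟩, ⟨4, 0, 0, 0, 0, 0, 0, 0⟩, ⟨1, 1, 1, 1, 1, 1, -1, -1⟩⟩,
      ⟨⟨1, -1, 1, -1, -1, 1, -1, 1⟩, ⟨4, 0, 0, 0, 0, 0, 0, 0⟩, ⟨1, 1, 1, 1, 1, 1, -1, -1⟩⟩,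
      ⟨⟨4, 0, 0, 0, 0, 0, 0, 0⟩, ⟨-1, 1, -1, 1, 1, -1, 1, -1⟩, ⟨-1, -1, -1, -1, -1, -1, 1, 1⟩⟩,
      ⟨⟨4, 0, 0, 0, 0, 0, 0, 0⟩, ⟨1, -1, 1, -1, -1, 1, -1, 1⟩, ⟨-1, -1, -1, -1, -1, -1, 1, 1⟩⟩,
      ⟨⟨4, 0, 0, 0, 0, 0, 0, 0⟩, ⟨-1, 1, 1, -1, 1, -1, -1, 1⟩, ⟨-1, -1, -1, -1, 1, 1, -1, -1⟩⟩,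
      ⟨⟨4, 0, 0, 0, 0, 0, 0, 0⟩, ⟨1, -1, -1, 1, -1, 1, 1, -1⟩, ⟨-1, -1, -1, -1, 1, 1, -1, -1⟩⟩,
      ⟨⟨4, 0, 0, 0, 0, 0, 0, 0⟩, ⟨-1, 1, 1, -1, -1, 1, 1, -1⟩, ⟨-1, -1, 1, 1, -1, -1, -1, -1⟩⟩,
      ⟨⟨4, 0, 0, 0, 0, 0, 0, 0⟩, ⟨1, -1, -1, 1, 1, -1, -1, 1⟩, ⟨-1, -1, 1, 1, -1, -1, -1, -1⟩⟩,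
      ⟨⟨4, 0, 0, 0, 0, 0, 0, 0⟩, ⟨-1, 1, -1, 1, -1, 1, -1, 1⟩, ⟨-1, -1, 1, 1, 1, 1, 1, 1⟩⟩,
      ⟨⟨4, 0, 0, 0, 0, 0, 0, 0⟩, ⟨1, -1, 1, -1, 1, -1, 1, -1⟩, ⟨-1, -1, 1, 1, 1, 1, 1, 1⟩⟩,
      ⟨⟨4, 0, 0, 0, 0, 0, 0, 0⟩, ⟨-1, 1, -1, 1, -1, 1, -1, 1⟩, ⟨1, 1, -1, -1, -1, -1, -1, -1⟩⟩,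
      ⟨⟨4, 0, 0, 0, 0, 0, 0, 0⟩, ⟨1, -1, 1, -1, 1, -1, 1, -1⟩, ⟨1, 1, -1, -1, -1, -1, -1, -1⟩⟩,
      ⟨⟨4, 0, 0, 0, 0, 0, 0, 0⟩, ⟨-1, 1, 1, -1, -1, 1, 1, -1⟩, ⟨1, 1, -1, -1, 1, 1, 1, 1⟩⟩,
      ⟨⟨4, 0, 0, 0, 0, 0, 0, 0⟩, ⟨1, -1, -1, 1, 1, -1, -1, 1⟩, ⟨1, 1, -1, -1, 1, 1, 1, 1⟩⟩,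
      ⟨⟨4, 0, 0, 0, 0, 0, 0, 0⟩, ⟨-1, 1, 1, -1, 1, -1, -1, 1⟩, ⟨1, 1, 1, 1, -1, -1, 1, 1⟩⟩,
      ⟨⟨4, 0, 0, 0, 0, 0, 0, 0⟩, ⟨1, -1, -1, 1, -1, 1, 1, -1⟩, ⟨1, 1, 1, 1, -1, -1, 1, 1⟩⟩,
      ⟨⟨4, 0, 0, 0, 0, 0, 0, 0⟩, ⟨-1, 1, -1, 1, 1, -1, 1, -1⟩, ⟨1, 1, 1, 1, 1, 1, -1, -1⟩⟩,
      ⟨⟨4, 0, 0, 0, 0, 0, 0, 0⟩, ⟨1, -1, 1, -1, -1, 1, -1, 1⟩, ⟨1, 1, 1, 1, 1, 1, -1, -1⟩⟩]]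

end Cfsg.Lib.J2
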