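import Cfsg.Agent.Lib.FusionSys.Simple
import Cfsg.Agent.Lib.FusionSys.OfGroup

/-!
A criterion for the simplicity of the 2-fusion system of a finite group, used for the Hall–Janko group.
-/

set_option autoImplicit false

namespace Cfsg.Lib.J2

open Cfsg Cfsg.FusionSystem Cfsg.Lib.FusionSys

variable {G : Type*} [Group G] [Finite G]

/-- The fusion system on a Sylow subgroup is simple if that subgroup is the only nontrivial strongly closed
subgroup and every element normalising it is a product of 2-elements normalising a centric normal subgroup. -/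
theorem isSimple_two_of_centric (S : Sylow 2 G) (Q : Subgroup G) (hS1 : (S : Subgroup G) ≠ ⊥)
    (hT : ∀ T : Subgroup G, T ≤ (S : Subgroup G) → T ≠ ⊥ →
      (∀ x ∈ T, ∀ g : G, g * x * g⁻¹ ∈ (S : Subgroup G) → g * x * g⁻¹ ∈ T) → (S : Subgroup G) ≤ T)
    (hQS : Q ≤ (S : Subgroup G)) (hQn : (S : Subgroup G) ≤ Subgroup.normalizer (Q : Set G))
    (hQc : Subgroup.centralizer (Q : Set G) ≤ Q)
    (hN : ∀ g : G, (∀ s ∈ (S : Subgroup G), g * s * g⁻¹ ∈ (S : Subgroup G)) →
      g ∈ Subgroup.closure {x : G | (∃ k : ℕ, x ^ 2 ^ k = 1) ∧ x ∈ Subgroup.normalizer (Q : Set G)}) :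
    (groupFusionSystem (S : Subgroup G)).IsSimple 2 := by
  haveI : Fact (Nat.Prime 2) := ⟨Nat.prime_two⟩
  have hsat := isSaturated_groupFusionSystem S
  set F := groupFusionSystem (S : Subgroup G) with hF
  refine isSimple_of_forall hsat hS1 (fun T hsc => ?_) fun E hE hEi α hα => ?_
  · rcases eq_or_ne T ⊥ with h | h
    · exact Or.inl h
    refine Or.inr (le_antisymm hsc.1 (hT T hsc.1 h fun x hx g hg => ?_))
    refine hsc.2 (Subgroup.zpowers x) (Subgroup.zpowers_le.2 hx)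
      ((MulAut.conj g).toMonoidHom.comp (Subgroup.zpowers x).subtype) ?_ ⟨x, Subgroup.mem_zpowers x⟩
    refine ⟨Subgroup.zpowers_le.2 (hsc.1 hx), fun y => ?_, g, fun y => rfl⟩
    obtain ⟨k, hk⟩ := Subgroup.mem_zpowers_iff.1 y.2
    show MulAut.conj g (y : G) ∈ (S : Subgroup G)
    rw [← hk, map_zpow]
    exact zpow_mem (by simpa using hg) k
  have hα' : α ∈ autInducedBy ⊤ (S : Subgroup G) := by
    rw [← autGroup_groupFusionSystem (S : Subgroup G) le_rfl]
    exact hα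
  obtain ⟨g, -, hg⟩ := mem_autInducedBy.1 hα'
  have hgS : ∀ s ∈ (S : Subgroup G), g * s * g⁻¹ ∈ (S : Subgroup G) := fun s hs => by
    rw [← hg ⟨s, hs⟩]
    exact (α ⟨s, hs⟩).2
  have hQfn : F.IsFullyNormalized Q := ⟨hQS, fun R _ => by
    rw [show normalizerIn (S : Subgroup G) Q = S from inf_eq_left.2 hQn]
    exact Subgroup.card_le_of_le inf_le_left⟩
  have hQfa := (isFullyAutomized_and_fc_of_fn S.2 hsat hQfn).2
  have hcent : F.IsCentric Q := by
    refine ⟨hQS, ?_⟩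
    rintro R ⟨φ, ⟨-, -, a, ha⟩, rfl⟩ c hc
    have hc' : a⁻¹ * c * a ∈ Q := hQc (Subgroup.mem_centralizer_iff.2 fun q hq => by
      have h := (mem_centralizerIn.1 hc).2 (a * q * a⁻¹) ⟨⟨q, hq⟩, ha _⟩
      calc q * (a⁻¹ * c * a) = a⁻¹ * (a * q * a⁻¹ * c) * a := by group
        _ = a⁻¹ * (c * (a * q * a⁻¹)) * a := by rw [h]
        _ = a⁻¹ * c * a * q := by group)
    refine ⟨⟨_, hc'⟩, ?_⟩
    rw [ha]
    group
  let K : Subgroup G :=
    ((E.autGroup Q).comap Q.normalizerMonoidHom).map (Subgroup.normalizer (Q : Set G)).subtype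
  have hK : g ∈ K := by
    refine (Subgroup.closure_le K).2 ?_ (hN g hgS)
    rintro x ⟨⟨k, hk⟩, hx⟩
    refine ⟨⟨x, hx⟩, Subgroup.mem_comap.2 (autGroup_pElement_mem hEi hQfa (k := k) ?_ ?_), rfl⟩
    · rw [autGroup_groupFusionSystem (S : Subgroup G) hQS]
      exact mem_autInducedBy.2 ⟨x, Subgroup.mem_top x, fun y => rfl⟩
    · rw [← map_pow, show (⟨x, hx⟩ : Subgroup.normalizer (Q : Set G)) ^ 2 ^ k = 1 from Subtype.ext hk,
        map_one]
  obtain ⟨n, hn, hng⟩ := hK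
  refine conj_mem_of_centric S.2 hsat hE hEi.1 hα hQS hcent ?_
  refine hom_congr ((mem_autGroup hQS).1 (Subgroup.mem_comap.1 hn)) fun y => ?_
  show ((α ⟨y, hQS y.2⟩ : (S : Subgroup G)) : G) = (n : G) * y * (n : G)⁻¹
  rw [hg, ← hng]
  rfl

end Cfsg.Lib.J2
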