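import Cfsg.Agent.Lib.J2.Involution
import Cfsg.Agent.Lib.J2.DataFusion
import Cfsg.Agent.Lib.J2.FusionCriterion

/-!
# The 2-fusion system of the Hall–Janko group is simple
-/

set_option autoImplicit false
set_option linter.unusedSimpArgs false
set_option linter.style.haveILetI false
set_option maxRecDepth 4000

open scoped Pointwise

namespace Cfsg.Lib.J2

/-- The stabiliser element of a natural number code. -/
noncomputable def codeN (n : ℕ) : PGrp := codeEl ⟨n % 1920, Nat.mod_lt _ (by norm_num)⟩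

theorem codeN_apply {n : ℕ} (hn : n < 1920) (x : Fin 315) :
    ((codeN n : Equiv.Perm (Fin 315)) x : ℕ) = hAppN n x := by
  rw [codeN, codeEl_apply]
  simp only [Nat.mod_eq_of_lt hn]

theorem codeN_fin (n : Fin 1920) : codeN n = codeEl n :=
  congrArg codeEl (Fin.ext (Nat.mod_eq_of_lt n.2))

theorem codeN_mem (n : ℕ) : codeN n ∈ cZero := mem_cZero_iff.mpr (codeEl_fix _)

theorem codeN_injective {a b : ℕ} (ha : a < 1920) (hb : b < 1920) (h : codeN a = codeN b) : a = b := by
  have h1 : a % 1920 = b % 1920 := congrArg Fin.val (codeEl_injective h)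
  rw [Nat.mod_eq_of_lt ha, Nat.mod_eq_of_lt hb] at h1
  exact h1

theorem exists_codeN {f : PGrp} (h : f ∈ cZero) : ∃ n, n < 1920 ∧ f = codeN n := by
  obtain ⟨n, hn⟩ := exists_code ⟨f, h⟩
  exact ⟨n, n.2, hn.trans (codeN_fin n).symm⟩

/-- The `i`-th code of the Sylow 2-subgroup. -/
def sylC (i : ℕ) : ℕ := tget 0 sylTab i

/-- The codes of the Sylow 2-subgroup. -/
def sylList : List ℕ := (List.range 128).map sylC

/-- Whether two codes commute. -/
def commB (a b : ℕ) : Bool :=
  onBase (fun x => hAppN a (hAppN b x)) (fun x => hAppN b (hAppN a x))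

/-- Whether the product of two codes is the third. -/
def prodB (a b c : ℕ) : Bool := onBase (fun x => hAppN a (hAppN b x)) (hAppN c)

/-- Whether the translate with the given normal form conjugates one code to another. -/
def conjB (a m n b : ℕ) : Bool :=
  onBase (fun x => app (tP m) (hAppN n (hAppN a x))) (fun x => hAppN b (app (tP m) (hAppN n x)))

theorem syl_basic : (Nat.beq sylList.length 128 && sylList.Nodup &&
    sylList.all (fun a => Nat.blt a 1920) && sylGenCodes.all (fun g => sylList.contains g) &&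
    onBase (hAppN (sylC 0)) (fun x => x) && onBase (hAppN zCode) (app (genP 0)) &&
    kerList.all (fun a => sylList.contains a) && sylList.contains zCode &&
    sylList.contains 0 && onBase (hAppN 0) (fun x => x) &&
    sylList.any (fun a => !kerList.contains a)) = true := by
  decide +kernel

theorem syl_par_ok : ((List.range 127).all fun i =>
    Nat.blt (tget 0 sylParTab (i + 1) / 7) (i + 1) &&
    prodB (sylGenCodes.getD (tget 0 sylParTab (i + 1) % 7) 0) (sylC (tget 0 sylParTab (i + 1) / 7))
      (sylC (i + 1))) = true := by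
  decide +kernel

theorem syl_closed_ok : (sylGenCodes.all fun g =>
    sylList.all fun a => sylList.any fun c => prodB g a c) = true := by
  decide +kernel

theorem syl_center_ok : (sylList.all fun a =>
    Nat.beq a 0 || Nat.beq a zCode || sylGenCodes.any fun g => !commB g a) = true := by
  decide +kernel

theorem ker_centralizer_ok : ((List.range 1920).all fun n =>
    kerList.contains n || kerList.any fun a => !commB a n) = true := by
  decide +kernel

/-- The check of a list of products and fusions. -/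
def stepsOK : List ℕ → List (ℕ × ℕ × ℕ × ℕ × ℕ) → Bool
  | known, [] => sylGenCodes.all fun g => known.contains g
  | known, (k, a, m, n, b) :: r =>
    Nat.blt b 1920 && known.contains a &&
      (if Nat.beq k 0 then Nat.blt m 315 && Nat.blt n 1920 && sylList.contains b && conjB a m n b
        else known.contains m && prodB a m b) &&
      stepsOK (b :: known) r

theorem fusSteps_ok : stepsOK [zCode, 0] fusSteps = true := by decide +kernel

/-- A Sylow 2-subgroup of the Hall–Janko group. -/
noncomputable abbrev sylSub : Subgroup PGrp :=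
  Subgroup.closure (codeN '' {g | g ∈ sylGenCodes})

theorem sylList_lt {a : ℕ} (ha : a ∈ sylList) : a < 1920 := by
  have h := syl_basic
  simp only [Bool.and_eq_true] at h
  exact nat_blt (List.all_eq_true.mp h.1.1.1.1.1.1.1.1.2 a ha)

theorem sylGen_mem {g : ℕ} (hg : g ∈ sylGenCodes) : g ∈ sylList := by
  have h := syl_basic
  simp only [Bool.and_eq_true] at h
  exact List.contains_iff_mem.mp (List.all_eq_true.mp h.1.1.1.1.1.1.1.2 g hg)

theorem eq_one_of_code {a : ℕ} (ha : a < 1920) (h : onBase (hAppN a) (fun x => x) = true) :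
    codeN a = 1 := eq_of_onBase (codeN_apply ha) (fun x => rfl) h

theorem sylC_mem : ∀ i, i < 128 → codeN (sylC i) ∈ sylSub := by
  have hmem : ∀ i, i < 128 → sylC i ∈ sylList := fun i hi =>
    List.mem_map.mpr ⟨i, List.mem_range.mpr hi, rfl⟩
  intro i
  induction i using Nat.strong_induction_on with
  | _ i ih =>
    intro hi
    rcases i with - | i
    · have h := syl_basic
      simp only [Bool.and_eq_true] at h
      rw [eq_one_of_code (sylList_lt (hmem 0 hi)) h.1.1.1.1.1.1.2]
      exact one_mem _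
    · have h := all_range syl_par_ok (show i < 127 by omega)
      simp only [Bool.and_eq_true] at h
      obtain ⟨hp, hc⟩ := h
      have hp' := nat_blt hp
      generalize tget 0 sylParTab (i + 1) = c at hc hp'
      have hg : sylGenCodes.getD (c % 7) 0 ∈ sylGenCodes := by
        have hlen : c % 7 < sylGenCodes.length := Nat.mod_lt _ (by norm_num)
        rw [List.getD_eq_getElem _ _ hlen]
        exact List.getElem_mem hlen
      generalize sylGenCodes.getD (c % 7) 0 = g at hc hg
      have hprev := ih (c / 7) hp' (by omega)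
      rw [← eq_of_comp (codeN_apply (sylList_lt (sylGen_mem hg)))
        (codeN_apply (sylList_lt (hmem _ (by omega)))) (codeN_apply (sylList_lt (hmem _ hi))) hc]
      exact mul_mem (Subgroup.subset_closure ⟨g, hg, rfl⟩) hprev

theorem mem_sylSub_iff {f : PGrp} : f ∈ sylSub ↔ ∃ a ∈ sylList, f = codeN a := by
  constructor
  · intro hf
    let P : PGrp → Prop := fun u => ∀ a ∈ sylList, ∃ c ∈ sylList, u * codeN a = codeN c
    suffices hP : P f by
      have h := syl_basic
      simp only [Bool.and_eq_true] at h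
      have h0 : 0 ∈ sylList := List.contains_iff_mem.mp h.1.1.2
      obtain ⟨c, hc, e⟩ := hP 0 h0
      rw [eq_one_of_code (by norm_num) h.1.2, mul_one] at e
      exact ⟨c, hc, e⟩
    refine Subgroup.closure_induction (p := fun u _ => P u) ?_ ?_ ?_ ?_ hf
    · rintro _ ⟨g, hg, rfl⟩ a ha
      obtain ⟨c, hc, hc'⟩ := List.any_eq_true.mp
        (List.all_eq_true.mp (List.all_eq_true.mp syl_closed_ok g hg) a ha)
      exact ⟨c, hc, eq_of_comp (codeN_apply (sylList_lt (sylGen_mem hg)))
        (codeN_apply (sylList_lt ha)) (codeN_apply (sylList_lt hc)) hc'⟩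
    · exact fun a ha => ⟨a, ha, one_mul _⟩
    · intro u v _ _ hu hv a ha
      obtain ⟨c, hc, e⟩ := hv a ha
      obtain ⟨d, hd, e'⟩ := hu c hc
      exact ⟨d, hd, by rw [mul_assoc, e, e']⟩
    · intro u _ hu a ha
      let φ : {c // c ∈ sylList} → {c // c ∈ sylList} := fun c =>
        ⟨(hu c c.2).choose, (hu c c.2).choose_spec.1⟩
      have hφ : ∀ c : {c // c ∈ sylList}, u * codeN c = codeN (φ c) :=
        fun c => (hu c c.2).choose_spec.2
      have hinj : Function.Injective φ := by
        intro c d e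
        have h1 := (hφ c).trans ((congrArg (fun w : {c // c ∈ sylList} => codeN w) e).trans (hφ d).symm)
        exact Subtype.ext (codeN_injective (sylList_lt c.2) (sylList_lt d.2) (mul_left_cancel h1))
      obtain ⟨c, hc⟩ := (Finite.injective_iff_surjective.mp hinj) ⟨a, ha⟩
      refine ⟨c, c.2, ?_⟩
      rw [inv_mul_eq_iff_eq_mul, hφ, hc]
  · rintro ⟨a, ha, rfl⟩
    obtain ⟨i, hi, rfl⟩ := List.mem_map.mp ha
    exact sylC_mem i (List.mem_range.mp hi)

theorem card_sylSub : Nat.card sylSub = 128 := by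
  have h := syl_basic
  simp only [Bool.and_eq_true] at h
  have hnd : sylList.Nodup := of_decide_eq_true h.1.1.1.1.1.1.1.1.1.2
  let e : {a // a ∈ sylList} → sylSub := fun a => ⟨codeN a, mem_sylSub_iff.mpr ⟨a, a.2, rfl⟩⟩
  have he : Function.Bijective e :=
    ⟨fun a b hab => Subtype.ext
      (codeN_injective (sylList_lt a.2) (sylList_lt b.2) (congrArg Subtype.val hab)),
      fun f => by
        obtain ⟨a, ha, ha'⟩ := mem_sylSub_iff.mp f.2
        exact ⟨⟨a, ha⟩, Subtype.ext ha'.symm⟩⟩
  rw [← Nat.card_congr (Equiv.ofBijective e he), Nat.card_eq_fintype_card,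
    Fintype.card_of_subtype sylList.toFinset (fun n => List.mem_toFinset),
    List.toFinset_card_of_nodup hnd, nat_beq h.1.1.1.1.1.1.1.1.1.1]

theorem codeN_zCode : codeN zCode = gE 0 := by
  have h := syl_basic
  simp only [Bool.and_eq_true] at h
  exact eq_of_onBase (codeN_apply (by decide)) (gE_real 0) h.1.1.1.1.1.2

theorem zCode_mem : codeN zCode ∈ sylSub := by
  have h := syl_basic
  simp only [Bool.and_eq_true] at h
  exact mem_sylSub_iff.mpr ⟨_, List.contains_iff_mem.mp h.1.1.1.2, rfl⟩

theorem isPGroup_sylSub : IsPGroup 2 sylSub := IsPGroup.of_card (n := 7) (by rw [card_sylSub]; norm_num)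

theorem codeN_zero : codeN 0 = 1 := by
  have h := syl_basic
  simp only [Bool.and_eq_true] at h
  exact eq_one_of_code (by norm_num) h.1.2

theorem sylSub_le_cZero : sylSub ≤ cZero :=
  (Subgroup.closure_le _).mpr (by rintro _ ⟨g, -, rfl⟩; exact codeN_mem g)

theorem eq_z_of_central {f : PGrp} (hf : f ∈ sylSub) (h1 : f ≠ 1)
    (hc : ∀ s ∈ sylSub, s * f = f * s) : f = codeN zCode := by
  obtain ⟨a, ha, rfl⟩ := mem_sylSub_iff.mp hf
  rcases Bool.or_eq_true_iff.mp (List.all_eq_true.mp syl_center_ok a ha) with h | h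
  · rcases Bool.or_eq_true_iff.mp h with h | h
    · exact absurd (by rw [nat_beq h]; exact codeN_zero) h1
    · rw [nat_beq h]
  · exfalso
    obtain ⟨g, hg, hg'⟩ := List.any_eq_true.mp h
    have hga := codeN_apply (sylList_lt (sylGen_mem hg))
    have haa := codeN_apply (sylList_lt ha)
    have h2 := onBase_of_eq (F := fun x => hAppN g (hAppN a x)) (H := fun x => hAppN a (hAppN g x))
      (mul_apply_nat hga haa) (mul_apply_nat haa hga)
      (hc _ (Subgroup.subset_closure ⟨g, hg, rfl⟩))
    unfold commB at hg'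
    rw [h2] at hg'
    exact absurd hg' (by simp)

theorem stepsOK_sound {T : Subgroup PGrp}
    (hT : ∀ x ∈ T, ∀ g : PGrp, g * x * g⁻¹ ∈ sylSub → g * x * g⁻¹ ∈ T) :
    ∀ (r : List (ℕ × ℕ × ℕ × ℕ × ℕ)) (known : List ℕ),
      (∀ a ∈ known, a < 1920 ∧ codeN a ∈ T) → stepsOK known r = true →
      ∀ g ∈ sylGenCodes, codeN g ∈ T := by
  intro r
  induction r with
  | nil =>
    intro known hk h g hg
    exact (hk g (List.contains_iff_mem.mp (List.all_eq_true.mp h g hg))).2
  | cons s r ih =>
    obtain ⟨k, a, m, n, b⟩ := s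
    intro known hk h
    simp only [stepsOK, Bool.and_eq_true] at h
    obtain ⟨⟨⟨hb, ha⟩, hs⟩, hr⟩ := h
    refine ih (b :: known) (fun c hc => ?_) hr
    rcases List.mem_cons.mp hc with rfl | hc
    swap
    · exact hk c hc
    obtain ⟨ha', haT⟩ := hk a (List.contains_iff_mem.mp ha)
    refine ⟨nat_blt hb, ?_⟩
    split at hs
    · simp only [Bool.and_eq_true] at hs
      obtain ⟨⟨⟨hm, hn⟩, hbS⟩, hcj⟩ := hs
      let g : PGrp := tE ⟨m, nat_blt hm⟩ * codeN n
      have hg : ∀ x : Fin 315, ((g : Equiv.Perm (Fin 315)) x : ℕ) = app (tP m) (hAppN n x) :=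
        mul_apply_nat (tE_real ⟨m, nat_blt hm⟩) (codeN_apply (nat_blt hn))
      have e : g * codeN a = codeN c * g :=
        eq_of_onBase (F := fun x => app (tP m) (hAppN n (hAppN a x)))
          (F' := fun x => hAppN c (app (tP m) (hAppN n x)))
          (fun x => mul_apply_nat (f := g) (g := codeN a) (F := fun y => app (tP m) (hAppN n y))
            (G := hAppN a) hg (codeN_apply ha') x)
          (fun x => mul_apply_nat (f := codeN c) (g := g) (F := hAppN c)
            (G := fun y => app (tP m) (hAppN n y)) (codeN_apply (nat_blt hb)) hg x) hcj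
      have e2 : g * codeN a * g⁻¹ = codeN c := by rw [e, mul_inv_cancel_right]
      rw [← e2]
      refine hT _ haT g ?_
      rw [e2]
      exact mem_sylSub_iff.mpr ⟨c, List.contains_iff_mem.mp hbS, rfl⟩
    · simp only [Bool.and_eq_true] at hs
      obtain ⟨hm, hp⟩ := hs
      obtain ⟨hm', hmT⟩ := hk m (List.contains_iff_mem.mp hm)
      rw [← eq_of_comp (codeN_apply ha') (codeN_apply hm') (codeN_apply (nat_blt hb)) hp]
      exact mul_mem haT hmT

theorem sylSub_le_of_closed (T : Subgroup PGrp) (hTS : T ≤ sylSub) (hne : T ≠ ⊥)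
    (hT : ∀ x ∈ T, ∀ g : PGrp, g * x * g⁻¹ ∈ sylSub → g * x * g⁻¹ ∈ T) : sylSub ≤ T := by
  haveI : Fact (Nat.Prime 2) := ⟨Nat.prime_two⟩
  haveI : (T.subgroupOf sylSub).Normal := ⟨fun n hn g => by
    show ((g * n * g⁻¹ : sylSub) : PGrp) ∈ T
    exact hT _ hn (g : PGrp) (g * n * g⁻¹ : sylSub).2⟩
  have hne' : T.subgroupOf sylSub ≠ ⊥ := fun h => hne (eq_bot_iff.mpr fun x hx => by
    have h1 : (⟨x, hTS hx⟩ : sylSub) ∈ T.subgroupOf sylSub := hx
    rw [h, Subgroup.mem_bot] at h1
    exact Subgroup.mem_bot.mpr (congrArg Subtype.val h1))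
  obtain ⟨z, hzT, hzc, hzo⟩ := Cfsg.Lib.PGroup.exists_mem_center_orderOf_eq isPGroup_sylSub hne'
  have hz : (z : PGrp) = codeN zCode := eq_z_of_central z.2 (fun h => by
      rw [show z = 1 from Subtype.ext h, orderOf_one] at hzo
      exact absurd hzo (by norm_num))
    (fun s hs => congrArg Subtype.val (Subgroup.mem_center_iff.mp hzc ⟨s, hs⟩))
  refine (Subgroup.closure_le T).mpr ?_
  rintro _ ⟨g, hg, rfl⟩
  refine stepsOK_sound hT fusSteps [zCode, 0] (fun a ha => ?_) fusSteps_ok g hg
  rcases List.mem_cons.mp ha with rfl | ha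
  · exact ⟨by decide, hz ▸ hzT⟩
  · rw [List.mem_singleton.mp ha]
    exact ⟨by norm_num, by rw [codeN_zero]; exact one_mem T⟩

/-- The normal subgroup of order 32 of the centralizer. -/
noncomputable abbrev coreSub : Subgroup PGrp := blockRep.ker.map cZero.subtype

theorem mem_coreSub_of_code {a : ℕ} (ha : a ∈ kerList) : codeN a ∈ coreSub := by
  have hlt : a < 1920 := List.mem_range.mp (List.mem_filter.mp ha).1
  refine ⟨⟨codeN a, codeN_mem a⟩, (mem_ker_iff _).mpr ?_, rfl⟩
  have h : (codeOf ⟨codeN a, codeN_mem a⟩ : ℕ) = a % 1920 :=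
    congrArg Fin.val (codeEl_injective (codeOf_spec ⟨codeN a, codeN_mem a⟩).symm)
  rw [h, Nat.mod_eq_of_lt hlt]
  exact ha

theorem coreSub_le : coreSub ≤ sylSub := by
  rintro _ ⟨u, hu, rfl⟩
  have h := syl_basic
  simp only [Bool.and_eq_true] at h
  refine mem_sylSub_iff.mpr ⟨codeOf u, List.contains_iff_mem.mp
    (List.all_eq_true.mp h.1.1.1.1.2 _ ((mem_ker_iff u).mp hu)), ?_⟩
  rw [codeN_fin]
  exact codeOf_spec u

theorem cZero_le_normalizer : cZero ≤ Subgroup.normalizer (coreSub : Set PGrp) := by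
  have key : ∀ c : cZero, ∀ x ∈ coreSub, (c : PGrp) * x * (c : PGrp)⁻¹ ∈ coreSub := by
    intro c x hx
    obtain ⟨u, hu, e⟩ := Subgroup.mem_map.mp hx
    refine Subgroup.mem_map.mpr ⟨c * u * c⁻¹, (MonoidHom.normal_ker blockRep).conj_mem u hu c, ?_⟩
    rw [← e, map_mul, map_mul, map_inv]
    rfl
  intro g hg
  rw [Subgroup.mem_normalizer_iff]
  intro x
  refine ⟨fun hx => key ⟨g, hg⟩ x hx, fun hx => ?_⟩
  have h := key ⟨g, hg⟩⁻¹ _ hx
  rw [Subgroup.coe_inv, inv_inv] at h
  rwa [show g⁻¹ * (g * x * g⁻¹) * g = x by group] at h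

theorem centralizer_coreSub : Subgroup.centralizer (coreSub : Set PGrp) ≤ coreSub := by
  intro f hf
  have hz : zCode ∈ kerList := by
    have h := kerList_ok
    simp only [Bool.and_eq_true] at h
    exact List.contains_iff_mem.mp h.1.2
  have hfc : f ∈ cZero := by
    rw [Subgroup.mem_centralizer_iff]
    rintro _ rfl
    rw [← codeN_zCode]
    exact Subgroup.mem_centralizer_iff.mp hf _ (mem_coreSub_of_code hz)
  obtain ⟨n, hn, rfl⟩ := exists_codeN hfc
  rcases Bool.or_eq_true_iff.mp (all_range ker_centralizer_ok hn) with h | h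
  · exact mem_coreSub_of_code (List.contains_iff_mem.mp h)
  · exfalso
    obtain ⟨a, ha, ha'⟩ := List.any_eq_true.mp h
    have hlt : a < 1920 := List.mem_range.mp (List.mem_filter.mp ha).1
    have h2 := onBase_of_eq (F := fun x => hAppN a (hAppN n x)) (H := fun x => hAppN n (hAppN a x))
      (mul_apply_nat (codeN_apply hlt) (codeN_apply hn))
      (mul_apply_nat (codeN_apply hn) (codeN_apply hlt))
      (Subgroup.mem_centralizer_iff.mp hf _ (mem_coreSub_of_code ha))
    unfold commB at ha'
    rw [h2] at ha'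
    exact absurd ha' (by simp)

theorem cZero_generated :
    Subgroup.normalClosure {u : cZero | ∃ k : ℕ, u ^ 2 ^ k = 1} = ⊤ := by
  set H := Subgroup.normalClosure {u : cZero | ∃ k : ℕ, u ^ 2 ^ k = 1} with hH
  haveI : Fact (Nat.Prime 2) := ⟨Nat.prime_two⟩
  have hker : blockRep.ker ≤ H := fun u hu => by
    obtain ⟨k, hk⟩ := IsPGroup.of_card (p := 2) (n := 5)
      (by rw [card_ker]; norm_num : Nat.card blockRep.ker = 2 ^ 5) ⟨u, hu⟩
    exact Subgroup.subset_normalClosure ⟨k, congrArg Subtype.val hk⟩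
  haveI := alternatingGroup.isSimpleGroup_five
  haveI hs : IsSimpleGroup (cZero ⧸ blockRep.ker) := blockQuotEquiv.isSimpleGroup
  have hn : (H.map (QuotientGroup.mk' blockRep.ker)).Normal :=
    (Subgroup.normalClosure_normal).map _ (QuotientGroup.mk'_surjective _)
  have hcomap : (H.map (QuotientGroup.mk' blockRep.ker)).comap (QuotientGroup.mk' blockRep.ker) = H := by
    rw [Subgroup.comap_map_eq, QuotientGroup.ker_mk', sup_eq_left.mpr hker]
  rcases hn.eq_bot_or_eq_top with h | h
  · exfalso
    have h0 := syl_basic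
    simp only [Bool.and_eq_true] at h0
    obtain ⟨a, ha, ha'⟩ := List.any_eq_true.mp h0.2
    obtain ⟨k, hk⟩ := isPGroup_sylSub ⟨codeN a, mem_sylSub_iff.mpr ⟨a, ha, rfl⟩⟩
    have hu : (⟨codeN a, codeN_mem a⟩ : cZero) ∈ H :=
      Subgroup.subset_normalClosure ⟨k, Subtype.ext (by
        have := congrArg Subtype.val hk
        simpa using this)⟩
    rw [h, MonoidHom.comap_bot, QuotientGroup.ker_mk'] at hcomap
    have hc : (codeOf ⟨codeN a, codeN_mem a⟩ : ℕ) = a % 1920 :=
      congrArg Fin.val (codeEl_injective (codeOf_spec ⟨codeN a, codeN_mem a⟩).symm)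
    rw [← hcomap, mem_ker_iff, hc, Nat.mod_eq_of_lt (sylList_lt ha)] at hu
    simp [List.contains_iff_mem, hu] at ha'
  · rw [h, Subgroup.comap_top] at hcomap
    exact hcomap.symm

theorem normalizing_mem_closure (g : PGrp) (hg : ∀ s ∈ sylSub, g * s * g⁻¹ ∈ sylSub) :
    g ∈ Subgroup.closure
      {x : PGrp | (∃ k : ℕ, x ^ 2 ^ k = 1) ∧ x ∈ Subgroup.normalizer (coreSub : Set PGrp)} := by
  have hgz : g * codeN zCode * g⁻¹ = codeN zCode := by
    refine eq_z_of_central (hg _ zCode_mem) (fun h => ?_) fun s hs => ?_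
    · have h1 : codeN zCode = 1 := conj_eq_one_iff.mp h
      exact absurd (codeN_injective (by decide) (by norm_num) (h1.trans codeN_zero.symm)) (by decide)
    · let ψ : sylSub → sylSub := fun t => ⟨g * t * g⁻¹, hg _ t.2⟩
      have hψ : Function.Injective ψ := fun a b e => Subtype.ext (by
        simpa [ψ] using congrArg Subtype.val e)
      obtain ⟨t, ht⟩ := (Finite.injective_iff_surjective.mp hψ) ⟨s, hs⟩
      have hts : g * (t : PGrp) * g⁻¹ = s := congrArg Subtype.val ht
      have hcomm : (t : PGrp) * codeN zCode = codeN zCode * t := by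
        rw [codeN_zCode]
        exact (Subgroup.mem_centralizer_iff.mp (sylSub_le_cZero t.2) _ (Set.mem_singleton _)).symm
      rw [← hts]
      calc g * (t : PGrp) * g⁻¹ * (g * codeN zCode * g⁻¹) = g * ((t : PGrp) * codeN zCode) * g⁻¹ := by group
        _ = g * (codeN zCode * t) * g⁻¹ := by rw [hcomm]
        _ = g * codeN zCode * g⁻¹ * (g * t * g⁻¹) := by group
  have hgc : g ∈ cZero := by
    rw [Subgroup.mem_centralizer_iff]
    rintro _ rfl
    rw [← codeN_zCode]
    exact (mul_inv_eq_iff_eq_mul.mp hgz).symm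
  have hle : Subgroup.normalClosure {u : cZero | ∃ k : ℕ, u ^ 2 ^ k = 1} ≤
      (Subgroup.closure {x : PGrp | (∃ k : ℕ, x ^ 2 ^ k = 1) ∧
        x ∈ Subgroup.normalizer (coreSub : Set PGrp)}).comap cZero.subtype := by
    refine (Subgroup.closure_le _).mpr ?_
    intro u hu
    obtain ⟨v, ⟨k, hv⟩, hvu⟩ := Group.mem_conjugatesOfSet_iff.mp hu
    obtain ⟨c, rfl⟩ := isConj_iff.mp hvu
    refine Subgroup.subset_closure ⟨⟨k, ?_⟩, cZero_le_normalizer (c * v * c⁻¹).2⟩
    rw [← map_pow, conj_pow, hv, mul_one, mul_inv_cancel, map_one]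
  rw [cZero_generated] at hle
  exact hle (x := ⟨g, hgc⟩) trivial

theorem isSimple_fusion_iso {G : Type*} [Group G] [Finite G] (e : G ≃* PGrp) (S : Sylow 2 G)
    (hS : (S : Subgroup G).map e.toMonoidHom = sylSub) :
    (groupFusionSystem (S : Subgroup G)).IsSimple 2 := by
  have hmem : ∀ {x : G}, x ∈ (S : Subgroup G) ↔ e x ∈ sylSub := fun {x} => by
    rw [← hS]
    exact (Subgroup.mem_map_iff_mem (f := e.toMonoidHom) e.injective).symm
  refine isSimple_two_of_centric S (coreSub.comap e.toMonoidHom) ?_ ?_ ?_ ?_ ?_ ?_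
  · intro h
    have h1 := card_sylSub
    rw [← hS, h, Subgroup.map_bot, Subgroup.card_bot] at h1
    norm_num at h1
  · intro T hTS hne hT
    have h := sylSub_le_of_closed (T.map e.toMonoidHom)
      (by rintro _ ⟨x, hx, rfl⟩; exact hmem.mp (hTS hx))
      (fun h => hne ((Subgroup.map_eq_bot_iff_of_injective _ e.injective).mp h))
      (by
        rintro _ ⟨x, hx, rfl⟩ g hg
        obtain ⟨a, rfl⟩ := e.surjective g
        refine ⟨a * x * a⁻¹, hT x hx a (hmem.mpr ?_), ?_⟩
        · rw [map_mul, map_mul, map_inv]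
          exact hg
        · simp)
    intro x hx
    exact (Subgroup.mem_map_iff_mem (f := e.toMonoidHom) e.injective).mp (h (hmem.mp hx))
  · exact fun x hx => hmem.mpr (coreSub_le hx)
  · intro x hx
    rw [Subgroup.mem_normalizer_iff]
    intro y
    have h := Subgroup.mem_normalizer_iff.mp (cZero_le_normalizer (sylSub_le_cZero (hmem.mp hx))) (e y)
    simpa using h
  · intro x hx
    refine centralizer_coreSub (Subgroup.mem_centralizer_iff.mpr fun q hq => ?_)
    obtain ⟨a, rfl⟩ := e.surjective q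
    show e a * e x = e x * e a
    rw [← map_mul, ← map_mul, Subgroup.mem_centralizer_iff.mp hx a hq]
  · intro g hg
    have h := normalizing_mem_closure (e g) (fun s hs => by
      obtain ⟨a, rfl⟩ := e.surjective s
      rw [← map_inv, ← map_mul, ← map_mul]
      exact hmem.mp (hg a (hmem.mpr hs)))
    have hle : Subgroup.closure {x : PGrp | (∃ k : ℕ, x ^ 2 ^ k = 1) ∧
        x ∈ Subgroup.normalizer (coreSub : Set PGrp)} ≤
        (Subgroup.closure {x : G | (∃ k : ℕ, x ^ 2 ^ k = 1) ∧
          x ∈ Subgroup.normalizer ((coreSub.comap e.toMonoidHom : Subgroup G) : Set G)}).map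
            e.toMonoidHom := by
      refine (Subgroup.closure_le _).mpr ?_
      rintro y ⟨⟨k, hk⟩, hy⟩
      obtain ⟨a, rfl⟩ := e.surjective y
      refine ⟨a, Subgroup.subset_closure ⟨⟨k, e.injective (by rw [map_pow, hk, map_one])⟩, ?_⟩, rfl⟩
      rw [Subgroup.mem_normalizer_iff]
      intro z
      simpa using Subgroup.mem_normalizer_iff.mp hy (e z)
    exact (Subgroup.mem_map_iff_mem (f := e.toMonoidHom) e.injective).mp (hle h)

theorem isSimple_fusion_J2 {G : Type*} [Group G] [Finite G] (hG : Spor.IsoJ2 G) (S : Sylow 2 G) :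
    (groupFusionSystem (S : Subgroup G)).IsSimple 2 := by
  haveI : Fact (Nat.Prime 2) := ⟨Nat.prime_two⟩
  obtain ⟨e₀⟩ := hG
  let e₁ : G ≃* PGrp := e₀.trans j2Equiv
  have hcard : Nat.card ((S : Subgroup G).map e₁.toMonoidHom) = 128 := by
    rw [Subgroup.card_map_of_injective e₁.injective, S.card_eq_multiplicity,
      Nat.card_congr e₁.toEquiv, card_PGrp]
    rw [show (604800 : ℕ) = 2 ^ 7 * 4725 by norm_num,
      Nat.factorization_mul (by norm_num) (by norm_num), Finsupp.add_apply,
      Nat.Prime.factorization_pow Nat.prime_two, Finsupp.single_eq_same,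
      Nat.factorization_eq_zero_of_not_dvd (by norm_num)]
    norm_num
  have hf : (Nat.card PGrp).factorization 2 = 7 := by
    rw [card_PGrp, show (604800 : ℕ) = 2 ^ 7 * 4725 by norm_num,
      Nat.factorization_mul (by norm_num) (by norm_num), Finsupp.add_apply,
      Nat.Prime.factorization_pow Nat.prime_two, Finsupp.single_eq_same,
      Nat.factorization_eq_zero_of_not_dvd (by norm_num)]
  let P : Sylow 2 PGrp := Sylow.ofCard _ (by rw [hcard, hf]; norm_num)
  let P₀ : Sylow 2 PGrp := Sylow.ofCard sylSub (by rw [card_sylSub, hf]; norm_num)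
  obtain ⟨g, hg⟩ := MulAction.exists_smul_eq PGrp P P₀
  refine isSimple_fusion_iso (e₁.trans (MulAut.conj g)) S ?_
  have h := congrArg (fun R : Sylow 2 PGrp => (R : Subgroup PGrp)) hg
  simp only [P, P₀, Sylow.coe_subgroup_smul, Sylow.coe_ofCard] at h
  rw [show sylSub = MulAut.conj g • ((S : Subgroup G).map e₁.toMonoidHom) from h.symm,
    Subgroup.pointwise_smul_def]
  exact (Subgroup.map_map (S : Subgroup G) (MulAut.conj g).toMonoidHom e₁.toMonoidHom).symm

end Cfsg.Lib.J2
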