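import Cfsg.Agent.Lib.J2.Perm

/-!
# Order and normal form of the permutation image of the reflection group
-/

set_option autoImplicit false
set_option linter.unusedSimpArgs false

namespace Cfsg.Lib.J2

/-- The permutation group on the 315 reflections. -/
noncomputable abbrev PGrp : Subgroup (Equiv.Perm (Fin 315)) := rep.range

/-- A packed table realised by a group element. -/
def Realises (f : PGrp) (P : ℕ) : Prop := ∀ x : Fin 315, ((f : Equiv.Perm (Fin 315)) x : ℕ) = app P x

theorem eq_of_base {f f' : PGrp}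
    (h : ∀ g : Fin 4, (f : Equiv.Perm (Fin 315)) (genIdx g) = (f' : Equiv.Perm (Fin 315)) (genIdx g)) :
    f = f' := by
  obtain ⟨_, x, rfl⟩ := f
  obtain ⟨_, y, rfl⟩ := f'
  exact Subtype.ext (rep_eq_of_agree h)

theorem Realises.apply {f : PGrp} {P : ℕ} (h : Realises f P) {x : Fin 315} {n : ℕ} (hn : (x : ℕ) = n) :
    ((f : Equiv.Perm (Fin 315)) x : ℕ) = app P n := hn ▸ h x

theorem Realises.mul' {f f' : PGrp} {P Q R : ℕ} (h : Realises f P) (h' : Realises f' Q)
    (hc : compOK P Q R = true) : Realises (f * f') R := fun x => by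
  rw [Subgroup.coe_mul, Equiv.Perm.mul_apply, h.apply (h' x)]
  exact nat_beq (all_range hc x.2)

theorem realises_one {P : ℕ} (h : (List.range 315).all (fun x => Nat.beq (app P x) x) = true) :
    Realises 1 P := fun x => (nat_beq (all_range h x.2)).symm

theorem realises_quot {t g u : PGrp} {P G Q R : ℕ} (ht : Realises t Q) (hg : Realises g G)
    (hu : Realises u P) (h : ∀ x : Fin 315, app R x < 315 ∧ app Q (app R x) = app G (app P x)) :
    Realises (t⁻¹ * g * u) R := fun x => by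
  have e : (t : Equiv.Perm (Fin 315)) ⟨app R x, (h x).1⟩ =
      (g : Equiv.Perm (Fin 315)) ((u : Equiv.Perm (Fin 315)) x) := by
    apply Fin.ext
    rw [ht.apply rfl, hg.apply (hu x)]
    exact (h x).2
  show (((t : Equiv.Perm (Fin 315))⁻¹ ((g : Equiv.Perm (Fin 315)) ((u : Equiv.Perm (Fin 315)) x)) :
    Fin 315) : ℕ) = app R x
  rw [← e, Equiv.Perm.coe_inv, Equiv.symm_apply_apply]

/-- The `g`-th generator. -/
noncomputable def gE (g : Fin 4) : PGrp := ⟨rep (sG (genIdx g)), _, rfl⟩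

theorem gE_real (g : Fin 4) : Realises (gE g) (genP g) := fun x => congrArg Fin.val (rep_sG_gen g x)

theorem exists_tE : ∀ n < 315, ∃ f : PGrp, Realises f (tP n) := by
  intro n
  induction n using Nat.strong_induction_on with
  | _ n ih =>
    intro hn
    rcases n with - | n
    · exact ⟨1, realises_one tzero_id⟩
    · obtain ⟨g, m, hm, hc⟩ := tPar_spec hn
      obtain ⟨f, hf⟩ := ih m (by omega) m.2
      exact ⟨gE g * f, (gE_real g).mul' hf hc⟩

/-- The `n`-th coset representative. -/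
noncomputable def tE (n : Fin 315) : PGrp := (exists_tE n n.2).choose

theorem tE_real (n : Fin 315) : Realises (tE n) (tP n) := (exists_tE n n.2).choose_spec

theorem tE_zero_pt (n : Fin 315) : (tE n : Equiv.Perm (Fin 315)) 0 = pt n := by
  have h := all_range points_ok n.2
  simp only [Bool.and_eq_true] at h
  exact Fin.ext (((tE_real n).apply rfl).trans (nat_beq h.2))

theorem exists_hE (i : Fin 2) : ∃ f : PGrp, Realises f (hP i) := by
  have h := all_range hWit_ok i.2
  simp only [hWitOK, Bool.and_eq_true] at h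
  obtain ⟨hm, hx⟩ := h
  let g : Fin 4 := ⟨Nat.mod (tget 0 hWitTab i) 4, Nat.mod_lt _ (by norm_num)⟩
  let m : Fin 315 := ⟨Nat.div (tget 0 hWitTab i) 4, nat_blt hm⟩
  refine ⟨(tE (pos (pg g (pt m))))⁻¹ * gE g * tE m,
    realises_quot (tE_real _) (gE_real g) (tE_real m) fun x => ?_⟩
  have hx' := all_range hx x.2
  simp only [Bool.and_eq_true] at hx'
  exact ⟨nat_blt hx'.1, nat_beq hx'.2⟩

/-- The generators of the point stabiliser. -/
noncomputable def hE (i : Fin 2) : PGrp := (exists_hE i).choose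

theorem hE_real (i : Fin 2) : Realises (hE i) (hP i) := (exists_hE i).choose_spec

theorem vPar_spec {n : ℕ} (hn : n + 1 < 160) :
    ∃ (k : Fin 2) (m : Fin 160), (m : ℕ) ≤ n ∧ compOK (hP k) (vP m) (vP (n + 1)) = true := by
  have h := all_range vPar_ok (show n < 159 by omega)
  simp only [vParOK, Bool.and_eq_true] at h
  have hb := nat_blt h.1
  exact ⟨⟨Nat.mod (tget 0 vParTab (n + 1)) 2, Nat.mod_lt _ (by norm_num)⟩,
    ⟨Nat.div (tget 0 vParTab (n + 1)) 2, by omega⟩, Nat.lt_succ_iff.mp hb, h.2⟩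

theorem exists_vE : ∀ n < 160, ∃ f : PGrp, Realises f (vP n) := by
  intro n
  induction n using Nat.strong_induction_on with
  | _ n ih =>
    intro hn
    rcases n with - | n
    · exact ⟨1, realises_one vzero_id⟩
    · obtain ⟨k, m, hm, hc⟩ := vPar_spec hn
      obtain ⟨f, hf⟩ := ih m (by omega) m.2
      exact ⟨hE k * f, (hE_real k).mul' hf hc⟩

/-- The second representatives. -/
noncomputable def vE (n : Fin 160) : PGrp := (exists_vE n n.2).choose

theorem vE_real (n : Fin 160) : Realises (vE n) (vP n) := (exists_vE n n.2).choose_spec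

theorem exists_wE (j : Fin 12) : ∃ f : PGrp, Realises f (wP j) := by
  obtain ⟨j, hj⟩ := j
  rcases j with - | j
  · exact ⟨1, realises_one wzero_id⟩
  · have h := all_range wWit_ok (show j < 11 by omega)
    simp only [wWitOK, Bool.and_eq_true] at h
    obtain ⟨hm, hm', hx⟩ := h
    let k : Fin 2 := ⟨Nat.mod (tget 0 wWitTab (j + 1)) 2, Nat.mod_lt _ (by norm_num)⟩
    let m : Fin 160 := ⟨Nat.div (tget 0 wWitTab (j + 1)) 2, nat_blt hm⟩
    let m' : Fin 160 := ⟨_, nat_blt hm'⟩
    refine ⟨(vE m')⁻¹ * hE k * vE m, realises_quot (vE_real m') (hE_real k) (vE_real m) fun x => ?_⟩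
    have hx' := all_range hx x.2
    simp only [Bool.and_eq_true] at hx'
    exact ⟨nat_blt hx'.1, nat_beq hx'.2⟩

/-- The two-point stabiliser. -/
noncomputable def wE (j : Fin 12) : PGrp := (exists_wE j).choose

theorem wE_real (j : Fin 12) : Realises (wE j) (wP j) := (exists_wE j).choose_spec

theorem eq_of_onBase {f f' : PGrp} {F F' : ℕ → ℕ}
    (hf : ∀ x : Fin 315, ((f : Equiv.Perm (Fin 315)) x : ℕ) = F x)
    (hf' : ∀ x : Fin 315, ((f' : Equiv.Perm (Fin 315)) x : ℕ) = F' x)
    (h : onBase F F' = true) : f = f' :=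
  eq_of_base fun g => Fin.ext (by
    rw [hf, hf']
    exact nat_beq (all_range h g.2))

/-- The elements of the point stabiliser in normal form. -/
noncomputable def hEl (p : Fin 160 × Fin 12) : PGrp := vE p.1 * wE p.2

/-- The normal form of an element. -/
noncomputable def nfEl (p : Fin 315 × Fin 160 × Fin 12) : PGrp := tE p.1 * hEl p.2

theorem hEl_apply (p : Fin 160 × Fin 12) (x : Fin 315) :
    ((hEl p : Equiv.Perm (Fin 315)) x : ℕ) = app (vP p.1) (app (wP p.2) x) := by
  show (((vE p.1 : Equiv.Perm (Fin 315)) ((wE p.2 : Equiv.Perm (Fin 315)) x) : Fin 315) : ℕ) = _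
  exact (vE_real p.1).apply (wE_real p.2 x)

theorem nfEl_apply (p : Fin 315 × Fin 160 × Fin 12) (x : Fin 315) :
    ((nfEl p : Equiv.Perm (Fin 315)) x : ℕ) = app (tP p.1) (app (vP p.2.1) (app (wP p.2.2) x)) := by
  show (((tE p.1 : Equiv.Perm (Fin 315)) ((hEl p.2 : Equiv.Perm (Fin 315)) x) : Fin 315) : ℕ) = _
  exact (tE_real p.1).apply (hEl_apply p.2 x)

theorem stab_mul {f : PGrp} {P : ℕ} (hf : Realises f P) {i : Fin 160} {c : ℕ}
    (h : stabOK P i c = true) : ∃ q, f * vE i = hEl q := by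
  simp only [stabOK, Bool.and_eq_true] at h
  have hc := nat_blt h.1
  refine ⟨(⟨Nat.div c 12, Nat.div_lt_of_lt_mul (by omega)⟩, ⟨Nat.mod c 12, Nat.mod_lt _ (by norm_num)⟩),
    eq_of_onBase (fun x => ?_) (hEl_apply _) h.2⟩
  exact hf.apply (vE_real i x)

theorem nfEl_of_code {f : PGrp} {F : ℕ → ℕ} (hf : ∀ x : Fin 315, ((f : Equiv.Perm (Fin 315)) x : ℕ) = F x)
    {c : ℕ} (hc : c < 604800)
    (hb : onBase F (fun x => app (tP (Nat.div c 1920))
      (app (vP (Nat.mod (Nat.div c 12) 160)) (app (wP (Nat.mod c 12)) x))) = true) :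
    ∃ p, f = nfEl p :=
  ⟨(⟨Nat.div c 1920, Nat.div_lt_of_lt_mul (by omega)⟩,
    ⟨Nat.mod (Nat.div c 12) 160, Nat.mod_lt _ (by norm_num)⟩,
    ⟨Nat.mod c 12, Nat.mod_lt _ (by norm_num)⟩), eq_of_onBase hf (nfEl_apply _) hb⟩

theorem gE_mul_tE (k : Fin 4) (n : Fin 315) : ∃ p, gE k * tE n = nfEl p := by
  have h := all_range (all_range left_ok k.2) n.2
  unfold leftOK at h
  generalize tget 0 leftTab (315 * (k : ℕ) + (n : ℕ)) = c at h
  obtain ⟨hc, hb⟩ := Bool.and_eq_true_iff.mp h
  exact nfEl_of_code (f := gE k * tE n) (F := fun x => app (genP k) (app (tP n) x)) (fun x => by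
    rw [Subgroup.coe_mul, Equiv.Perm.mul_apply]; exact (gE_real k).apply (tE_real n x))
    (nat_blt hc) hb

theorem wE_mul_wE (a b : Fin 12) : ∃ c, wE a * wE b = wE c := by
  have h := all_range (all_range ww_ok a.2) b.2
  simp only [wwOK, Bool.and_eq_true] at h
  refine ⟨⟨_, nat_blt h.1⟩, eq_of_onBase (fun x => ?_) (wE_real _) h.2⟩
  exact (wE_real a).apply (wE_real b x)

theorem wE_mul_hEl (a : Fin 12) (p : Fin 160 × Fin 12) : ∃ q, wE a * hEl p = hEl q := by
  obtain ⟨⟨i, c⟩, e⟩ := stab_mul (wE_real a) (all_range (all_range wv_ok a.2) p.1.2)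
  obtain ⟨d, hd⟩ := wE_mul_wE c p.2
  refine ⟨(i, d), ?_⟩
  rw [hEl, ← mul_assoc, e, hEl, mul_assoc, hd]
  rfl

theorem hE_mul_hEl (k : Fin 2) (p : Fin 160 × Fin 12) : ∃ q, hE k * hEl p = hEl q := by
  obtain ⟨⟨i, c⟩, e⟩ := stab_mul (hE_real k) (all_range (all_range hv_ok k.2) p.1.2)
  obtain ⟨d, hd⟩ := wE_mul_wE c p.2
  refine ⟨(i, d), ?_⟩
  rw [hEl, ← mul_assoc, e, hEl, mul_assoc, hd]
  rfl

theorem realises_unique {f f' : PGrp} {P : ℕ} (h : Realises f P) (h' : Realises f' P) : f = f' :=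
  Subtype.ext (Equiv.ext fun x => Fin.ext ((h x).trans (h' x).symm))

theorem vE_mul_hEl : ∀ (n : ℕ) (hn : n < 160) (p : Fin 160 × Fin 12),
    ∃ q, vE ⟨n, hn⟩ * hEl p = hEl q := by
  intro n
  induction n using Nat.strong_induction_on with
  | _ n ih =>
    intro hn p
    rcases n with - | n
    · rw [realises_unique (vE_real ⟨0, hn⟩) (realises_one vzero_id), one_mul]
      exact ⟨p, rfl⟩
    · obtain ⟨k, m, hm, hc⟩ := vPar_spec hn
      rw [realises_unique (vE_real ⟨n + 1, hn⟩) ((hE_real k).mul' (vE_real m) hc), mul_assoc]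
      obtain ⟨q, hq⟩ := ih m (by omega) m.2 p
      rw [show vE m * hEl p = hEl q from hq]
      exact hE_mul_hEl k q

theorem hEl_mul (p q : Fin 160 × Fin 12) : ∃ r, hEl p * hEl q = hEl r := by
  obtain ⟨s, hs⟩ := wE_mul_hEl p.2 q
  obtain ⟨r, hr⟩ := vE_mul_hEl p.1 p.1.2 s
  exact ⟨r, by rw [hEl, mul_assoc, hs]; exact hr⟩

theorem gE_mul_nfEl (k : Fin 4) (p : Fin 315 × Fin 160 × Fin 12) :
    ∃ q, gE k * nfEl p = nfEl q := by
  obtain ⟨⟨n, s⟩, hs⟩ := gE_mul_tE k p.1
  obtain ⟨r, hr⟩ := hEl_mul s p.2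
  exact ⟨(n, r), by rw [nfEl, ← mul_assoc, hs, nfEl, mul_assoc, hr]; rfl⟩

theorem range_eq_closure : PGrp = Subgroup.closure (Set.range fun g : Fin 4 => rep (sG (genIdx g))) := by
  rw [PGrp, MonoidHom.range_eq_map, ← closure_gens, MonoidHom.map_closure]
  congr 1
  ext f
  simp

theorem hEl_zero : hEl (0, 0) = 1 := by
  rw [hEl, realises_unique (vE_real 0) (realises_one vzero_id),
    realises_unique (wE_real 0) (realises_one wzero_id), one_mul]

theorem tE_zero : tE 0 = 1 := realises_unique (tE_real 0) (realises_one tzero_id)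

theorem exists_nfEl (f : PGrp) : ∃ p, f = nfEl p := by
  obtain ⟨f, hf⟩ := f
  have hf' : f ∈ Submonoid.closure (Set.range fun g : Fin 4 => rep (sG (genIdx g))) := by
    rw [← Subgroup.closure_toSubmonoid_of_finite]
    exact range_eq_closure ▸ hf
  have key : ∀ g ∈ Submonoid.closure (Set.range fun g : Fin 4 => rep (sG (genIdx g))),
      ∀ p, ∃ q, g * (nfEl p : Equiv.Perm (Fin 315)) = nfEl q := by
    intro g hg
    induction hg using Submonoid.closure_induction with
    | mem x hx =>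
      obtain ⟨k, rfl⟩ := hx
      intro p
      obtain ⟨q, hq⟩ := gE_mul_nfEl k p
      exact ⟨q, congrArg Subtype.val hq⟩
    | one => exact fun p => ⟨p, one_mul _⟩
    | mul x y _ _ hx hy =>
      intro p
      obtain ⟨q, hq⟩ := hy p
      obtain ⟨r, hr⟩ := hx q
      exact ⟨r, by rw [mul_assoc, hq, hr]⟩
  obtain ⟨q, hq⟩ := key f hf' (0, 0, 0)
  refine ⟨q, Subtype.ext ?_⟩
  rwa [nfEl, tE_zero, hEl_zero, one_mul, Subgroup.coe_one, mul_one] at hq

theorem vE_fix_zero : ∀ (n : ℕ) (hn : n < 160), ((vE ⟨n, hn⟩ : Equiv.Perm (Fin 315)) 0 : ℕ) = 0 := by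
  intro n
  induction n using Nat.strong_induction_on with
  | _ n ih =>
    intro hn
    rcases n with - | n
    · exact ((vE_real ⟨0, hn⟩).apply rfl).trans (nat_beq (all_range vzero_id (show 0 < 315 by norm_num)))
    · obtain ⟨k, m, hm, hc⟩ := vPar_spec hn
      rw [realises_unique (vE_real ⟨n + 1, hn⟩) ((hE_real k).mul' (vE_real m) hc), Subgroup.coe_mul,
        Equiv.Perm.mul_apply, (hE_real k).apply (ih m (by omega) m.2)]
      exact nat_beq (all_range hzero_fix k.2)

theorem wE_fix (j : Fin 12) : (wE j : Equiv.Perm (Fin 315)) 0 = 0 ∧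
    (wE j : Equiv.Perm (Fin 315)) (genIdx 1) = genIdx 1 := by
  have h := all_range w_fix j.2
  simp only [Bool.and_eq_true] at h
  exact ⟨Fin.ext (((wE_real j).apply rfl).trans (nat_beq h.1)),
    Fin.ext (((wE_real j).apply rfl).trans (nat_beq h.2))⟩

theorem hEl_fix_zero (p : Fin 160 × Fin 12) : (hEl p : Equiv.Perm (Fin 315)) 0 = 0 := by
  rw [hEl, Subgroup.coe_mul, Equiv.Perm.mul_apply, (wE_fix p.2).1]
  exact Fin.ext (vE_fix_zero p.1 p.1.2)

theorem nfEl_zero (p : Fin 315 × Fin 160 × Fin 12) :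
    (nfEl p : Equiv.Perm (Fin 315)) 0 = pt p.1 := by
  rw [nfEl, Subgroup.coe_mul, Equiv.Perm.mul_apply, hEl_fix_zero, tE_zero_pt]

theorem pt_injective : Function.Injective pt :=
  Finite.injective_iff_surjective.mpr fun p => ⟨pos p, pt_pos p⟩

theorem nodupB_inj : ∀ {l : List ℕ}, nodupB l = true → l.Nodup := by
  intro l
  induction l with
  | nil => simp
  | cons a l ih =>
    intro h
    simp only [nodupB, Bool.and_eq_true] at h
    refine List.nodup_cons.mpr ⟨fun ha => ?_, ih h.2⟩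
    have := List.all_eq_true.mp h.1 a ha
    simp at this

theorem hEl_injective : Function.Injective hEl := by
  intro p q h
  have hb := congrArg (fun f : PGrp => (((f : Equiv.Perm (Fin 315)) (genIdx 1) : Fin 315) : ℕ)) h
  simp only [hEl, Subgroup.coe_mul, Equiv.Perm.mul_apply, (wE_fix p.2).2, (wE_fix q.2).2] at hb
  rw [(vE_real p.1).apply rfl, (vE_real q.1).apply rfl] at hb
  have hnd := nodupB_inj v_distinct
  have h1 : p.1 = q.1 := by
    apply Fin.ext
    refine (hnd.getElem_inj_iff (i := (p.1 : ℕ)) (j := (q.1 : ℕ))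
      (hi := by simp) (hj := by simp)).mp ?_
    simp only [List.getElem_map, List.getElem_range]
    exact hb
  simp only [hEl, h1, mul_right_inj] at h
  have hc := congrArg (fun f : PGrp => (((f : Equiv.Perm (Fin 315)) (genIdx 2) : Fin 315) : ℕ)) h
  simp only [(wE_real p.2).apply rfl, (wE_real q.2).apply rfl] at hc
  have hnd2 := nodupB_inj w_distinct
  refine Prod.ext h1 (Fin.ext ?_)
  refine (hnd2.getElem_inj_iff (i := (p.2 : ℕ)) (j := (q.2 : ℕ)) (hi := by simp) (hj := by simp)).mp ?_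
  simp only [List.getElem_map, List.getElem_range]
  exact hc

theorem nfEl_injective : Function.Injective nfEl := by
  rintro ⟨n, p⟩ ⟨m, q⟩ h
  have h0 : pt n = pt m := by rw [← nfEl_zero (n, p), ← nfEl_zero (m, q), h]
  obtain rfl := pt_injective h0
  simp only [nfEl, mul_right_inj] at h
  rw [hEl_injective h]

theorem card_PGrp : Nat.card PGrp = 604800 := by
  rw [← Nat.card_congr (Equiv.ofBijective nfEl ⟨nfEl_injective, fun f => (exists_nfEl f).imp fun _ h => h.symm⟩)]
  simp

/-- The point stabiliser consists of the normal forms with trivial coset part. -/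
theorem exists_hEl {f : PGrp} (h : (f : Equiv.Perm (Fin 315)) 0 = 0) : ∃ q, f = hEl q := by
  obtain ⟨⟨n, q⟩, rfl⟩ := exists_nfEl f
  rw [nfEl_zero] at h
  obtain rfl := pt_injective (h.trans pt_zero.symm)
  exact ⟨q, by rw [nfEl, tE_zero, one_mul]⟩

theorem card_J2 : Nat.card Spor.J2 = 604800 := by
  rw [Nat.card_congr j2Equiv.toEquiv, card_PGrp]

end Cfsg.Lib.J2
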