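import Cfsg.Prelude.Def_Spor_J2

/-!
# Icosians with integer coordinates

An element stands for the quaternion whose `t`-th coordinate is `(p + q √5) / 4`.
-/

set_option autoImplicit false

set_option linter.unusedSimpArgs false

open Quaternion

namespace Cfsg.Lib.J2

/-- Eight integer coordinates of a quaternion over `ℚ(√5)`. -/
structure Ico where
  a0 : ℤ
  a1 : ℤ
  b0 : ℤ
  b1 : ℤ
  c0 : ℤ
  c1 : ℤ
  d0 : ℤ
  d1 : ℤ

namespace Ico

/-- Coordinate-wise sum. -/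
def add (x y : Ico) : Ico :=
  ⟨x.a0 + y.a0, x.a1 + y.a1, x.b0 + y.b0, x.b1 + y.b1, x.c0 + y.c0, x.c1 + y.c1,
    x.d0 + y.d0, x.d1 + y.d1⟩

/-- Coordinate-wise negative. -/
def neg (x : Ico) : Ico := ⟨-x.a0, -x.a1, -x.b0, -x.b1, -x.c0, -x.c1, -x.d0, -x.d1⟩

/-- Quaternion conjugate. -/
def conj (x : Ico) : Ico := ⟨x.a0, x.a1, -x.b0, -x.b1, -x.c0, -x.c1, -x.d0, -x.d1⟩

/-- Four times the product of two elements, in the same coordinates. -/
def mulRaw (x y : Ico) : Ico :=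
  ⟨(x.a0 * y.a0 + 5 * (x.a1 * y.a1)) - (x.b0 * y.b0 + 5 * (x.b1 * y.b1))
      - (x.c0 * y.c0 + 5 * (x.c1 * y.c1)) - (x.d0 * y.d0 + 5 * (x.d1 * y.d1)),
    (x.a0 * y.a1 + x.a1 * y.a0) - (x.b0 * y.b1 + x.b1 * y.b0)
      - (x.c0 * y.c1 + x.c1 * y.c0) - (x.d0 * y.d1 + x.d1 * y.d0),
    (x.a0 * y.b0 + 5 * (x.a1 * y.b1)) + (x.b0 * y.a0 + 5 * (x.b1 * y.a1))
      + (x.c0 * y.d0 + 5 * (x.c1 * y.d1)) - (x.d0 * y.c0 + 5 * (x.d1 * y.c1)),
    (x.a0 * y.b1 + x.a1 * y.b0) + (x.b0 * y.a1 + x.b1 * y.a0)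
      + (x.c0 * y.d1 + x.c1 * y.d0) - (x.d0 * y.c1 + x.d1 * y.c0),
    (x.a0 * y.c0 + 5 * (x.a1 * y.c1)) - (x.b0 * y.d0 + 5 * (x.b1 * y.d1))
      + (x.c0 * y.a0 + 5 * (x.c1 * y.a1)) + (x.d0 * y.b0 + 5 * (x.d1 * y.b1)),
    (x.a0 * y.c1 + x.a1 * y.c0) - (x.b0 * y.d1 + x.b1 * y.d0)
      + (x.c0 * y.a1 + x.c1 * y.a0) + (x.d0 * y.b1 + x.d1 * y.b0),
    (x.a0 * y.d0 + 5 * (x.a1 * y.d1)) + (x.b0 * y.c0 + 5 * (x.b1 * y.c1))
      - (x.c0 * y.b0 + 5 * (x.c1 * y.b1)) + (x.d0 * y.a0 + 5 * (x.d1 * y.a1)),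
    (x.a0 * y.d1 + x.a1 * y.d0) + (x.b0 * y.c1 + x.b1 * y.c0)
      - (x.c0 * y.b1 + x.c1 * y.b0) + (x.d0 * y.a1 + x.d1 * y.a0)⟩

/-- Coordinate-wise division. -/
def divBy (x : Ico) (n : ℤ) : Ico :=
  ⟨x.a0 / n, x.a1 / n, x.b0 / n, x.b1 / n, x.c0 / n, x.c1 / n, x.d0 / n, x.d1 / n⟩

/-- Coordinate-wise multiple. -/
def scale (n : ℤ) (x : Ico) : Ico :=
  ⟨n * x.a0, n * x.a1, n * x.b0, n * x.b1, n * x.c0, n * x.c1, n * x.d0, n * x.d1⟩

/-- The product of two icosians. -/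
def mul (x y : Ico) : Ico := divBy (mulRaw x y) 4

/-- Boolean equality. -/
def beq (x y : Ico) : Bool :=
  (decide (x.a0 = y.a0) && decide (x.a1 = y.a1)) && (decide (x.b0 = y.b0) && decide (x.b1 = y.b1))
    && ((decide (x.c0 = y.c0) && decide (x.c1 = y.c1))
      && (decide (x.d0 = y.d0) && decide (x.d1 = y.d1)))

theorem beq_iff {x y : Ico} : beq x y = true ↔ x = y := by
  cases x; cases y
  simp [beq, and_assoc]

/-- The congruences cutting out the icosians. -/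
def inI (x : Ico) : Bool :=
  (decide ((x.a0 + x.a1) % 2 = 0) && decide ((x.b0 + x.b1) % 2 = 0))
    && ((decide ((x.c0 + x.c1) % 2 = 0) && decide ((x.d0 + x.d1) % 2 = 0))
    && ((decide ((x.a1 + x.b1 + x.c1 + x.d1) % 2 = 0)
      && decide ((2 * x.b1 + x.c0 + 3 * x.c1 + x.d0 + x.d1) % 4 = 0))
    && (decide ((x.b0 + x.b1 + 2 * x.c1 + x.d0 + 3 * x.d1) % 4 = 0)
      && decide ((x.a0 + x.a1 + x.c0 + 3 * x.c1 + 2 * x.d1) % 4 = 0))))

end Ico

open Ico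

/-- A real number `(p + q √5) / 4`. -/
noncomputable def zr (p q : ℤ) : ℝ := ((p : ℝ) + (q : ℝ) * Real.sqrt 5) / 4

/-- The quaternion with the given coordinates. -/
noncomputable def toQ (x : Ico) : ℍ[ℝ] := ⟨zr x.a0 x.a1, zr x.b0 x.b1, zr x.c0 x.c1, zr x.d0 x.d1⟩

theorem sqrt_five_mul : Real.sqrt 5 * Real.sqrt 5 = 5 := Real.mul_self_sqrt (by norm_num)

theorem lin_sqrt_five {p q p' q' : ℤ}
    (h : (p : ℝ) + q * Real.sqrt 5 = p' + q' * Real.sqrt 5) : p = p' ∧ q = q' := by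
  have hirr : Irrational (Real.sqrt 5) := by
    have := (show Nat.Prime 5 by norm_num).irrational_sqrt
    simpa using this
  by_cases hq : q = q'
  · subst hq
    exact ⟨by exact_mod_cast add_right_cancel h, rfl⟩
  · exfalso
    have hne : ((q : ℝ) - q') ≠ 0 := sub_ne_zero.mpr (by exact_mod_cast hq)
    refine hirr ⟨((p' - p : ℤ) : ℚ) / ((q - q' : ℤ) : ℚ), ?_⟩
    push_cast
    rw [div_eq_iff hne]
    linarith

theorem zr_inj {p q p' q' : ℤ} (h : zr p q = zr p' q') : p = p' ∧ q = q' :=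
  lin_sqrt_five (by unfold zr at h; linarith)

theorem toQ_injective : Function.Injective toQ := by
  intro x y h
  obtain ⟨h1, h2, h3, h4⟩ := (QuaternionAlgebra.ext_iff.mp h)
  obtain ⟨e1, e2⟩ := zr_inj h1
  obtain ⟨e3, e4⟩ := zr_inj h2
  obtain ⟨e5, e6⟩ := zr_inj h3
  obtain ⟨e7, e8⟩ := zr_inj h4
  cases x; cases y
  simp_all

@[simp] theorem toQ_re (x : Ico) : (toQ x).re = zr x.a0 x.a1 := rfl

@[simp] theorem toQ_imI (x : Ico) : (toQ x).imI = zr x.b0 x.b1 := rfl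

@[simp] theorem toQ_imJ (x : Ico) : (toQ x).imJ = zr x.c0 x.c1 := rfl

@[simp] theorem toQ_imK (x : Ico) : (toQ x).imK = zr x.d0 x.d1 := rfl

theorem toQ_add (x y : Ico) : toQ (add x y) = toQ x + toQ y := by
  ext <;> simp [add, zr] <;> ring

theorem toQ_neg (x : Ico) : toQ (neg x) = -toQ x := by
  ext <;> simp [neg, zr] <;> ring

theorem toQ_conj (x : Ico) : toQ (conj x) = star (toQ x) := by
  ext <;> simp [conj, zr] <;> ring

theorem toQ_scale (n : ℤ) (x : Ico) : toQ (scale n x) = (n : ℝ) • toQ x := by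
  ext <;> simp [scale, zr] <;> ring

theorem toQ_mulRaw (x y : Ico) : toQ (mulRaw x y) = (4 : ℝ) • (toQ x * toQ y) := by
  ext <;> simp [mulRaw, zr, Quaternion.re_mul, Quaternion.imI_mul, Quaternion.imJ_mul,
    Quaternion.imK_mul] <;> ring_nf <;> simp [Real.sq_sqrt] <;> ring

theorem inI_iff (x : Ico) : inI x = true ↔
    (x.a0 + x.a1) % 2 = 0 ∧ (x.b0 + x.b1) % 2 = 0 ∧ (x.c0 + x.c1) % 2 = 0 ∧
    (x.d0 + x.d1) % 2 = 0 ∧ (x.a1 + x.b1 + x.c1 + x.d1) % 2 = 0 ∧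
    (2 * x.b1 + x.c0 + 3 * x.c1 + x.d0 + x.d1) % 4 = 0 ∧
    (x.b0 + x.b1 + 2 * x.c1 + x.d0 + 3 * x.d1) % 4 = 0 ∧
    (x.a0 + x.a1 + x.c0 + 3 * x.c1 + 2 * x.d1) % 4 = 0 := by
  simp [inI, and_assoc]

theorem inI_add {x y : Ico} (hx : inI x = true) (hy : inI y = true) : inI (add x y) = true := by
  rw [inI_iff] at *
  simp only [add]
  omega

theorem inI_neg {x : Ico} (hx : inI x = true) : inI (neg x) = true := by
  rw [inI_iff] at *
  simp only [neg]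
  omega

theorem inI_conj {x : Ico} (hx : inI x = true) : inI (conj x) = true := by
  rw [inI_iff] at *
  simp only [conj]
  omega

/-- The icosian zero. -/
def zero : Ico := ⟨0, 0, 0, 0, 0, 0, 0, 0⟩

/-- The icosian one. -/
def one : Ico := ⟨4, 0, 0, 0, 0, 0, 0, 0⟩

/-- The icosian `i`. -/
def gI : Ico := ⟨0, 0, 4, 0, 0, 0, 0, 0⟩

/-- The second generator `½ (1 + σ i + τ k)`. -/
def gW : Ico := ⟨2, 0, 1, -1, 0, 0, 1, 1⟩

theorem toQ_zero : toQ zero = 0 := by ext <;> simp [zero, zr]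

theorem toQ_one : toQ one = 1 := by ext <;> simp [one, zr]

theorem toQ_gI : toQ gI = Spor.qI := by ext <;> simp [toQ, gI, zr, Spor.qI]

theorem toQ_gW : toQ gW = ⟨1 / 2, Spor.sig / 2, 0, Spor.tau / 2⟩ := by
  ext <;> simp [toQ, gW, zr, Spor.sig, Spor.tau] <;> ring

/-- The quaternions with coordinates satisfying the congruences. -/
def icoSet : Set ℍ[ℝ] := {x | ∃ a : Ico, inI a = true ∧ toQ a = x}

set_option maxHeartbeats 1000000 in
theorem gI_mul_mem {a : Ico} (ha : inI a = true) : toQ gI * toQ a ∈ icoSet := by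
  refine ⟨⟨-a.b0, -a.b1, a.a0, a.a1, -a.d0, -a.d1, a.c0, a.c1⟩, ?_, ?_⟩
  · rw [inI_iff] at *
    dsimp only
    omega
  · ext <;> simp [gI, zr, Quaternion.re_mul, Quaternion.imI_mul, Quaternion.imJ_mul,
      Quaternion.imK_mul] <;> ring

set_option maxHeartbeats 2000000 in
theorem gW_mul_mem {a : Ico} (ha : inI a = true) : toQ gW * toQ a ∈ icoSet := by
  rw [inI_iff] at ha
  obtain ⟨h1, h2, h3, h4, h5, h6, h7, h8⟩ := ha
  have hd : scale 4 (divBy (mulRaw gW a) 4) = mulRaw gW a := by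
    simp only [scale, divBy, mulRaw, gW, Ico.mk.injEq]
    refine ⟨?_, ?_, ?_, ?_, ?_, ?_, ?_, ?_⟩ <;> omega
  refine ⟨divBy (mulRaw gW a) 4, ?_, ?_⟩
  · rw [inI_iff]
    simp only [divBy, mulRaw, gW]
    refine ⟨?_, ?_, ?_, ?_, ?_, ?_, ?_, ?_⟩ <;> omega
  · have h := congrArg toQ hd
    rw [toQ_mulRaw, toQ_scale, show ((4 : ℤ) : ℝ) = 4 by norm_num] at h
    exact smul_right_injective ℍ[ℝ] (by norm_num : (4 : ℝ) ≠ 0) h

theorem icosians_le : ∀ x ∈ Spor.icosians, x ∈ icoSet := by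
  have hone : (1 : ℍ[ℝ]) ∈ icoSet := ⟨one, by decide, toQ_one⟩
  have key : ∀ x ∈ Spor.icosians, ∀ y ∈ icoSet, x * y ∈ icoSet := by
    intro x hx
    induction hx using Subring.closure_induction with
    | mem z hz =>
      rcases hz with rfl | rfl
      · rintro y ⟨a, ha, rfl⟩
        rw [← toQ_gI]; exact gI_mul_mem ha
      · rintro y ⟨a, ha, rfl⟩
        rw [← toQ_gW]; exact gW_mul_mem ha
    | zero =>
      intro y _
      exact ⟨zero, by decide, by rw [toQ_zero, zero_mul]⟩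
    | one => intro y hy; rwa [one_mul]
    | add z w _ _ hz hw =>
      intro y hy
      obtain ⟨a, ha, ha'⟩ := hz y hy
      obtain ⟨b, hb, hb'⟩ := hw y hy
      exact ⟨add a b, inI_add ha hb, by rw [toQ_add, ha', hb', add_mul]⟩
    | neg z _ hz =>
      intro y hy
      obtain ⟨a, ha, ha'⟩ := hz y hy
      exact ⟨neg a, inI_neg ha, by rw [toQ_neg, ha', neg_mul]⟩
    | mul z w _ _ hz hw => intro y hy; rw [mul_assoc]; exact hz _ (hw y hy)
  intro x hx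
  simpa using key x hx 1 hone

end Cfsg.Lib.J2
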