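import Cfsg.Agent.Lib.J2.Simple
import Cfsg.Agent.Lib.J2.DataSets
import Cfsg.Agent.Lib.PGroup.Basic
import Cfsg.Prelude.Def_Transfer

/-!
# The centralizer of a reflection in the Hall–Janko group
-/

set_option autoImplicit false
set_option linter.unusedSimpArgs false
set_option linter.style.haveILetI false
set_option maxRecDepth 4000

open scoped commutatorElement

namespace Cfsg.Lib.J2

/-- The block of a point. -/
def blockOf (x : ℕ) : ℕ := tget 0 blockTab x

/-- The chosen point of a block. -/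
def blockPt (b : ℕ) : ℕ := tget 0 blockRepTab b

/-- The point stabiliser element of a code. -/
def hAppN (n x : ℕ) : ℕ := app (vP (Nat.div n 12)) (app (wP (Nat.mod n 12)) x)

/-- The induced map on blocks. -/
def blockMapN (n b : ℕ) : ℕ := blockOf (hAppN n (blockPt b))

/-- The points lying in blocks. -/
def blockPts : List ℕ := (List.range 315).filter fun x => Nat.blt (blockOf x) 5

theorem blocks_ok : ((List.range 5).all (fun b =>
      Nat.blt (blockPt b) 315 && Nat.beq (blockOf (blockPt b)) b) &&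
    (List.range 1920).all fun n =>
      (List.range 5).all (fun b => Nat.blt (blockMapN n b) 5) &&
      blockPts.all fun x => Nat.beq (blockOf (hAppN n x)) (blockMapN n (blockOf x))) = true := by
  decide +kernel

/-- The codes of the kernel on blocks. -/
def kerList : List ℕ :=
  (List.range 1920).filter fun n => (List.range 5).all fun b => Nat.beq (blockMapN n b) b

/-- The code of the central involution. -/
def zCode : ℕ := 13

theorem kerList_ok : (Nat.beq kerList.length 32 && kerList.contains zCode &&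
    kerList.all (fun a =>
      (onBase (fun x => hAppN a (hAppN a x)) id ||
        onBase (fun x => hAppN a (hAppN a x)) (hAppN zCode)) &&
      onBase (fun x => hAppN a (hAppN zCode x)) (fun x => hAppN zCode (hAppN a x)) &&
      (kerList.all fun b => onBase (fun x => hAppN a (hAppN b x)) (fun x => hAppN b (hAppN a x)) ||
        onBase (fun x => hAppN a (hAppN b x)) (fun x => hAppN zCode (hAppN b (hAppN a x)))) &&
      (Nat.beq a 0 || Nat.beq a zCode || kerList.any fun b =>
        !onBase (fun x => hAppN a (hAppN b x)) (fun x => hAppN b (hAppN a x))))) = true := by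
  decide +kernel

theorem zCode_ne : onBase (hAppN zCode) id = false := by decide +kernel

theorem kerList_noncomm : kerList.any (fun a => kerList.any fun b =>
    !onBase (fun x => hAppN a (hAppN b x)) (fun x => hAppN b (hAppN a x))) = true := by decide +kernel

theorem first_rigid : (List.range 314).all (fun n =>
    !onBase (fun x => app (tP (n + 1)) (app (genP 0) x))
      (fun x => app (genP 0) (app (tP (n + 1)) x))) = true := by decide +kernel

/-- The stabiliser element of a code. -/
noncomputable def codeEl (n : Fin 1920) : PGrp :=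
  hEl (⟨Nat.div n 12, Nat.div_lt_of_lt_mul n.2⟩, ⟨Nat.mod n 12, Nat.mod_lt _ (by norm_num)⟩)

theorem codeEl_apply (n : Fin 1920) (x : Fin 315) :
    ((codeEl n : Equiv.Perm (Fin 315)) x : ℕ) = hAppN n x := hEl_apply _ x

theorem codeEl_injective : Function.Injective codeEl := by
  intro a b h
  obtain ⟨h1, h2⟩ := Prod.mk.inj (hEl_injective h)
  have e1 : Nat.div (a : ℕ) 12 = Nat.div (b : ℕ) 12 := congrArg Fin.val h1
  have e2 : Nat.mod (a : ℕ) 12 = Nat.mod (b : ℕ) 12 := congrArg Fin.val h2
  change (a : ℕ) / 12 = (b : ℕ) / 12 at e1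
  change (a : ℕ) % 12 = (b : ℕ) % 12 at e2
  exact Fin.ext (by omega)

theorem exists_codeEl {f : PGrp} (h : (f : Equiv.Perm (Fin 315)) 0 = 0) : ∃ n, f = codeEl n := by
  obtain ⟨⟨i, j⟩, rfl⟩ := exists_hEl h
  refine ⟨⟨12 * i + j, by omega⟩, congrArg hEl (Prod.ext (Fin.ext ?_) (Fin.ext ?_))⟩
  · show (i : ℕ) = (12 * (i : ℕ) + j) / 12
    omega
  · show (j : ℕ) = (12 * (i : ℕ) + j) % 12
    omega

theorem codeEl_fix (n : Fin 1920) : (codeEl n : Equiv.Perm (Fin 315)) 0 = 0 := hEl_fix_zero _

theorem eq_of_comp {f g h : PGrp} {F G H : ℕ → ℕ}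
    (hf : ∀ x : Fin 315, ((f : Equiv.Perm (Fin 315)) x : ℕ) = F x)
    (hg : ∀ x : Fin 315, ((g : Equiv.Perm (Fin 315)) x : ℕ) = G x)
    (hh : ∀ x : Fin 315, ((h : Equiv.Perm (Fin 315)) x : ℕ) = H x)
    (hb : onBase (fun x => F (G x)) H = true) : f * g = h :=
  eq_of_onBase (F := fun x => F (G x)) (fun x => by
    rw [Subgroup.coe_mul, Equiv.Perm.mul_apply, hf, hg]) hh hb

theorem onBase_of_eq {f h : PGrp} {F H : ℕ → ℕ}
    (hf : ∀ x : Fin 315, ((f : Equiv.Perm (Fin 315)) x : ℕ) = F x)
    (hh : ∀ x : Fin 315, ((h : Equiv.Perm (Fin 315)) x : ℕ) = H x) (e : f = h) :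
    onBase F H = true := by
  refine List.all_eq_true.mpr fun t ht => ?_
  let g : Fin 4 := ⟨t, List.mem_range.mp ht⟩
  have h1 := hf (genIdx g)
  rw [e, hh] at h1
  change H (genLine t) = F (genLine t) at h1
  rw [h1]
  exact Nat.beq_refl _

theorem mul_apply_nat {f g : PGrp} {F G : ℕ → ℕ}
    (hf : ∀ x : Fin 315, ((f : Equiv.Perm (Fin 315)) x : ℕ) = F x)
    (hg : ∀ x : Fin 315, ((g : Equiv.Perm (Fin 315)) x : ℕ) = G x) (x : Fin 315) :
    (((f * g : PGrp) : Equiv.Perm (Fin 315)) x : ℕ) = F (G x) := by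
  rw [Subgroup.coe_mul, Equiv.Perm.mul_apply, hf, hg]

/-- The centralizer of the first reflection. -/
noncomputable abbrev cZero : Subgroup PGrp := Subgroup.centralizer ({gE 0} : Set PGrp)

theorem gE_zero_eq : (gE 0 : Equiv.Perm (Fin 315)) = rep (sG 0) := by
  show rep (sG (genIdx 0)) = rep (sG 0)
  rw [genIdx_zero]

theorem mem_cZero_iff {u : PGrp} : u ∈ cZero ↔ (u : Equiv.Perm (Fin 315)) 0 = 0 := by
  obtain ⟨_, x, rfl⟩ := u
  have hc : rep x * rep (sG 0) * (rep x)⁻¹ = rep (sG (rep x 0)) := by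
    rw [← map_inv, ← map_mul, ← map_mul, rep_spec]
  constructor
  · intro hu
    have h := congrArg Subtype.val ((Subgroup.mem_centralizer_iff.mp hu) _ (Set.mem_singleton _))
    change (gE 0 : Equiv.Perm (Fin 315)) * rep x = rep x * (gE 0 : Equiv.Perm (Fin 315)) at h
    rw [gE_zero_eq] at h
    rw [← h, mul_inv_cancel_right] at hc
    change rep x 0 = 0
    generalize rep x 0 = k at hc
    by_contra hk
    have hp : pt (pos k) = k := pt_pos k
    obtain ⟨m, hm⟩ := Nat.exists_eq_succ_of_ne_zero (fun e : ((pos k : Fin 315) : ℕ) = 0 =>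
      hk (by rw [← hp, show pos k = 0 from Fin.ext e, pt_zero]))
    have hb := all_range first_rigid (show m < 314 by omega)
    obtain ⟨g, hg, hg'⟩ := rep_sG_conj k
    have hT : tE (pos k) * gE 0 = gE 0 * tE (pos k) := by
      obtain ⟨y, hy⟩ := (tE (pos k)).2
      apply Subtype.ext
      show (tE (pos k) : Equiv.Perm (Fin 315)) * (gE 0 : Equiv.Perm (Fin 315)) =
        (gE 0 : Equiv.Perm (Fin 315)) * (tE (pos k) : Equiv.Perm (Fin 315))
      rw [← hy]
      have h0 : rep y 0 = k := by rw [hy, tE_zero_pt, hp]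
      rw [gE_zero_eq, ← mul_inv_eq_iff_eq_mul, ← map_inv, ← map_mul, ← map_mul, rep_spec, h0, ← hc]
    have hb' := onBase_of_eq (F := fun z => app (tP (pos k : ℕ)) (app (genP 0) z))
      (H := fun z => app (genP 0) (app (tP (pos k : ℕ)) z)) (mul_apply_nat (fun z => tE_real (pos k) z) (fun z => gE_real 0 z))
      (mul_apply_nat (fun z => gE_real 0 z) (fun z => tE_real (pos k) z)) hT
    change onBase (fun z => app (tP (pos k : ℕ)) (app (genP 0) z))
      (fun z => app (genP 0) (app (tP (pos k : ℕ)) z)) = true at hb'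
    rw [hm] at hb'
    rw [hb'] at hb
    simp at hb
  · intro hu
    rw [Subgroup.mem_centralizer_iff]
    rintro _ rfl
    apply Subtype.ext
    show (gE 0 : Equiv.Perm (Fin 315)) * rep x = rep x * (gE 0 : Equiv.Perm (Fin 315))
    rw [show rep x 0 = 0 from hu] at hc
    rw [gE_zero_eq]
    exact (mul_inv_eq_iff_eq_mul.mp hc).symm

theorem exists_code (u : cZero) : ∃ n, (u : PGrp) = codeEl n :=
  exists_codeEl (mem_cZero_iff.mp u.2)

/-- The code of an element of the centralizer. -/
noncomputable def codeOf (u : cZero) : Fin 1920 := (exists_code u).choose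

theorem codeOf_spec (u : cZero) : (u : PGrp) = codeEl (codeOf u) := (exists_code u).choose_spec

theorem blockMap_lt (u : cZero) (b : Fin 5) : blockMapN (codeOf u) b < 5 := by
  obtain ⟨-, hN⟩ := Bool.and_eq_true_iff.mp blocks_ok
  have h := all_range hN (codeOf u).2
  exact nat_blt (all_range (Bool.and_eq_true_iff.mp h).1 b.2)

/-- The map on blocks. -/
noncomputable def blockFun (u : cZero) (b : Fin 5) : Fin 5 := ⟨_, blockMap_lt u b⟩

theorem blockFun_spec (u : cZero) (x : Fin 315) (b : Fin 5) (hb : blockOf x = b) :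
    blockOf ((((u : PGrp) : Equiv.Perm (Fin 315)) x : Fin 315) : ℕ) = blockFun u b := by
  obtain ⟨-, hN⟩ := Bool.and_eq_true_iff.mp blocks_ok
  have h := (Bool.and_eq_true_iff.mp (all_range hN (codeOf u).2)).2
  have hx : (x : ℕ) ∈ blockPts := List.mem_filter.mpr
    ⟨List.mem_range.mpr x.2, by rw [hb]; exact Nat.ble_eq_true_of_le b.2⟩
  have h2 := nat_beq (List.all_eq_true.mp h _ hx)
  rw [codeOf_spec u, codeEl_apply, h2, hb]
  rfl

theorem blockFun_mul (u v : cZero) (b : Fin 5) : blockFun (u * v) b = blockFun u (blockFun v b) := by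
  obtain ⟨hP, -⟩ := Bool.and_eq_true_iff.mp blocks_ok
  have h := all_range hP b.2
  simp only [Bool.and_eq_true] at h
  let x : Fin 315 := ⟨blockPt b, nat_blt h.1⟩
  have h1 := blockFun_spec (u * v) x b (nat_beq h.2)
  have h2 := blockFun_spec v x b (nat_beq h.2)
  have h3 := blockFun_spec u (((v : PGrp) : Equiv.Perm (Fin 315)) x) (blockFun v b) h2
  apply Fin.ext
  rw [← h1, ← h3, Subgroup.coe_mul, Subgroup.coe_mul, Equiv.Perm.mul_apply]

theorem blockFun_one (b : Fin 5) : blockFun 1 b = b := by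
  obtain ⟨hP, -⟩ := Bool.and_eq_true_iff.mp blocks_ok
  have h := all_range hP b.2
  simp only [Bool.and_eq_true] at h
  apply Fin.ext
  rw [← blockFun_spec 1 ⟨blockPt b, nat_blt h.1⟩ b (nat_beq h.2)]
  exact nat_beq h.2

/-- The action on the five blocks. -/
noncomputable def blockRep : cZero →* Equiv.Perm (Fin 5) where
  toFun u := ⟨blockFun u, blockFun u⁻¹, fun b => by rw [← blockFun_mul, inv_mul_cancel, blockFun_one],
    fun b => by rw [← blockFun_mul, mul_inv_cancel, blockFun_one]⟩
  map_one' := Equiv.ext blockFun_one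
  map_mul' u v := Equiv.ext (blockFun_mul u v)

theorem mem_ker_iff (u : cZero) : u ∈ blockRep.ker ↔ (codeOf u : ℕ) ∈ kerList := by
  rw [MonoidHom.mem_ker, kerList, List.mem_filter]
  constructor
  · intro h
    refine ⟨List.mem_range.mpr (codeOf u).2, List.all_eq_true.mpr fun b hb => ?_⟩
    have h1 := congrArg (fun p : Equiv.Perm (Fin 5) => ((p ⟨b, List.mem_range.mp hb⟩ : Fin 5) : ℕ)) h
    change blockMapN (codeOf u) b = b at h1
    rw [h1]
    exact Nat.beq_refl _
  · rintro ⟨-, h⟩
    exact Equiv.ext fun b => Fin.ext (nat_beq (all_range h b.2))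

theorem card_cZero : Nat.card cZero = 1920 := by
  have h : Function.Bijective (fun n : Fin 1920 =>
      (⟨codeEl n, mem_cZero_iff.mpr (codeEl_fix n)⟩ : cZero)) :=
    ⟨fun a b e => codeEl_injective (congrArg Subtype.val e),
      fun u => ⟨codeOf u, Subtype.ext (codeOf_spec u).symm⟩⟩
  rw [← Nat.card_congr (Equiv.ofBijective _ h), Nat.card_eq_fintype_card, Fintype.card_fin]

/-- The kernel element of a code. -/
noncomputable def cEl (n : ℕ) (hn : n < 1920) : cZero :=
  ⟨codeEl ⟨n, hn⟩, mem_cZero_iff.mpr (codeEl_fix _)⟩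

theorem codeOf_cEl {n : ℕ} (hn : n < 1920) : (codeOf (cEl n hn) : ℕ) = n :=
  congrArg Fin.val (codeEl_injective (codeOf_spec (cEl n hn)).symm)

theorem card_ker : Nat.card blockRep.ker = 32 := by
  have hk := kerList_ok
  simp only [Bool.and_eq_true] at hk
  obtain ⟨⟨hlen, -⟩, -⟩ := hk
  let e : blockRep.ker ≃ {n // n ∈ kerList} :=
    { toFun := fun u => ⟨codeOf (u : cZero), (mem_ker_iff _).mp u.2⟩
      invFun := fun n => ⟨cEl n (List.mem_range.mp (List.mem_filter.mp n.2).1),
        (mem_ker_iff _).mpr (by rw [codeOf_cEl]; exact n.2)⟩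
      left_inv := fun u => Subtype.ext (Subtype.ext (by
        show codeEl ⟨codeOf (u : cZero), _⟩ = ((u : cZero) : PGrp)
        exact (codeOf_spec _).symm))
      right_inv := fun n => Subtype.ext (codeOf_cEl _) }
  have hnd : kerList.Nodup := List.nodup_range.filter _
  rw [Nat.card_congr e, Nat.card_eq_fintype_card, Fintype.card_of_subtype kerList.toFinset
    (fun n => List.mem_toFinset), List.toFinset_card_of_nodup hnd, nat_beq hlen]

theorem range_blockRep : blockRep.range = alternatingGroup (Fin 5) := by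
  refine Equiv.Perm.eq_alternatingGroup_of_index_eq_two ?_
  have h1 : Nat.card blockRep.range = 60 := by
    have h := Subgroup.card_eq_card_quotient_mul_card_subgroup blockRep.ker
    rw [card_cZero, card_ker, Nat.card_congr (QuotientGroup.quotientKerEquivRange blockRep).toEquiv] at h
    omega
  have h2 := Subgroup.card_mul_index blockRep.range
  rw [h1, Nat.card_perm, Nat.card_eq_fintype_card, Fintype.card_fin,
    show Nat.factorial 5 = 120 by decide] at h2
  omega

/-- The quotient of the centralizer is the alternating group of degree five. -/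
noncomputable def blockQuotEquiv : cZero ⧸ blockRep.ker ≃* alternatingGroup (Fin 5) :=
  (QuotientGroup.quotientKerEquivRange blockRep).trans (MulEquiv.subgroupCongr range_blockRep)

theorem extraspecial_of_bij {Q : Type} [Group Q] [Finite Q] (hcard : Nat.card Q = 32)
    (φ : Q →* PGrp) (hφ : Function.Injective φ)
    (hrange : ∀ q, ∃ n : Fin 1920, (n : ℕ) ∈ kerList ∧ φ q = codeEl n)
    (hsurj : ∀ n : Fin 1920, (n : ℕ) ∈ kerList → ∃ q, φ q = codeEl n) :
    Cfsg.IsExtraspecial 2 Q := by
  have hk := kerList_ok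
  simp only [Bool.and_eq_true] at hk
  obtain ⟨⟨-, hz⟩, hall⟩ := hk
  have hall' := fun (a : ℕ) (ha : a ∈ kerList) => by
    have h := List.all_eq_true.mp hall a ha
    simp only [Bool.and_eq_true] at h
    exact h
  let zc : Fin 1920 := ⟨zCode, by decide⟩
  obtain ⟨z, hz'⟩ := hsurj zc (List.contains_iff_mem.mp hz)
  have happ : ∀ {q : Q} {n : Fin 1920}, φ q = codeEl n → ∀ x : Fin 315,
      ((φ q : Equiv.Perm (Fin 315)) x : ℕ) = hAppN n x := fun h x => by rw [h]; exact codeEl_apply _ x
  have hsq : ∀ q, q ^ 2 ∈ Subgroup.zpowers z := by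
    intro q
    obtain ⟨n, hn, e⟩ := hrange q
    rcases Bool.or_eq_true_iff.mp (hall' n hn).1.1.1 with h | h
    · have h' := eq_of_comp (happ e) (happ e) (h := 1) (fun x => rfl) h
      rw [← map_mul, map_eq_one_iff φ hφ, ← pow_two] at h'
      rw [h']
      exact one_mem _
    · have h' := eq_of_comp (happ e) (happ e) (happ hz') h
      rw [← map_mul, ← pow_two] at h'
      rw [hφ h']
      exact Subgroup.mem_zpowers z
  have hzc : ∀ q, q * z = z * q := by
    intro q
    obtain ⟨n, hn, e⟩ := hrange q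
    have h' := eq_of_comp (happ e) (happ hz') (mul_apply_nat (happ hz') (happ e)) (hall' n hn).1.1.2
    rw [← map_mul, ← map_mul] at h'
    exact hφ h'
  have hcomm : ∀ a b : Q, a * b = b * a ∨ a * b = z * (b * a) := by
    intro a b
    obtain ⟨n, hn, e⟩ := hrange a
    obtain ⟨m, hm, e'⟩ := hrange b
    rcases Bool.or_eq_true_iff.mp (List.all_eq_true.mp (hall' n hn).1.2 m hm) with h | h
    · have h' := eq_of_comp (happ e) (happ e') (mul_apply_nat (happ e') (happ e)) h
      rw [← map_mul, ← map_mul] at h'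
      exact Or.inl (hφ h')
    · have h' := eq_of_comp (h := φ z * (φ b * φ a)) (happ e) (happ e') (fun x => by
        rw [Subgroup.coe_mul, Equiv.Perm.mul_apply, happ hz']
        exact congrArg (hAppN zCode) (mul_apply_nat (happ e') (happ e) x)) h
      rw [← map_mul, ← map_mul, ← map_mul] at h'
      exact Or.inr (hφ h')
  have hzne : z ≠ 1 := by
    intro h
    have h' := onBase_of_eq (happ hz') (H := id) (h := 1) (fun x => rfl) (by rw [h, map_one])
    change onBase (hAppN zCode) id = true at h'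
    rw [zCode_ne] at h'
    simp at h'
  have hcenter : Subgroup.center Q = Subgroup.zpowers z := by
    refine le_antisymm (fun q hq => ?_) (Subgroup.zpowers_le.mpr
      (Subgroup.mem_center_iff.mpr fun q => hzc q))
    obtain ⟨n, hn, e⟩ := hrange q
    rcases Bool.or_eq_true_iff.mp (hall' n hn).2 with h | h
    · rcases Bool.or_eq_true_iff.mp h with h | h
      · have : n = (0 : Fin 1920) := Fin.ext (nat_beq h)
        subst this
        have h1 : φ q = 1 := by rw [e]; exact hEl_zero
        rw [map_eq_one_iff φ hφ] at h1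
        rw [h1]
        exact one_mem _
      · have : n = zc := Fin.ext (nat_beq h)
        subst this
        rw [hφ (e.trans hz'.symm)]
        exact Subgroup.mem_zpowers z
    · exfalso
      obtain ⟨m, hm, hm'⟩ := List.any_eq_true.mp h
      obtain ⟨b, hb⟩ := hsurj ⟨m, List.mem_range.mp (List.mem_filter.mp hm).1⟩ hm
      have h' := onBase_of_eq (F := fun x => hAppN n (hAppN m x)) (H := fun x => hAppN m (hAppN n x))
        (mul_apply_nat (happ e) (happ hb)) (mul_apply_nat (happ hb) (happ e))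
        ((map_mul φ q b).symm.trans ((congrArg φ (Subgroup.mem_center_iff.mp hq b).symm).trans (map_mul φ b q)))
      change onBase (fun x => hAppN n (hAppN m x)) (fun x => hAppN m (hAppN n x)) = true at h'
      rw [h'] at hm'
      simp at hm'
  have hz2 : z ^ 2 = 1 := by
    obtain ⟨k, hk⟩ := Subgroup.mem_zpowers_iff.mp (hsq z)
    obtain ⟨n, hn, e⟩ := hrange z
    have : n = zc := codeEl_injective (e.symm.trans hz')
    subst this
    rcases Bool.or_eq_true_iff.mp (hall' _ hn).1.1.1 with h | h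
    · have h' := eq_of_comp (happ e) (happ e) (h := 1) (fun x => rfl) h
      rwa [← map_mul, map_eq_one_iff φ hφ, ← pow_two] at h'
    · exfalso
      have h' := eq_of_comp (happ e) (happ e) (happ e) h
      rw [mul_eq_left, map_eq_one_iff φ hφ] at h'
      exact hzne h'
  have hzord : orderOf z = 2 := orderOf_eq_prime hz2 hzne
  have hcle : commutator Q ≤ Subgroup.zpowers z := by
    rw [commutator_def, Subgroup.commutator_le]
    intro a _ b _
    rcases hcomm a b with h | h
    · rw [commutatorElement_eq_one_iff_mul_comm.mpr h]; exact one_mem _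
    · have : ⁅a, b⁆ = z := by rw [commutatorElement_def, h]; group
      rw [this]
      exact Subgroup.mem_zpowers z
  have hzle : Subgroup.zpowers z ≤ commutator Q := by
    obtain ⟨a, ha, h⟩ := List.any_eq_true.mp kerList_noncomm
    obtain ⟨b, hb, hab⟩ := List.any_eq_true.mp h
    obtain ⟨qa, ea⟩ := hsurj ⟨a, List.mem_range.mp (List.mem_filter.mp ha).1⟩ ha
    obtain ⟨qb, eb⟩ := hsurj ⟨b, List.mem_range.mp (List.mem_filter.mp hb).1⟩ hb
    rw [Subgroup.zpowers_le]
    rcases hcomm qa qb with h | h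
    · exfalso
      have h' := onBase_of_eq (F := fun x => hAppN a (hAppN b x)) (H := fun x => hAppN b (hAppN a x))
        (mul_apply_nat (happ ea) (happ eb)) (mul_apply_nat (happ eb) (happ ea))
        ((map_mul φ qa qb).symm.trans ((congrArg φ h).trans (map_mul φ qb qa)))
      change onBase (fun x => hAppN a (hAppN b x)) (fun x => hAppN b (hAppN a x)) = true at h'
      rw [h'] at hab
      simp at hab
    · have : ⁅qa, qb⁆ = z := by rw [commutatorElement_def, h]; group
      rw [← this, commutator_def]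
      exact Subgroup.commutator_mem_commutator (Subgroup.mem_top _) (Subgroup.mem_top _)
  have hP : IsPGroup 2 Q := IsPGroup.of_card (n := 5) (by rw [hcard]; norm_num)
  haveI : Fact (Nat.Prime 2) := ⟨Nat.prime_two⟩
  have hc : commutator Q = Subgroup.center Q := hcenter.symm ▸ le_antisymm hcle hzle
  refine ⟨⟨hP, le_antisymm ?_ ?_, hc⟩, ?_⟩
  · exact hcenter.symm ▸ Cfsg.Lib.PGroup.frattini_le_of_commutator_le_of_pow_mem (p := 2) hcle hsq
  · exact hc ▸ Cfsg.Lib.PGroup.commutator_le_frattini hP
  · rw [hcenter, Nat.card_zpowers, hzord]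

theorem centralizer_structure (f : Equiv.Perm Spor.icoLeech) (hf : Spor.IsIcoReflection f)
    (hfm : f ∈ Spor.twoJ2) :
    ∃ (Q : Subgroup (Subgroup.centralizer {(QuotientGroup.mk ⟨f, hfm⟩ : Spor.J2)})) (_ : Q.Normal),
      Nat.card Q = 32 ∧ Cfsg.IsExtraspecial 2 Q ∧
      Nonempty ((Subgroup.centralizer {(QuotientGroup.mk ⟨f, hfm⟩ : Spor.J2)}) ⧸ Q ≃*
        alternatingGroup (Fin 5)) := by
  obtain ⟨r, rfl⟩ := isIcoReflection_iff.mp hf
  obtain ⟨i, hi⟩ := exists_index r
  have he : (⟨refl r, hfm⟩ : Spor.twoJ2) = sG i := Subtype.ext hi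
  rw [he]
  obtain ⟨g, hg, -⟩ := rep_sG_conj i
  let ι : Spor.J2 ≃* PGrp := j2Equiv.trans (MulAut.conj g⁻¹)
  have hι : ι (QuotientGroup.mk (sG i)) = gE 0 := by
    show g⁻¹ * j2Equiv (QuotientGroup.mk (sG i)) * g⁻¹⁻¹ = gE 0
    rw [show j2Equiv (QuotientGroup.mk (sG i)) = ⟨rep (sG i), sG i, rfl⟩ from rfl, hg]
    group
  set C := Subgroup.centralizer {(QuotientGroup.mk (sG i) : Spor.J2)} with hC
  have hmem : ∀ x : Spor.J2, x ∈ C ↔ ι x ∈ cZero := by
    intro x
    simp only [hC, cZero, Subgroup.mem_centralizer_iff, Set.mem_singleton_iff, forall_eq, ← hι,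
      ← map_mul, ι.injective.eq_iff]
  let τ : C →* cZero :=
    { toFun := fun x => ⟨ι x, (hmem x).mp x.2⟩
      map_one' := Subtype.ext (map_one ι)
      map_mul' := fun x y => Subtype.ext (map_mul ι _ _) }
  have hτ : Function.Bijective τ :=
    ⟨fun x y h => Subtype.ext (ι.injective (congrArg Subtype.val h)),
      fun u => ⟨⟨ι.symm u, (hmem _).mpr (by rw [MulEquiv.apply_symm_apply]; exact u.2)⟩,
        Subtype.ext (ι.apply_symm_apply _)⟩⟩
  let ψ : C →* Equiv.Perm (Fin 5) := blockRep.comp τ
  have hkc : Nat.card ψ.ker = 32 := by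
    rw [← card_ker]
    exact Nat.card_congr (Equiv.ofBijective (fun x => (⟨τ x, x.2⟩ : blockRep.ker))
      ⟨fun x y h => Subtype.ext (hτ.1 (congrArg Subtype.val h)), fun u => by
        obtain ⟨x, hx⟩ := hτ.2 u.1
        exact ⟨⟨x, show blockRep (τ x) = 1 from hx ▸ u.2⟩, Subtype.ext hx⟩⟩)
  have hrange : ψ.range = alternatingGroup (Fin 5) := by
    rw [← range_blockRep, MonoidHom.range_comp, MonoidHom.range_eq_top.mpr hτ.2, ← MonoidHom.range_eq_map]
  haveI : Finite ψ.ker := Nat.finite_of_card_ne_zero (by rw [hkc]; norm_num)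
  refine ⟨ψ.ker, inferInstance, hkc, ?_,
    ⟨(QuotientGroup.quotientKerEquivRange ψ).trans (MulEquiv.subgroupCongr hrange)⟩⟩
  refine extraspecial_of_bij hkc ((cZero.subtype.comp τ).comp ψ.ker.subtype)
    (fun a b h => Subtype.ext (hτ.1 (Subtype.ext h))) (fun q => ?_) (fun n hn => ?_)
  · exact ⟨codeOf (τ q), (mem_ker_iff _).mp q.2, codeOf_spec (τ q)⟩
  · obtain ⟨x, hx⟩ := hτ.2 (cEl n n.2)
    refine ⟨⟨x, ?_⟩, congrArg Subtype.val hx⟩
    show blockRep (τ x) = 1
    rw [hx]
    exact (mem_ker_iff _).mpr (by rw [codeOf_cEl]; exact hn)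

end Cfsg.Lib.J2
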