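import Cfsg.Agent.Lib.J2.Perm

/-!
# The number of minimal vectors and of reflections
-/

set_option autoImplicit false
set_option linter.unusedSimpArgs false

open Quaternion

namespace Cfsg.Lib.J2

open Ico

theorem units_indexed : (units.all (fun u => (List.range 120).any fun k => Ico.beq u (unitVec k)) &&
    ((List.range 120).all fun j => (List.range 120).all fun k =>
      Nat.beq j k || !Ico.beq (unitVec j) (unitVec k))) = true := by decide +kernel

/-- A unit multiple of a representative as a vector. -/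
noncomputable def minVecOf (p : Fin 120 × Fin 315) : Fin 3 → ℍ[ℝ] :=
  fun t => toQ (unitVec p.1) * toV (lineVec p.2) t

theorem minVecOf_spec (p : Fin 120 × Fin 315) :
    minVecOf p ∈ Spor.icoLeech ∧ Spor.qip (minVecOf p) (minVecOf p) = 4 := by
  have hu := unitVec_spec p.1.2
  refine ⟨icoLeech_smul (toQ_mem hu.1) (rVec p.2).1.2, ?_⟩
  unfold minVecOf
  rw [qip_smul_left, qip_smul_right, (lineVec_spec p.2).2, four_eq, smul_mul_assoc,
    one_mul, mul_smul_comm, (toQ_unit_mul_star hu).1]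

theorem minVecOf_injective : Function.Injective minVecOf := by
  rintro ⟨j, a⟩ ⟨k, b⟩ h
  have hj := unitVec_spec j.2
  have hk := unitVec_spec k.2
  have e1 : refl ⟨⟨minVecOf (j, a), (minVecOf_spec _).1⟩, (minVecOf_spec _).2⟩ = sRef a :=
    refl_eq_of_smul (toQ_unit_mul_star hj).2 rfl
  have e2 : refl ⟨⟨minVecOf (j, a), (minVecOf_spec _).1⟩, (minVecOf_spec _).2⟩ = sRef b :=
    refl_eq_of_smul (toQ_unit_mul_star hk).2 h
  obtain rfl := sRef_injective (e1.symm.trans e2)
  have h4 := congrArg (fun w => Spor.qip w (toV (lineVec a))) h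
  change Spor.qip (fun t => toQ (unitVec j) * toV (lineVec a) t) _ =
    Spor.qip (fun t => toQ (unitVec k) * toV (lineVec a) t) _ at h4
  rw [qip_smul_left, qip_smul_left, (lineVec_spec a).2, four_eq, mul_smul_comm, mul_smul_comm,
    mul_one, mul_one] at h4
  have hu := toQ_injective (smul_right_injective ℍ[ℝ] (by norm_num : (4 : ℝ) ≠ 0) h4)
  have hd := units_indexed
  simp only [Bool.and_eq_true] at hd
  have hjk := all_range (all_range hd.2 j.2) k.2
  rw [Ico.beq_iff.mpr hu, Bool.not_true, Bool.or_false] at hjk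
  rw [Fin.ext (nat_beq hjk)]

theorem ncard_minimal : {r : Fin 3 → ℍ[ℝ] | r ∈ Spor.icoLeech ∧ Spor.qip r r = 4}.ncard = 37800 := by
  have h : {r : Fin 3 → ℍ[ℝ] | r ∈ Spor.icoLeech ∧ Spor.qip r r = 4} = Set.range minVecOf := by
    ext r
    constructor
    · rintro ⟨hr, hr4⟩
      obtain ⟨i, u, hu, e⟩ := exists_line ⟨⟨r, hr⟩, hr4⟩
      have hd := units_indexed
      simp only [Bool.and_eq_true] at hd
      obtain ⟨k, hk, hk'⟩ := List.any_eq_true.mp (List.all_eq_true.mp hd.1 u (mem_units_iff.mpr hu))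
      refine ⟨(⟨k, List.mem_range.mp hk⟩, i), ?_⟩
      unfold minVecOf
      dsimp only
      rw [show unitVec k = u from (Ico.beq_iff.mp hk').symm]
      exact e.symm
    · rintro ⟨p, rfl⟩
      exact minVecOf_spec p
  rw [h, ← Nat.card_coe_set_eq, Nat.card_range_of_injective minVecOf_injective]
  simp

theorem ncard_reflections :
    {f : Equiv.Perm Spor.icoLeech | Spor.IsIcoReflection f}.ncard = 315 := by
  have h : {f : Equiv.Perm Spor.icoLeech | Spor.IsIcoReflection f} = Set.range sRef := by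
    ext f
    constructor
    · intro hf
      obtain ⟨r, rfl⟩ := isIcoReflection_iff.mp hf
      obtain ⟨i, hi⟩ := exists_index r
      exact ⟨i, hi.symm⟩
    · rintro ⟨i, rfl⟩
      exact isIcoReflection_iff.mpr ⟨rVec i, rfl⟩
  rw [h, ← Nat.card_coe_set_eq, Nat.card_range_of_injective sRef_injective]
  simp

theorem transitive_reflections {f f' : Equiv.Perm Spor.icoLeech} (hf : Spor.IsIcoReflection f)
    (hf' : Spor.IsIcoReflection f') : ∃ g ∈ Spor.twoJ2, g * f * g⁻¹ = f' := by
  obtain ⟨r, rfl⟩ := isIcoReflection_iff.mp hf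
  obtain ⟨r', rfl⟩ := isIcoReflection_iff.mp hf'
  obtain ⟨i, hi⟩ := exists_index r
  obtain ⟨j, hj⟩ := exists_index r'
  have key : ∀ k, ∃ g : Spor.twoJ2, rep g 0 = k := by
    intro k
    induction k using point_induction with
    | h0 => exact ⟨1, by rw [map_one]; rfl⟩
    | hs g p ih =>
      obtain ⟨x, hx⟩ := ih
      exact ⟨sG (genIdx g) * x, by rw [map_mul, Equiv.Perm.mul_apply, hx, rep_sG_gen]⟩
  obtain ⟨x, hx⟩ := key i
  obtain ⟨y, hy⟩ := key j
  refine ⟨(y * x⁻¹ : Spor.twoJ2), (y * x⁻¹).2, ?_⟩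
  rw [hi, hj]
  have h := congrArg Subtype.val (rep_spec (y * x⁻¹) i)
  rw [map_mul, Equiv.Perm.mul_apply, show rep x⁻¹ i = 0 by
    rw [map_inv, Equiv.Perm.inv_eq_iff_eq, hx], hy] at h
  exact h

end Cfsg.Lib.J2
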