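import Cfsg.Agent.Lib.J2.Module

/-!
# The minimal vectors of the icosian lattice
-/

set_option autoImplicit false
set_option linter.unusedSimpArgs false

open Quaternion

namespace Cfsg.Lib.J2

open Ico

/-- Sixteen times the quaternion norm, as an element of `ℤ[√5]` in the first two coordinates. -/
def nrm (x : Ico) : Ico := mulRaw x (conj x)

theorem nrm_eq (x : Ico) : nrm x = ⟨x.a0 * x.a0 + 5 * (x.a1 * x.a1) + (x.b0 * x.b0 + 5 * (x.b1 * x.b1))
    + (x.c0 * x.c0 + 5 * (x.c1 * x.c1)) + (x.d0 * x.d0 + 5 * (x.d1 * x.d1)),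
    2 * (x.a0 * x.a1 + x.b0 * x.b1 + x.c0 * x.c1 + x.d0 * x.d1), 0, 0, 0, 0, 0, 0⟩ := by
  simp only [nrm, mulRaw, conj, Ico.mk.injEq]
  refine ⟨?_, ?_, ?_, ?_, ?_, ?_, ?_, ?_⟩ <;> ring

theorem toQ_nrm (x : Ico) : toQ (nrm x) = (4 : ℝ) • (toQ x * star (toQ x)) := by
  rw [nrm, toQ_mulRaw, toQ_conj]

theorem nrm_facts {x : Ico} (hx : inI x = true) :
    ∃ A B : ℤ, nrm x = ⟨8 * A, 8 * B, 0, 0, 0, 0, 0, 0⟩ ∧ (A + B) % 2 = 0 ∧ 0 ≤ A ∧
      5 * (B * B) ≤ A * A ∧ (A = 0 → x = zero) := by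
  obtain ⟨hn, hn'⟩ := mul_spec hx (inI_conj hx)
  have hr : nrm x = scale 4 (mul x (conj x)) := toQ_injective (by
    rw [nrm, toQ_mulRaw, toQ_scale, hn', show ((4 : ℤ) : ℝ) = 4 by norm_num])
  have e := nrm_eq x
  generalize mul x (conj x) = n at hn hr
  rw [hr] at e
  obtain ⟨a0, a1, b0, b1, c0, c1, d0, d1⟩ := n
  simp only [scale, Ico.mk.injEq] at e
  obtain ⟨eP, eQ, eb0, eb1, ec0, ec1, ed0, ed1⟩ := e
  rw [inI_iff] at hn
  obtain ⟨h1, -, -, -, h5, -, -, h8⟩ := hn
  dsimp only at h1 h5 h8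
  obtain ⟨A, rfl⟩ : (2 : ℤ) ∣ a0 := by omega
  obtain ⟨B, rfl⟩ : (2 : ℤ) ∣ a1 := by omega
  refine ⟨A, B, ?_, by omega, ?_, ?_, ?_⟩
  · rw [hr]
    simp only [scale, Ico.mk.injEq]
    omega
  · nlinarith [mul_self_nonneg x.a0, mul_self_nonneg x.a1, mul_self_nonneg x.b0,
      mul_self_nonneg x.b1, mul_self_nonneg x.c0, mul_self_nonneg x.c1, mul_self_nonneg x.d0,
      mul_self_nonneg x.d1]
  · have ePR : (8 : ℝ) * A = x.a0 * x.a0 + 5 * (x.a1 * x.a1) + (x.b0 * x.b0 + 5 * (x.b1 * x.b1))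
        + (x.c0 * x.c0 + 5 * (x.c1 * x.c1)) + (x.d0 * x.d0 + 5 * (x.d1 * x.d1)) := by
      exact_mod_cast (by linarith : (8 : ℤ) * A = _)
    have eQR : (8 : ℝ) * B = 2 * (x.a0 * x.a1 + x.b0 * x.b1 + x.c0 * x.c1 + x.d0 * x.d1) := by
      exact_mod_cast (by linarith : (8 : ℤ) * B = _)
    have hsq := sqrt_five_mul
    have hp : 0 ≤ (A : ℝ) + B * Real.sqrt 5 := by
      have e : 8 * ((A : ℝ) + B * Real.sqrt 5) = ((x.a0 : ℝ) + x.a1 * Real.sqrt 5) ^ 2
          + ((x.b0 : ℝ) + x.b1 * Real.sqrt 5) ^ 2 + ((x.c0 : ℝ) + x.c1 * Real.sqrt 5) ^ 2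
          + ((x.d0 : ℝ) + x.d1 * Real.sqrt 5) ^ 2 := by
        linear_combination ePR + Real.sqrt 5 * eQR -
          ((x.a1 : ℝ) ^ 2 + (x.b1 : ℝ) ^ 2 + (x.c1 : ℝ) ^ 2 + (x.d1 : ℝ) ^ 2) * hsq
      have : 0 ≤ 8 * ((A : ℝ) + B * Real.sqrt 5) := by rw [e]; positivity
      linarith
    have hm : 0 ≤ (A : ℝ) - B * Real.sqrt 5 := by
      have e : 8 * ((A : ℝ) - B * Real.sqrt 5) = ((x.a0 : ℝ) - x.a1 * Real.sqrt 5) ^ 2
          + ((x.b0 : ℝ) - x.b1 * Real.sqrt 5) ^ 2 + ((x.c0 : ℝ) - x.c1 * Real.sqrt 5) ^ 2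
          + ((x.d0 : ℝ) - x.d1 * Real.sqrt 5) ^ 2 := by
        linear_combination ePR - Real.sqrt 5 * eQR -
          ((x.a1 : ℝ) ^ 2 + (x.b1 : ℝ) ^ 2 + (x.c1 : ℝ) ^ 2 + (x.d1 : ℝ) ^ 2) * hsq
      have : 0 ≤ 8 * ((A : ℝ) - B * Real.sqrt 5) := by rw [e]; positivity
      linarith
    have h := mul_nonneg hp hm
    have : (5 : ℝ) * (B * B) ≤ A * A := by nlinarith
    exact_mod_cast this
  · intro hA
    have hz : ∀ t : ℤ, t * t ≤ 0 → t = 0 := fun t ht => by nlinarith [mul_self_nonneg t]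
    obtain ⟨x0, x1, x2, x3, x4, x5, x6, x7⟩ := x
    dsimp only at eP
    have i0 := mul_self_nonneg x0
    have i1 := mul_self_nonneg x1
    have i2 := mul_self_nonneg x2
    have i3 := mul_self_nonneg x3
    have i4 := mul_self_nonneg x4
    have i5 := mul_self_nonneg x5
    have i6 := mul_self_nonneg x6
    have i7 := mul_self_nonneg x7
    subst hA
    simp only [zero, Ico.mk.injEq]
    exact ⟨hz _ (by linarith), hz _ (by linarith), hz _ (by linarith), hz _ (by linarith),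
      hz _ (by linarith), hz _ (by linarith), hz _ (by linarith), hz _ (by linarith)⟩

/-- Four times the Hermitian product of two triples. -/
def qipRaw (v w : Vec) : Ico :=
  Ico.add (Ico.add (mulRaw v.x (conj w.x)) (mulRaw v.y (conj w.y))) (mulRaw v.z (conj w.z))

theorem toQ_qipRaw (v w : Vec) : toQ (qipRaw v w) = (4 : ℝ) • Spor.qip (toV v) (toV w) := by
  simp [qipRaw, toQ_add, toQ_mulRaw, toQ_conj, Spor.qip, toV, Fin.sum_univ_three, smul_add]

/-- The minimal norm, scaled. -/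
def four4 : Ico := ⟨64, 0, 0, 0, 0, 0, 0, 0⟩

theorem qip_self_iff (v : Vec) : Spor.qip (toV v) (toV v) = 4 ↔ qipRaw v v = four4 := by
  have e : toQ four4 = (4 : ℝ) • (4 : ℍ[ℝ]) := by
    rw [show (4 : ℍ[ℝ]) = ((4 : ℝ) : ℍ[ℝ]) by norm_cast]
    ext <;> simp [four4, zr]; norm_num
  constructor
  · intro h
    exact toQ_injective (by rw [toQ_qipRaw, h, e])
  · intro h
    have h' := congrArg toQ h
    rw [toQ_qipRaw, e] at h'
    exact smul_right_injective ℍ[ℝ] (by norm_num : (4 : ℝ) ≠ 0) h'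

/-- The units as a flat list. -/
def units : List Ico := unitTab.flatten

/-- The line representatives as a flat list. -/
def lines : List Vec := lineTab.flatten

/-- Membership test in a list of icosians. -/
def memb (l : List Ico) (x : Ico) : Bool := l.any (fun y => Ico.beq x y)

theorem mem_of_memb {l : List Ico} {x : Ico} (h : memb l x = true) : x ∈ l := by
  obtain ⟨y, hy, e⟩ := List.any_eq_true.mp h
  exact Ico.beq_iff.mp e ▸ hy

/-- The candidates for one coordinate pair below a bound. -/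
def pairs (M : ℤ) : List (ℤ × ℤ) :=
  (([-5, -4, -3, -2, -1, 0, 1, 2, 3, 4, 5] : List ℤ).flatMap fun p =>
    (([-2, -1, 0, 1, 2] : List ℤ).map fun q => (p, q))).filter fun a =>
      decide ((a.1 + a.2) % 2 = 0) && decide (a.1 * a.1 + 5 * (a.2 * a.2) ≤ M)

/-- The rational weight of a coordinate pair. -/
def wt (a : ℤ × ℤ) : ℤ := a.1 * a.1 + 5 * (a.2 * a.2)

/-- All icosians of the given norm satisfy a test. -/
def enumOK (M : ℤ) (f : Ico → Bool) : Bool :=
  (pairs M).all fun a => (pairs M).all fun b =>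
    decide (M < wt a + wt b) || (pairs M).all fun c =>
      decide (M < wt a + wt b + wt c) || (pairs M).all fun d =>
        (!decide (wt a + wt b + wt c + wt d = M))
          || (!decide (a.1 * a.2 + b.1 * b.2 + c.1 * c.2 + d.1 * d.2 = 0))
          || (!inI ⟨a.1, a.2, b.1, b.2, c.1, c.2, d.1, d.2⟩)
          || f ⟨a.1, a.2, b.1, b.2, c.1, c.2, d.1, d.2⟩

theorem mem_pairs {M p q : ℤ} (hM : M ≤ 32) (hpq : (p + q) % 2 = 0)
    (h : p * p + 5 * (q * q) ≤ M) : (p, q) ∈ pairs M := by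
  refine List.mem_filter.mpr ⟨List.mem_flatMap.mpr ⟨p, ?_, List.mem_map.mpr ⟨q, ?_, rfl⟩⟩, ?_⟩
  · have h1 : -5 ≤ p := by nlinarith [mul_self_nonneg q]
    have h2 : p ≤ 5 := by nlinarith [mul_self_nonneg q]
    interval_cases p <;> simp
  · have h1 : -2 ≤ q := by nlinarith [mul_self_nonneg p]
    have h2 : q ≤ 2 := by nlinarith [mul_self_nonneg p]
    interval_cases q <;> simp
  · simp [hpq, h]

theorem of_enumOK {M : ℤ} {f : Ico → Bool} (hM : M ≤ 32) (hf : enumOK M f = true) {x : Ico}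
    (hx : inI x = true) (hn : nrm x = ⟨M, 0, 0, 0, 0, 0, 0, 0⟩) : f x = true := by
  rw [nrm_eq] at hn
  simp only [Ico.mk.injEq, and_true] at hn
  obtain ⟨hP, hQ⟩ := hn
  obtain ⟨x0, x1, x2, x3, x4, x5, x6, x7⟩ := x
  dsimp only at hP hQ
  have hx' := (inI_iff _).mp hx
  obtain ⟨g1, g2, g3, g4, -, -, -, -⟩ := hx'
  dsimp only at g1 g2 g3 g4
  have i : ∀ a b : ℤ, 0 ≤ a * a + 5 * (b * b) := fun a b => by
    nlinarith [mul_self_nonneg a, mul_self_nonneg b]
  have j0 := i x0 x1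
  have j1 := i x2 x3
  have j2 := i x4 x5
  have j3 := i x6 x7
  have h1 := List.all_eq_true.mp hf _ (mem_pairs hM g1 (by linarith))
  have h2 := List.all_eq_true.mp h1 _ (mem_pairs hM g2 (by linarith))
  rcases Bool.or_eq_true_iff.mp h2 with h2 | h2
  · have := of_decide_eq_true h2; simp only [wt] at this; linarith
  have h3 := List.all_eq_true.mp h2 _ (mem_pairs hM g3 (by linarith))
  rcases Bool.or_eq_true_iff.mp h3 with h3 | h3
  · have := of_decide_eq_true h3; simp only [wt] at this; linarith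
  have h4 := List.all_eq_true.mp h3 _ (mem_pairs hM g4 (by linarith))
  simp only [wt, Bool.or_eq_true, Bool.not_eq_true', decide_eq_false_iff_not] at h4
  rcases h4 with ((h4 | h4) | h4) | h4
  · exact absurd (by linarith) (of_decide_eq_false h4)
  · exact absurd (by linarith) h4
  · rw [hx] at h4; exact absurd h4 (by simp)
  · exact h4

theorem enum_units : enumOK 16 (memb units) = true := by decide +kernel

theorem enum_near : enumOK 32 (fun x => (!inIh (Ico.add one (Ico.neg x))) || memb nearTab x) = true := by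
  decide +kernel

theorem units_props : units.all (fun u => inI u && Ico.beq (nrm u) ⟨16, 0, 0, 0, 0, 0, 0, 0⟩) = true := by
  decide +kernel

/-- Norm one. -/
def IsUnitIco (u : Ico) : Prop := inI u = true ∧ nrm u = ⟨16, 0, 0, 0, 0, 0, 0, 0⟩

theorem mem_units_iff {u : Ico} : u ∈ units ↔ IsUnitIco u := by
  constructor
  · intro h
    have h' := List.all_eq_true.mp units_props _ h
    simp only [Bool.and_eq_true] at h'
    exact ⟨h'.1, Ico.beq_iff.mp h'.2⟩
  · rintro ⟨h1, h2⟩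
    exact mem_of_memb (of_enumOK (by norm_num) enum_units h1 h2)

theorem toQ_unit_mul_star {u : Ico} (hu : IsUnitIco u) :
    toQ u * star (toQ u) = 1 ∧ star (toQ u) * toQ u = 1 := by
  have h := congrArg toQ hu.2
  rw [toQ_nrm, show toQ (⟨16, 0, 0, 0, 0, 0, 0, 0⟩ : Ico) = (4 : ℝ) • (1 : ℍ[ℝ]) by
    ext <;> simp [zr] <;> norm_num] at h
  have h1 := smul_right_injective ℍ[ℝ] (by norm_num : (4 : ℝ) ≠ 0) h
  exact ⟨h1, by rw [Quaternion.star_mul_self, ← Quaternion.self_mul_star, h1]⟩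

/-- The square of the golden ratio and its scalings. -/
def icTau : Ico := ⟨2, 2, 0, 0, 0, 0, 0, 0⟩

/-- The conjugate of the golden ratio. -/
def icSig : Ico := ⟨2, -2, 0, 0, 0, 0, 0, 0⟩

/-- The three placements of a triple with a distinguished first entry. -/
def placed3 (x y z : Ico) : Bool :=
  lines.any (Vec.beq ⟨x, y, z⟩) && lines.any (Vec.beq ⟨y, x, z⟩) && lines.any (Vec.beq ⟨y, z, x⟩)

/-- The six placements of a triple. -/
def placed6 (x y z : Ico) : Bool :=
  placed3 x y z && placed3 x z y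

/-- The check for lines of type (2,2,0). -/
def check440 : Bool :=
  units.all fun u => (!Vec.memL ⟨zero, mul u icH, icH⟩) || placed3 zero (mul u icH) icH

/-- The check for lines of type (2,1,1). -/
def check422 : Bool :=
  units.all fun z => (!inIh (Ico.add one (Ico.neg z))) ||
    nearTab.all fun x => (!Vec.memL ⟨x, one, z⟩) || placed3 x one z

/-- The check for lines of type (τ², σ², 1). -/
def check332 : Bool :=
  units.all fun u => (!inIh (Ico.add (mul icTau u) (Ico.neg one))) ||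
    units.all fun v => (!inIh (Ico.add (mul icSig v) (Ico.neg one))) ||
      (!Vec.memL ⟨mul icTau u, mul icSig v, one⟩) || placed6 (mul icTau u) (mul icSig v) one

theorem check440_ok : check440 = true := by decide +kernel

theorem check422_ok : check422 = true := by decide +kernel

theorem check332_ok : check332 = true := by decide +kernel

theorem check800_ok : placed3 (scale 2 one) zero zero = true := by decide +kernel

theorem units_not_inIh : units.all (fun u => (!inIh u) && (!inIh (mul icTau u)) &&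
    (!inIh (mul icSig u))) = true := by decide +kernel

end Cfsg.Lib.J2
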