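import Cfsg.Agent.Lib.J2.DataVec

/-!
# The icosian lattice as a left module, in coordinates
-/

set_option autoImplicit false
set_option linter.unusedSimpArgs false

open Quaternion

namespace Cfsg.Lib.J2

open Ico

theorem toQ_mem {a : Ico} (ha : inI a = true) : toQ a ∈ Spor.icosians := by
  rw [inI_iff] at ha
  obtain ⟨h1, h2, h3, h4, h5, h6, h7, h8⟩ := ha
  have hi : Spor.qI ∈ Spor.icosians := Subring.subset_closure (Or.inl rfl)
  have hg : (⟨1 / 2, Spor.sig / 2, 0, Spor.tau / 2⟩ : ℍ[ℝ]) ∈ Spor.icosians :=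
    Subring.subset_closure (Or.inr rfl)
  rw [← toQ_gI] at hi
  rw [← toQ_gW] at hg
  have key : ∀ (x y z : Ico), toQ x ∈ Spor.icosians → toQ y ∈ Spor.icosians →
      mulRaw x y = scale 4 z → toQ z ∈ Spor.icosians := by
    intro x y z hx hy h
    have h' := congrArg toQ h
    rw [toQ_mulRaw, toQ_scale, show ((4 : ℤ) : ℝ) = 4 by norm_num] at h'
    exact smul_right_injective ℍ[ℝ] (by norm_num : (4 : ℝ) ≠ 0) h' ▸ mul_mem hx hy
  have m2 := key _ _ ⟨-1, 1, 2, 0, -1, -1, 0, 0⟩ hi hg rfl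
  have m3 := key _ _ ⟨-2, 0, 1, -1, 0, 0, 1, 1⟩ hg hg rfl
  have m4 := key _ _ ⟨-1, 1, 1, 1, 0, 0, 2, 0⟩ hg m2 rfl
  have m5 := key _ _ ⟨-2, 0, -1, 1, 0, 0, 1, 1⟩ m2 hi rfl
  have m6 := key _ _ ⟨-1, -1, -1, 1, -2, 0, 0, 0⟩ m2 m2 rfl
  have n7 := key _ _ ⟨-4, 0, 0, 0, 0, 0, 0, 0⟩ hi hi rfl
  have o7 := key _ _ ⟨2, 0, -1, 1, 0, 0, -1, -1⟩ n7 m3 rfl
  have m7 := key _ _ ⟨1, -1, 2, 0, -1, -1, 0, 0⟩ o7 hi rfl
  obtain ⟨c1, e1⟩ : (4 : ℤ) ∣ a.a0 + a.a1 - a.c0 + a.c1 + 2 * a.d1 := by omega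
  obtain ⟨c2, e2⟩ : (4 : ℤ) ∣ a.b0 + a.b1 + 2 * a.c1 - a.d0 + a.d1 := by omega
  obtain ⟨c3, e3⟩ : (4 : ℤ) ∣ 2 * a.a1 - a.c0 - a.c1 - a.d0 + a.d1 := by omega
  obtain ⟨c4, e4⟩ : (4 : ℤ) ∣ -2 * a.b1 - a.c0 + a.c1 + a.d0 + a.d1 := by omega
  obtain ⟨c5, e5⟩ : (2 : ℤ) ∣ a.d0 - a.d1 := by omega
  obtain ⟨c6, e6⟩ : (4 : ℤ) ∣ 2 * a.b1 + a.c0 - a.c1 - a.d0 + 3 * a.d1 := by omega
  obtain ⟨c7, e7⟩ : (2 : ℤ) ∣ -a.c0 + a.c1 := by omega
  obtain ⟨c8, e8⟩ : (4 : ℤ) ∣ -2 * a.a1 + a.c0 - 3 * a.c1 + a.d0 - a.d1 := by omega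
  have m0 : toQ one ∈ Spor.icosians := by rw [toQ_one]; exact one_mem _
  have e : a = add (scale c1 one) (add (scale c2 gI) (add (scale c3 ⟨-1, 1, 2, 0, -1, -1, 0, 0⟩)
      (add (scale c4 ⟨-2, 0, 1, -1, 0, 0, 1, 1⟩) (add (scale c5 ⟨-1, 1, 1, 1, 0, 0, 2, 0⟩)
      (add (scale c6 ⟨-2, 0, -1, 1, 0, 0, 1, 1⟩) (add (scale c7 ⟨-1, -1, -1, 1, -2, 0, 0, 0⟩)
        (scale c8 ⟨1, -1, 2, 0, -1, -1, 0, 0⟩))))))) := by
    cases a
    simp only [add, scale, one, gI, Ico.mk.injEq] at *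
    omega
  rw [e]
  simp only [toQ_add, toQ_scale, ← Int.cast_smul_eq_zsmul ℝ]
  simp only [Int.cast_smul_eq_zsmul]
  exact add_mem (zsmul_mem m0 _) (add_mem (zsmul_mem hi _) (add_mem (zsmul_mem m2 _)
    (add_mem (zsmul_mem m3 _) (add_mem (zsmul_mem m4 _) (add_mem (zsmul_mem m5 _)
      (add_mem (zsmul_mem m6 _) (zsmul_mem m7 _)))))))

theorem mem_icosians_iff {q : ℍ[ℝ]} : q ∈ Spor.icosians ↔ ∃ a, inI a = true ∧ toQ a = q :=
  ⟨fun h => icosians_le q h, fun ⟨a, ha, h⟩ => h ▸ toQ_mem ha⟩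

theorem mul_spec {x y : Ico} (hx : inI x = true) (hy : inI y = true) :
    inI (mul x y) = true ∧ toQ (mul x y) = toQ x * toQ y := by
  obtain ⟨z, hz, hz'⟩ := mem_icosians_iff.mp (mul_mem (toQ_mem hx) (toQ_mem hy))
  have h : mulRaw x y = scale 4 z := toQ_injective (by
    rw [toQ_mulRaw, toQ_scale, hz', show ((4 : ℤ) : ℝ) = 4 by norm_num])
  have e : mul x y = z := by
    unfold Ico.mul
    rw [h]
    cases z
    simp [divBy, scale]
  rw [e]
  exact ⟨hz, hz'⟩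

theorem inI_mul {x y : Ico} (hx : inI x = true) (hy : inI y = true) : inI (mul x y) = true :=
  (mul_spec hx hy).1

theorem toQ_mul {x y : Ico} (hx : inI x = true) (hy : inI y = true) :
    toQ (mul x y) = toQ x * toQ y :=
  (mul_spec hx hy).2

/-- The icosian `h` of norm two. -/
def icH : Ico := ⟨0, -2, 2, 0, 2, 0, 2, 0⟩

/-- The conjugate of `h`. -/
def icHb : Ico := ⟨0, -2, -2, 0, -2, 0, -2, 0⟩

theorem toQ_icH : toQ icH = Spor.icoH := by
  ext <;> simp [icH, zr, Spor.icoH] <;> ring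

theorem toQ_icHb : toQ icHb = star Spor.icoH := by
  rw [← toQ_icH, ← toQ_conj]
  rfl

/-- Coordinate-wise divisibility by eight and membership of the quotient. -/
def eighth (x : Ico) : Bool :=
  ((decide (x.a0 % 8 = 0) && decide (x.a1 % 8 = 0)) && (decide (x.b0 % 8 = 0) && decide (x.b1 % 8 = 0)))
    && ((decide (x.c0 % 8 = 0) && decide (x.c1 % 8 = 0))
      && (decide (x.d0 % 8 = 0) && decide (x.d1 % 8 = 0)))
    && inI (divBy x 8)

theorem eighth_iff {x : Ico} : eighth x = true ↔ ∃ a, inI a = true ∧ x = scale 8 a := by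
  constructor
  · intro h
    refine ⟨divBy x 8, ?_, ?_⟩
    · simp only [eighth, Bool.and_eq_true] at h; exact h.2
    · cases x
      simp only [eighth, Bool.and_eq_true, decide_eq_true_eq] at h
      simp only [scale, divBy, Ico.mk.injEq]
      omega
  · rintro ⟨a, ha, rfl⟩
    have e : divBy (scale 8 a) 8 = a := by cases a; simp [divBy, scale]
    simp only [eighth, e, ha, Bool.and_true]
    simp [scale]

/-- Membership in the left ideal of `h`. -/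
def inIh (x : Ico) : Bool := eighth (mulRaw x icHb)

/-- Membership in the left ideal of the conjugate of `h`. -/
def inIhb (x : Ico) : Bool := eighth (mulRaw x icH)

theorem icHb_mul_icH : toQ icHb * toQ icH = (2 : ℝ) • (1 : ℍ[ℝ]) ∧
    toQ icH * toQ icHb = (2 : ℝ) • (1 : ℍ[ℝ]) := by
  have h := congrArg toQ (show mulRaw icHb icH = scale 8 one by rfl)
  have h' := congrArg toQ (show mulRaw icH icHb = scale 8 one by rfl)
  rw [toQ_mulRaw, toQ_scale, toQ_one, show ((8 : ℤ) : ℝ) = 4 * 2 by norm_num, mul_smul] at h h'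
  exact ⟨smul_right_injective ℍ[ℝ] (by norm_num : (4 : ℝ) ≠ 0) h,
    smul_right_injective ℍ[ℝ] (by norm_num : (4 : ℝ) ≠ 0) h'⟩

theorem eighth_mulRaw_iff {x u v : Ico} (huv : toQ u * toQ v = (2 : ℝ) • (1 : ℍ[ℝ]))
    (hvu : toQ v * toQ u = (2 : ℝ) • (1 : ℍ[ℝ])) :
    eighth (mulRaw x u) = true ↔ ∃ q ∈ Spor.icosians, toQ x = q * toQ v := by
  rw [eighth_iff]
  constructor
  · rintro ⟨a, ha, h⟩
    refine ⟨toQ a, toQ_mem ha, ?_⟩
    have h' := congrArg toQ h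
    rw [toQ_mulRaw, toQ_scale, show ((8 : ℤ) : ℝ) = 4 * 2 by norm_num, mul_smul] at h'
    have h2 := congrArg (· * toQ v) (smul_right_injective ℍ[ℝ] (by norm_num : (4 : ℝ) ≠ 0) h')
    simp only [mul_assoc, huv, mul_smul_comm, mul_one, smul_mul_assoc] at h2
    exact smul_right_injective ℍ[ℝ] (by norm_num : (2 : ℝ) ≠ 0) h2
  · rintro ⟨q, hq, h⟩
    obtain ⟨a, ha, rfl⟩ := mem_icosians_iff.mp hq
    refine ⟨a, ha, toQ_injective ?_⟩
    rw [toQ_mulRaw, h, mul_assoc, hvu, toQ_scale, mul_smul_comm, mul_one, smul_smul]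
    norm_num

theorem inIh_iff {x : Ico} : inIh x = true ↔ toQ x ∈ Spor.leftIdeal Spor.icoH := by
  rw [inIh, eighth_mulRaw_iff icHb_mul_icH.1 icHb_mul_icH.2, toQ_icH]
  rfl

theorem inIhb_iff {x : Ico} : inIhb x = true ↔ toQ x ∈ Spor.leftIdeal (star Spor.icoH) := by
  rw [inIhb, eighth_mulRaw_iff icHb_mul_icH.2 icHb_mul_icH.1, toQ_icHb]
  rfl

namespace Vec

/-- Membership in the lattice. -/
def memL (v : Vec) : Bool :=
  (inI v.x && inI v.y && inI v.z) &&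
    (inIh (Ico.add v.x (Ico.neg v.y)) && inIh (Ico.add v.y (Ico.neg v.z)) &&
      inIhb (Ico.add (Ico.add v.x v.y) v.z))

/-- Boolean equality of triples. -/
def beq (v w : Vec) : Bool := Ico.beq v.x w.x && (Ico.beq v.y w.y && Ico.beq v.z w.z)

theorem beq_iff {v w : Vec} : beq v w = true ↔ v = w := by
  cases v; cases w
  simp [beq, Ico.beq_iff]

/-- Sum of triples. -/
def add (v w : Vec) : Vec := ⟨Ico.add v.x w.x, Ico.add v.y w.y, Ico.add v.z w.z⟩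

/-- Left multiple of a triple. -/
def smul (a : Ico) (v : Vec) : Vec := ⟨Ico.mul a v.x, Ico.mul a v.y, Ico.mul a v.z⟩

/-- All coordinates are icosians. -/
def allI (v : Vec) : Prop := inI v.x = true ∧ inI v.y = true ∧ inI v.z = true

end Vec

/-- The vector of quaternions of a triple. -/
noncomputable def toV (v : Vec) : Fin 3 → ℍ[ℝ] := ![toQ v.x, toQ v.y, toQ v.z]

theorem toV_injective : Function.Injective toV := by
  intro v w h
  have h0 := toQ_injective (congrFun h 0)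
  have h1 := toQ_injective (congrFun h 1)
  have h2 := toQ_injective (congrFun h 2)
  cases v; cases w
  simp_all

theorem allI_of_memL {v : Vec} (h : v.memL = true) : v.allI := by
  simp only [Vec.memL, Bool.and_eq_true] at h
  exact ⟨h.1.1.1, h.1.1.2, h.1.2⟩

theorem memL_iff {v : Vec} (hv : v.allI) : v.memL = true ↔ toV v ∈ Spor.icoLeech := by
  simp [Vec.memL, inIh_iff, inIhb_iff, toQ_add, toQ_neg, ← sub_eq_add_neg, toV, Spor.icoLeech,
    hv.1, hv.2.1, hv.2.2, Fin.forall_fin_succ, mem_icosians_iff.mpr ⟨_, hv.1, rfl⟩,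
    mem_icosians_iff.mpr ⟨_, hv.2.1, rfl⟩, mem_icosians_iff.mpr ⟨_, hv.2.2, rfl⟩, and_assoc]

theorem mem_icoLeech_iff {w : Fin 3 → ℍ[ℝ]} :
    w ∈ Spor.icoLeech ↔ ∃ v : Vec, v.memL = true ∧ toV v = w := by
  constructor
  · intro hw
    obtain ⟨a, ha, ha'⟩ := mem_icosians_iff.mp (hw.1 0)
    obtain ⟨b, hb, hb'⟩ := mem_icosians_iff.mp (hw.1 1)
    obtain ⟨c, hc, hc'⟩ := mem_icosians_iff.mp (hw.1 2)
    have e : toV ⟨a, b, c⟩ = w := by
      funext t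
      fin_cases t <;> simp [toV, ha', hb', hc']
    exact ⟨⟨a, b, c⟩, (memL_iff ⟨ha, hb, hc⟩).mpr (e.symm ▸ hw), e⟩
  · rintro ⟨v, hv, rfl⟩
    exact (memL_iff (allI_of_memL hv)).mp hv

theorem toV_smul {a : Ico} (ha : inI a = true) {v : Vec} (hv : v.allI) :
    toV (v.smul a) = fun t => toQ a * toV v t := by
  funext t
  fin_cases t <;> simp [toV, Vec.smul, toQ_mul ha, hv.1, hv.2.1, hv.2.2]

theorem toV_add (v w : Vec) : toV (v.add w) = toV v + toV w := by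
  funext t
  fin_cases t <;> simp [toV, Vec.add, toQ_add]

theorem leftIdeal_add {q a b : ℍ[ℝ]} (ha : a ∈ Spor.leftIdeal q) (hb : b ∈ Spor.leftIdeal q) :
    a + b ∈ Spor.leftIdeal q := by
  obtain ⟨s, hs, rfl⟩ := ha
  obtain ⟨t, ht, rfl⟩ := hb
  exact ⟨s + t, add_mem hs ht, (add_mul _ _ _).symm⟩

theorem leftIdeal_smul {q a c : ℍ[ℝ]} (hc : c ∈ Spor.icosians) (ha : a ∈ Spor.leftIdeal q) :
    c * a ∈ Spor.leftIdeal q := by
  obtain ⟨s, hs, rfl⟩ := ha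
  exact ⟨c * s, mul_mem hc hs, (mul_assoc _ _ _).symm⟩

theorem icoLeech_add {u w : Fin 3 → ℍ[ℝ]} (hu : u ∈ Spor.icoLeech) (hw : w ∈ Spor.icoLeech) :
    u + w ∈ Spor.icoLeech := by
  refine ⟨fun t => add_mem (hu.1 t) (hw.1 t), ?_, ?_, ?_⟩
  · have h := leftIdeal_add hu.2.1 hw.2.1
    convert h using 1
    simp only [Pi.add_apply]; abel
  · have h := leftIdeal_add hu.2.2.1 hw.2.2.1
    convert h using 1
    simp only [Pi.add_apply]; abel
  · have h := leftIdeal_add hu.2.2.2 hw.2.2.2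
    convert h using 1
    simp only [Pi.add_apply]; abel

theorem icoLeech_smul {c : ℍ[ℝ]} {u : Fin 3 → ℍ[ℝ]} (hc : c ∈ Spor.icosians)
    (hu : u ∈ Spor.icoLeech) : (fun t => c * u t) ∈ Spor.icoLeech := by
  refine ⟨fun t => mul_mem hc (hu.1 t), ?_, ?_, ?_⟩
  · have h := leftIdeal_smul hc hu.2.1
    rwa [mul_sub] at h
  · have h := leftIdeal_smul hc hu.2.2.1
    rwa [mul_sub] at h
  · have h := leftIdeal_smul hc hu.2.2.2
    rwa [mul_add, mul_add] at h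

/-- The first module generator. -/
def gen1 : Vec := ⟨one, one, ⟨-2, 0, -2, 0, 2, 0, 0, 2⟩⟩

/-- The second module generator. -/
def gen2 : Vec := ⟨zero, icH, ⟨-2, 0, -2, 0, 0, -2, 2, 0⟩⟩

/-- The third module generator. -/
def gen3 : Vec := ⟨zero, zero, ⟨8, 0, 0, 0, 0, 0, 0, 0⟩⟩

theorem gens_memL : gen1.memL = true ∧ gen2.memL = true ∧ gen3.memL = true :=
  ⟨by decide, by decide, by decide⟩

theorem inI_half {u : Ico} (hu : inI u = true) (k l m n : ℤ) :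
    inI ⟨-u.a1, -u.a0 - 4 * k, -u.b1, -u.b0 - 4 * l, -u.c1, -u.c0 - 4 * m,
      -u.d1, -u.d0 - 4 * n⟩ = true := by
  rw [inI_iff] at hu
  obtain ⟨h1, h2, h3, h4, h5, h6, h7, h8⟩ := hu
  rw [inI_iff]
  refine ⟨?_, ?_, ?_, ?_, ?_, ?_, ?_, ?_⟩ <;> dsimp only <;> omega

theorem exists_two_mul {x : Ico} (h1 : inIh x = true) (h2 : inIhb x = true) :
    ∃ a, inI a = true ∧ x = scale 2 a := by
  rw [inIh, eighth_iff] at h1
  rw [inIhb, eighth_iff] at h2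
  obtain ⟨s, hs, es⟩ := h1
  obtain ⟨t, ht, et⟩ := h2
  have hu := inI_add hs ht
  obtain ⟨a0, a1, b0, b1, c0, c1, d0, d1⟩ := x
  simp only [mulRaw, icH, icHb, scale, Ico.mk.injEq] at es et
  obtain ⟨e0, e1, e2, e3, e4, e5, e6, e7⟩ := es
  obtain ⟨f0, f1, f2, f3, f4, f5, f6, f7⟩ := et
  have q0 : a0 = 2 * -(s.a1 + t.a1) := by linarith
  have q2 : b0 = 2 * -(s.b1 + t.b1) := by linarith
  have q4 : c0 = 2 * -(s.c1 + t.c1) := by linarith
  have q6 : d0 = 2 * -(s.d1 + t.d1) := by linarith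
  have q1 : 5 * a1 = -2 * (s.a0 + t.a0) := by linarith
  have q3 : 5 * b1 = -2 * (s.b0 + t.b0) := by linarith
  have q5 : 5 * c1 = -2 * (s.c0 + t.c0) := by linarith
  have q7 : 5 * d1 = -2 * (s.d0 + t.d0) := by linarith
  obtain ⟨k, rfl⟩ : (2 : ℤ) ∣ a1 := ⟨-(s.a0 + t.a0) - 2 * a1, by linarith⟩
  obtain ⟨l, rfl⟩ : (2 : ℤ) ∣ b1 := ⟨-(s.b0 + t.b0) - 2 * b1, by linarith⟩
  obtain ⟨m, rfl⟩ : (2 : ℤ) ∣ c1 := ⟨-(s.c0 + t.c0) - 2 * c1, by linarith⟩
  obtain ⟨n, rfl⟩ : (2 : ℤ) ∣ d1 := ⟨-(s.d0 + t.d0) - 2 * d1, by linarith⟩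
  refine ⟨_, inI_half hu k l m n, ?_⟩
  simp only [Ico.add, scale, Ico.mk.injEq]
  refine ⟨?_, ?_, ?_, ?_, ?_, ?_, ?_, ?_⟩ <;> linarith

theorem exists_combination {w : Fin 3 → ℍ[ℝ]} (hw : w ∈ Spor.icoLeech) :
    ∃ a ∈ Spor.icosians, ∃ b ∈ Spor.icosians, ∃ c ∈ Spor.icosians,
      ∀ t, w t = a * toV gen1 t + b * toV gen2 t + c * toV gen3 t := by
  have g1 := mem_icoLeech_iff.mpr ⟨gen1, gens_memL.1, rfl⟩
  have g2 := mem_icoLeech_iff.mpr ⟨gen2, gens_memL.2.1, rfl⟩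
  have ha : w 0 ∈ Spor.icosians := hw.1 0
  have hw1 := icoLeech_add hw (icoLeech_smul (neg_mem ha) g1)
  have hz : (w + fun t => -w 0 * toV gen1 t) 0 = 0 := by
    simp [toV, gen1, toQ_one]
  obtain ⟨b, hb, hb'⟩ := hw1.2.1
  rw [hz, zero_sub] at hb'
  have hw2 := icoLeech_add hw1 (icoLeech_smul hb g2)
  obtain ⟨v, hv, hv'⟩ := mem_icoLeech_iff.mp hw2
  have e0 : toQ v.x = 0 := by
    have := congrFun hv' 0
    simpa [toV, gen1, gen2, toQ_one, toQ_zero] using this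
  have e1 : toQ v.y = 0 := by
    have := congrFun hv' 1
    simp only [toV, Matrix.cons_val_one, Matrix.cons_val_zero, Pi.add_apply] at this
    rw [this]
    have h2 : toQ gen2.y = Spor.icoH := toQ_icH
    simp only [Pi.add_apply, toV, Matrix.cons_val_one, Matrix.cons_val_zero] at hb'
    rw [h2, ← hb']
    abel
  have hx0 : v.x = zero := toQ_injective (e0.trans toQ_zero.symm)
  have hy0 : v.y = zero := toQ_injective (e1.trans toQ_zero.symm)
  have hc1 : inIh v.z = true := by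
    rw [inIh_iff]
    have h := ((memL_iff (allI_of_memL hv)).mp hv).2.2.1
    simp only [toV, Matrix.cons_val_one, Matrix.cons_val, Matrix.cons_val_zero] at h
    rw [e1, zero_sub] at h
    simpa using leftIdeal_smul (neg_mem (one_mem Spor.icosians)) h
  have hc2 : inIhb v.z = true := by
    rw [inIhb_iff]
    have h := ((memL_iff (allI_of_memL hv)).mp hv).2.2.2
    simp only [toV, Matrix.cons_val_one, Matrix.cons_val, Matrix.cons_val_zero] at h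
    rwa [e0, e1, zero_add, zero_add] at h
  obtain ⟨c, hc, hc'⟩ := exists_two_mul hc1 hc2
  refine ⟨w 0, ha, -b, neg_mem hb, toQ c, toQ_mem hc, fun t => ?_⟩
  have ec : toV v t = toQ c * toV gen3 t := by
    have e8 : toQ gen3.z = (2 : ℝ) • (1 : ℍ[ℝ]) := by
      rw [← toQ_one, show (2 : ℝ) = ((2 : ℤ) : ℝ) by norm_num, ← toQ_scale]
      rfl
    fin_cases t <;> simp [toV, gen3, hx0, hy0, toQ_zero]
    rw [hc', toQ_scale]
    change _ = toQ c * toQ gen3.z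
    rw [e8, mul_smul_comm, mul_one]
    norm_num
  rw [← ec, hv']
  simp only [Pi.add_apply, neg_mul]
  abel

end Cfsg.Lib.J2
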