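import Mathlib

/-!
# Element orders of the symmetric group of degree eight and of a group `2^6.A₈`
-/

set_option autoImplicit false
set_option linter.unusedSimpArgs false
set_option linter.unusedVariables false

open Equiv

namespace Cfsg.Lib.J2

/-- The orders occurring. -/
def octOrders : List ℕ := [1, 2, 3, 4, 5, 6, 7, 8, 10, 12, 15]

/-- All multisets of integers at least two with sum at most the bound. -/
def octTypes : ℕ → ℕ → List (Multiset ℕ)
  | 0, _ => [0]
  | k + 1, n =>
    0 :: (List.range (n + 1)).flatMap fun a =>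
      if 2 ≤ a then (octTypes k (n - a)).map (a ::ₘ ·) else []

theorem mem_octTypes : ∀ (k n : ℕ) (m : Multiset ℕ), (∀ a ∈ m, 2 ≤ a) → m.sum ≤ n → n < 2 * k + 2 →
    m ∈ octTypes k n := by
  intro k
  induction k with
  | zero =>
    intro n m h2 hs hn
    rcases Multiset.empty_or_exists_mem m with rfl | ⟨a, ha⟩
    · simp [octTypes]
    · have := h2 a ha
      have := Multiset.le_sum_of_mem ha
      omega
  | succ k ih =>
    intro n m h2 hs hn
    rcases Multiset.empty_or_exists_mem m with rfl | ⟨a, ha⟩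
    · simp [octTypes]
    · obtain ⟨m', rfl⟩ := Multiset.exists_cons_of_mem ha
      have ha2 := h2 a (Multiset.mem_cons_self _ _)
      rw [Multiset.sum_cons] at hs
      refine List.mem_cons_of_mem _ (List.mem_flatMap.mpr ⟨a, List.mem_range.mpr (by omega), ?_⟩)
      rw [if_pos ha2]
      exact List.mem_map.mpr ⟨m', ih _ m' (fun b hb => h2 b (Multiset.mem_cons_of_mem hb))
        (by omega) (by omega), rfl⟩

theorem cycleType_mem_octTypes (s : Perm (Fin 8)) : s.cycleType ∈ octTypes 4 8 := by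
  refine mem_octTypes 4 8 _ (fun a ha => Perm.two_le_of_mem_cycleType ha) ?_ (by norm_num)
  rw [Perm.sum_cycleType]
  exact (Finset.card_le_univ _).trans (by simp)

/-- One permutation for each cycle type. -/
def octReps : List (Perm (Fin 8)) :=
  [
    (1 : Equiv.Perm (Fin 8)),
    List.formPerm [0, 1],
    List.formPerm [0, 1, 2],
    List.formPerm [0, 1, 2, 3],
    List.formPerm [0, 1, 2, 3, 4],
    List.formPerm [0, 1, 2, 3, 4, 5],
    List.formPerm [0, 1, 2, 3, 4, 5, 6],
    List.formPerm [0, 1, 2, 3, 4, 5, 6, 7],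
    List.formPerm [0, 1] * List.formPerm [2, 3],
    List.formPerm [0, 1] * List.formPerm [2, 3, 4],
    List.formPerm [0, 1] * List.formPerm [2, 3, 4, 5],
    List.formPerm [0, 1] * List.formPerm [2, 3, 4, 5, 6],
    List.formPerm [0, 1] * List.formPerm [2, 3, 4, 5, 6, 7],
    List.formPerm [0, 1, 2] * List.formPerm [3, 4, 5],
    List.formPerm [0, 1, 2] * List.formPerm [3, 4, 5, 6],
    List.formPerm [0, 1, 2] * List.formPerm [3, 4, 5, 6, 7],
    List.formPerm [0, 1, 2, 3] * List.formPerm [4, 5, 6, 7],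
    List.formPerm [0, 1] * List.formPerm [2, 3] * List.formPerm [4, 5],
    List.formPerm [0, 1] * List.formPerm [2, 3] * List.formPerm [4, 5, 6],
    List.formPerm [0, 1] * List.formPerm [2, 3] * List.formPerm [4, 5, 6, 7],
    List.formPerm [0, 1] * List.formPerm [2, 3, 4] * List.formPerm [5, 6, 7],
    List.formPerm [0, 1] * List.formPerm [2, 3] * List.formPerm [4, 5] * List.formPerm [6, 7]]

/-- Even representatives with the inverse table and a bound for the order. -/
def octEven : List (Perm (Fin 8) × List ℕ × ℕ) :=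
  [
    (1, [0, 1, 2, 3, 4, 5, 6, 7], 8),
    (List.formPerm [0, 1, 2], [2, 0, 1, 3, 4, 5, 6, 7], 12),
    (List.formPerm [0, 1, 2, 3, 4], [4, 0, 1, 2, 3, 5, 6, 7], 10),
    (List.formPerm [0, 1, 2, 3, 4, 5, 6], [6, 0, 1, 2, 3, 4, 5, 7], 7),
    (List.formPerm [0, 1] * List.formPerm [2, 3], [1, 0, 3, 2, 4, 5, 6, 7], 8),
    (List.formPerm [0, 1] * List.formPerm [2, 3, 4, 5], [1, 0, 5, 2, 3, 4, 6, 7], 8),
    (List.formPerm [0, 1] * List.formPerm [2, 3, 4, 5, 6, 7], [1, 0, 7, 2, 3, 4, 5, 6], 12),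
    (List.formPerm [0, 1, 2] * List.formPerm [3, 4, 5], [2, 0, 1, 5, 3, 4, 6, 7], 12),
    (List.formPerm [0, 1, 2] * List.formPerm [3, 4, 5, 6, 7], [2, 0, 1, 7, 3, 4, 5, 6], 15),
    (List.formPerm [0, 1, 2, 3] * List.formPerm [4, 5, 6, 7], [3, 0, 1, 2, 7, 4, 5, 6], 8),
    (List.formPerm [0, 1] * List.formPerm [2, 3] * List.formPerm [4, 5, 6], [1, 0, 3, 2, 6, 4, 5, 7], 12),
    (List.formPerm [0, 1] * List.formPerm [2, 3] * List.formPerm [4, 5] * List.formPerm [6, 7], [1, 0, 3, 2, 5, 4, 7, 6], 8)]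

theorem oct_lcm : (octTypes 4 8).all (fun m => octOrders.contains (Multiset.lcm m)) = true := by
  decide +kernel

theorem oct_surj : octOrders.all (fun n =>
    octReps.any fun r => Nat.beq (Multiset.lcm r.cycleType) n) = true := by decide +kernel

/-- The spectrum of the symmetric group of degree eight. -/
theorem range_orderOf_perm_eight :
    Set.range (orderOf : Perm (Fin 8) → ℕ) = {n | n ∈ octOrders} := by
  ext n
  constructor
  · rintro ⟨s, rfl⟩
    show orderOf s ∈ octOrders
    rw [← Perm.lcm_cycleType]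
    exact List.contains_iff_mem.mp (List.all_eq_true.mp oct_lcm _ (cycleType_mem_octTypes s))
  · intro hn
    obtain ⟨r, -, hr⟩ := List.any_eq_true.mp (List.all_eq_true.mp oct_surj n hn)
    exact ⟨r, by rw [← Perm.lcm_cycleType]; exact Nat.eq_of_beq_eq_true hr⟩

/-- Pairs of a vector and a permutation. -/
@[ext] structure OctW where
  v : Fin 8 → ZMod 2
  s : Perm (Fin 8)

namespace OctW

instance instMulOctW : Mul OctW := ⟨fun x y => ⟨fun i => x.v i + y.v (x.s.symm i), x.s * y.s⟩⟩

instance instOneOctW : One OctW := ⟨⟨0, 1⟩⟩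

instance instInvOctW : Inv OctW := ⟨fun x => ⟨fun i => x.v (x.s i), x.s⁻¹⟩⟩

theorem mul_v (x y : OctW) (i : Fin 8) : (x * y).v i = x.v i + y.v (x.s.symm i) := rfl

theorem mul_s (x y : OctW) : (x * y).s = x.s * y.s := rfl

theorem one_v (i : Fin 8) : (1 : OctW).v i = 0 := rfl

theorem one_s : (1 : OctW).s = 1 := rfl

instance instGroupOctW : Group OctW :=
  Group.ofLeftAxioms
    (fun a b c => OctW.ext (funext fun i => by simp [mul_v, mul_s, add_assoc, Perm.mul_def])
      (by simp [mul_s, mul_assoc]))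
    (fun a => OctW.ext (funext fun i => by simp [mul_v, one_v, one_s, Perm.one_def])
      (by simp [mul_s, one_s]))
    (fun a => OctW.ext (funext fun i => by
        show a.v (a.s i) + a.v ((a.s⁻¹).symm i) = 0
        rw [show ((a.s⁻¹).symm i) = a.s i from rfl, ← two_mul, show (2 : ZMod 2) = 0 from rfl,
          zero_mul])
      (inv_mul_cancel _))

instance instFiniteOctW : Finite OctW :=
  Finite.of_injective (fun x : OctW => (x.v, x.s)) fun x y h => OctW.ext (congrArg Prod.fst h) (congrArg Prod.snd h)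

/-- The even vectors with even permutations. -/
def evenSub : Subgroup OctW where
  carrier := {x | ∑ i, x.v i = 0 ∧ Perm.sign x.s = 1}
  mul_mem' := by
    rintro x y ⟨hx, hx'⟩ ⟨hy, hy'⟩
    refine ⟨?_, by rw [mul_s, map_mul, hx', hy', one_mul]⟩
    simp only [mul_v, Finset.sum_add_distrib]
    rw [hx, zero_add, Equiv.sum_comp x.s.symm y.v, hy]
  one_mem' := ⟨by simp [one_v], by simp [one_s]⟩
  inv_mem' := by
    rintro x ⟨hx, hx'⟩
    refine ⟨?_, ?_⟩
    · show ∑ i, x.v (x.s i) = 0
      rw [Equiv.sum_comp x.s x.v, hx]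
    · show Perm.sign x.s⁻¹ = 1
      rw [map_inv, hx', inv_one]

/-- The all-one vectors. -/
def constSub : Subgroup evenSub where
  carrier := {x | (x : OctW).s = 1 ∧ ∀ i, (x : OctW).v i = (x : OctW).v 0}
  mul_mem' := by
    rintro x y ⟨hx, hx'⟩ ⟨hy, hy'⟩
    refine ⟨by rw [Subgroup.coe_mul, mul_s, hx, hy, one_mul], fun i => ?_⟩
    rw [Subgroup.coe_mul, mul_v, mul_v, hx' i, hy' (Equiv.symm (x : OctW).s i),
      hy' (Equiv.symm (x : OctW).s 0)]
  one_mem' := ⟨rfl, fun _ => rfl⟩
  inv_mem' := by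
    rintro x ⟨hx, hx'⟩
    refine ⟨by show ((x : OctW).s)⁻¹ = 1; rw [hx, inv_one], fun i => ?_⟩
    show (x : OctW).v ((x : OctW).s i) = (x : OctW).v ((x : OctW).s 0)
    rw [hx, Perm.one_apply, Perm.one_apply, hx' i]

theorem conj_v (g x : OctW) (hs : x.s = 1) (i : Fin 8) :
    (g * x * g⁻¹).v i = x.v (g.s.symm i) := by
  have e : (g * x).s = g.s := by rw [mul_s, hs, mul_one]
  rw [mul_v, mul_v, e]
  show g.v i + x.v (g.s.symm i) + g.v (g.s (g.s.symm i)) = _
  rw [Equiv.apply_symm_apply, add_comm, ← add_assoc, ← two_mul, show (2 : ZMod 2) = 0 from rfl,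
    zero_mul, zero_add]

theorem conj_s (g x : OctW) (hs : x.s = 1) : (g * x * g⁻¹).s = 1 := by
  show g.s * x.s * g.s⁻¹ = 1
  rw [hs, mul_one, mul_inv_cancel]

instance instNormalConstSub : constSub.Normal :=
  ⟨fun x hx g => ⟨conj_s _ _ hx.1, fun i => by
    show ((g : OctW) * x * (g : OctW)⁻¹).v i = ((g : OctW) * x * (g : OctW)⁻¹).v 0
    rw [conj_v _ _ hx.1, conj_v _ _ hx.1, hx.2, hx.2 ((g : OctW).s.symm 0)]⟩⟩

/-- The vectors. -/
def vecSub : Subgroup evenSub where
  carrier := {x | (x : OctW).s = 1}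
  mul_mem' := by
    intro x y hx hy
    show ((x : OctW) * (y : OctW)).s = 1
    rw [mul_s, hx, hy, one_mul]
  one_mem' := rfl
  inv_mem' := by
    intro x hx
    show ((x : OctW).s)⁻¹ = 1
    rw [hx, inv_one]

instance instNormalVecSub : vecSub.Normal := ⟨fun x hx g => conj_s _ _ hx⟩

end OctW

open OctW

/-- The group `2^6.A₈`. -/
abbrev OctG : Type := evenSub ⧸ constSub

/-- The image of the vectors. -/
noncomputable def octA : Subgroup OctG := vecSub.map (QuotientGroup.mk' constSub)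

instance instNormalOctA : octA.Normal :=
  Subgroup.Normal.map inferInstance _ (QuotientGroup.mk'_surjective _)

theorem octA_sq : ∀ a ∈ octA, a ^ 2 = 1 := by
  rintro _ ⟨x, hx, rfl⟩
  rw [← map_pow]
  refine (QuotientGroup.eq_one_iff _).mpr ?_
  have h : x ^ 2 = 1 := by
    refine Subtype.ext (OctW.ext (funext fun i => ?_) ?_)
    · show ((x : OctW) ^ 2).v i = 0
      rw [pow_two, mul_v, show (x : OctW).s = 1 from hx]
      show (x : OctW).v i + (x : OctW).v i = 0
      rw [← two_mul, show (2 : ZMod 2) = 0 from rfl, zero_mul]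
    · show ((x : OctW) ^ 2).s = 1
      rw [pow_two, mul_s, show (x : OctW).s = 1 from hx, one_mul]
  rw [h]
  exact constSub.one_mem

/-- The bit of a mask. -/
def bit8 (M i : ℕ) : ℕ := Nat.mod (Nat.div M (2 ^ i)) 2

/-- The vector of a mask. -/
def maskVec (M : ℕ) : Fin 8 → ZMod 2 := fun i => (bit8 M i : ZMod 2)

/-- The accumulated vector of a power. -/
def accum (M : ℕ) (tab : List ℕ) : ℕ → ℕ → ℕ
  | 0, _ => 0
  | n + 1, i => Nat.mod (Nat.add (bit8 M i) (accum M tab n (tab.getD i 0))) 2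

/-- The iterate of a table. -/
def iterTab (tab : List ℕ) : ℕ → ℕ → ℕ
  | 0, i => i
  | n + 1, i => tab.getD (iterTab tab n i) 0

/-- The power of an element lies in the kernel. -/
def powOK (M : ℕ) (tab : List ℕ) (n : ℕ) : Bool :=
  (List.range 8).all fun i =>
    Nat.beq (iterTab tab n i) i && Nat.beq (accum M tab n i) (accum M tab n 0)

/-- The parity of a mask. -/
def parity8 (M : ℕ) : Bool :=
  Nat.beq (Nat.mod ((List.range 8).map (bit8 M)).sum 2) 0

theorem oct_tables : octEven.all (fun r => r.2.1.length = 8 && (List.range 8).all fun i =>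
    Nat.beq ((r.1.symm (Fin.ofNat 8 i) : Fin 8) : ℕ) (r.2.1.getD i 0)) = true := by decide +kernel

theorem oct_orders : octEven.all (fun r => [7, 8, 10, 12, 15].contains r.2.2 &&
    (List.range 256).all fun M => !parity8 M || powOK M r.2.1 r.2.2) = true := by decide +kernel

theorem oct_cover : (octTypes 4 8).all (fun m =>
    Nat.beq (Nat.mod (m.sum + Multiset.card m) 2) 1 ||
      octEven.any fun r => decide (r.1.cycleType = m)) = true := by decide +kernel

theorem oct_masks : ∀ v : Fin 8 → ZMod 2,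
    (List.range 256).any (fun M => decide (maskVec M = v) && (parity8 M == decide (∑ i, v i = 0))) = true := by
  decide +kernel

theorem accum_eq (M : ℕ) (r : Perm (Fin 8)) (tab : List ℕ)
    (ht : ∀ i : Fin 8, ((r.symm i : Fin 8) : ℕ) = tab.getD i 0) (n : ℕ) (i : Fin 8) :
    ((⟨maskVec M, r⟩ : OctW) ^ n).v i = (accum M tab n i : ZMod 2) ∧
      ((((⟨maskVec M, r⟩ : OctW) ^ n).s.symm i : Fin 8) : ℕ) = iterTab tab n i := by
  induction n generalizing i with
  | zero => exact ⟨by simp [pow_zero, one_v, accum], by simp only [pow_zero, one_s, iterTab]; rfl⟩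
  | succ n ih =>
    constructor
    · rw [pow_succ', mul_v, (ih _).1, ht, accum]
      show (bit8 M i : ZMod 2) + _ = ((Nat.mod _ 2 : ℕ) : ZMod 2)
      rw [show ∀ a : ℕ, ((Nat.mod a 2 : ℕ) : ZMod 2) = (a : ZMod 2) from fun a => ZMod.natCast_mod a 2]
      show _ = ((bit8 M i + accum M tab n (tab.getD i 0) : ℕ) : ZMod 2)
      rw [Nat.cast_add]
    · rw [pow_succ, mul_s]
      show ((r.symm (((⟨maskVec M, r⟩ : OctW) ^ n).s.symm i) : Fin 8) : ℕ) = _
      rw [ht, (ih i).2, iterTab]

theorem pow_mem_iff {M : ℕ} {r : Perm (Fin 8)} {tab : List ℕ}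
    (ht : ∀ i : Fin 8, ((r.symm i : Fin 8) : ℕ) = tab.getD i 0) (n : ℕ) :
    powOK M tab n = true ↔ ((⟨maskVec M, r⟩ : OctW) ^ n).s = 1 ∧
      ∀ i, ((⟨maskVec M, r⟩ : OctW) ^ n).v i = ((⟨maskVec M, r⟩ : OctW) ^ n).v 0 := by
  have hlt : ∀ m i, accum M tab m i < 2 := by
    intro m i
    cases m
    · exact Nat.zero_lt_two
    · exact Nat.mod_lt _ Nat.zero_lt_two
  have hcast : ∀ a b : ℕ, a < 2 → b < 2 → (a : ZMod 2) = b → a = b := by
    intro a b ha hb h
    have h' := congrArg ZMod.val h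
    rwa [ZMod.val_cast_of_lt ha, ZMod.val_cast_of_lt hb] at h'
  constructor
  · intro h
    have h' : ∀ i : Fin 8, iterTab tab n i = i ∧ accum M tab n i = accum M tab n 0 := by
      intro i
      have := List.all_eq_true.mp h i (List.mem_range.mpr i.2)
      simp only [Bool.and_eq_true] at this
      exact ⟨Nat.eq_of_beq_eq_true this.1, Nat.eq_of_beq_eq_true this.2⟩
    refine ⟨Equiv.ext fun i => ?_, fun i => ?_⟩
    · have h1 : ((⟨maskVec M, r⟩ : OctW) ^ n).s.symm i = i :=
        Fin.ext ((accum_eq M r tab ht n i).2.trans (h' i).1)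
      conv_lhs => rw [← h1]
      rw [Equiv.apply_symm_apply, Perm.one_apply]
    · rw [(accum_eq M r tab ht n i).1, (accum_eq M r tab ht n 0).1, (h' i).2]
      rfl
  · rintro ⟨hs, hv⟩
    refine List.all_eq_true.mpr fun i hi => ?_
    have h1 := accum_eq M r tab ht n ⟨i, List.mem_range.mp hi⟩
    have h0 := accum_eq M r tab ht n 0
    simp only [Bool.and_eq_true]
    constructor
    · rw [← h1.2, hs]
      exact Nat.beq_refl _
    · have e := hcast _ _ (hlt n i) (hlt n 0) (by rw [← h1.1, hv, h0.1]; rfl)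
      rw [e]
      exact Nat.beq_refl _

theorem sign_eq_of_cover {s : Perm (Fin 8)} (hs : Perm.sign s = 1) :
    ∃ r ∈ octEven, ∃ p : Perm (Fin 8), p * s * p⁻¹ = r.1 := by
  have h := List.all_eq_true.mp oct_cover _ (cycleType_mem_octTypes s)
  rcases Bool.or_eq_true_iff.mp h with h | h
  · exfalso
    rw [Perm.sign_of_cycleType] at hs
    have h' : Odd (s.cycleType.sum + Multiset.card s.cycleType) :=
      Nat.odd_iff.mpr (Nat.eq_of_beq_eq_true h)
    rw [h'.neg_one_pow] at hs
    exact absurd hs (by decide)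
  · obtain ⟨r, hr, hr'⟩ := List.any_eq_true.mp h
    obtain ⟨p, hp⟩ := isConj_iff.mp (Perm.isConj_iff_cycleType_eq.mpr (of_decide_eq_true hr').symm)
    exact ⟨r, hr, p, hp⟩

theorem exists_pow_mem (x : evenSub) : ∃ o ∈ [7, 8, 10, 12, 15], x ^ o ∈ constSub := by
  obtain ⟨hv, hs⟩ := x.2
  obtain ⟨⟨r, tab, o⟩, hr, p, hp⟩ := sign_eq_of_cover hs
  let c : OctW := ⟨0, p⟩
  have he : ∑ i, (c * x * c⁻¹).v i = 0 := by
    simp only [mul_v, Finset.sum_add_distrib]
    rw [show (∑ i, c.v i) = 0 by simp [c], zero_add, Equiv.sum_comp c.s.symm (x : OctW).v, hv,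
      zero_add]
    exact Finset.sum_eq_zero fun i _ => rfl
  obtain ⟨M, hM, hM'⟩ := List.any_eq_true.mp (oct_masks (c * x * c⁻¹).v)
  obtain ⟨hMv, hMp⟩ := Bool.and_eq_true_iff.mp hM'
  have hMv := of_decide_eq_true hMv
  rw [decide_eq_true he, beq_iff_eq] at hMp
  have hO := List.all_eq_true.mp oct_orders _ hr
  obtain ⟨hol, hO⟩ := Bool.and_eq_true_iff.mp hO
  have hO := List.all_eq_true.mp hO M hM
  simp only [hMp, Bool.not_true, Bool.false_or] at hO
  have ht : ∀ i : Fin 8, ((r.symm i : Fin 8) : ℕ) = tab.getD i 0 := by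
    intro i
    have h := List.all_eq_true.mp oct_tables _ hr
    obtain ⟨-, h⟩ := Bool.and_eq_true_iff.mp h
    have := Nat.eq_of_beq_eq_true (List.all_eq_true.mp h i (List.mem_range.mpr i.2))
    rwa [show (Fin.ofNat 8 (i : ℕ)) = i from Fin.ext (Nat.mod_eq_of_lt i.2)] at this
  obtain ⟨h1, h2⟩ := (pow_mem_iff ht o).mp hO
  have e : c * x * c⁻¹ = ⟨maskVec M, r⟩ := OctW.ext hMv.symm hp
  rw [← e, conj_pow] at h1 h2
  refine ⟨o, List.contains_iff_mem.mp hol, ?_, ?_⟩
  · show ((x : OctW) ^ o).s = 1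
    have h3 : p * ((x : OctW) ^ o).s * p⁻¹ = 1 := h1
    exact conj_eq_one_iff.mp h3
  · intro i
    have hx1 : ((x : OctW) ^ o).s = 1 := conj_eq_one_iff.mp (show p * ((x : OctW) ^ o).s * p⁻¹ = 1 from h1)
    have k : ∀ j, ((x : OctW) ^ o).v (p.symm j) = ((x : OctW) ^ o).v (p.symm 0) := fun j => by
      have := h2 j
      rwa [conj_v _ _ hx1, conj_v _ _ hx1] at this
    show ((x : OctW) ^ o).v i = ((x : OctW) ^ o).v 0
    have k1 := k (p i)
    have k2 := k (p 0)
    rw [Equiv.symm_apply_apply] at k1 k2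
    rw [k1, k2]

/-- Exact orders in the small group: order, representative and mask. -/
def octExamples : List (ℕ × ℕ × ℕ) :=
  [(1, 0, 0), (2, 0, 3), (3, 1, 0), (4, 4, 5), (5, 2, 0), (6, 1, 9), (7, 3, 0), (8, 5, 5), (10, 2, 33),
    (12, 10, 5), (15, 8, 0)]

/-- Check of one example. -/
def octExOK (e : ℕ × ℕ × ℕ) : Bool :=
  let tab := (octEven.getD e.2.1 (1, [], 0)).2.1
  Nat.blt e.2.1 12 && parity8 e.2.2 && Nat.blt e.2.2 256 && powOK e.2.2 tab e.1 &&
    (List.range e.1).all fun m => Nat.beq m 0 || !powOK e.2.2 tab m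

theorem oct_examples_ok : (octExamples.all octExOK &&
    octOrders.all (fun n => octExamples.any fun e => Nat.beq e.1 n)) = true := by decide +kernel

theorem oct_masks_even : (List.range 256).all (fun M =>
    !parity8 M || decide (∑ i, maskVec M i = 0)) = true := by decide +kernel

theorem oct_even_sign : octEven.all (fun r => decide (Perm.sign r.1 = 1)) = true := by decide +kernel

theorem range_orderOf_octG : Set.range (orderOf : OctG → ℕ) = {n | n ∈ octOrders} := by
  ext n
  constructor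
  · rintro ⟨g, rfl⟩
    obtain ⟨x, rfl⟩ := QuotientGroup.mk_surjective g
    obtain ⟨o, ho, ho'⟩ := exists_pow_mem x
    have hd := Nat.mem_divisors.mpr ⟨orderOf_dvd_of_pow_eq_one (x := (QuotientGroup.mk x : OctG))
      (n := o) (by rw [← QuotientGroup.mk_pow, QuotientGroup.eq_one_iff]; exact ho'), by
      intro h0; subst h0; simp at ho⟩
    show orderOf (QuotientGroup.mk x : OctG) ∈ octOrders
    revert hd
    generalize orderOf (QuotientGroup.mk x : OctG) = d
    revert d
    fin_cases ho <;> decide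
  · intro hn
    obtain ⟨hE, hL⟩ := Bool.and_eq_true_iff.mp oct_examples_ok
    obtain ⟨⟨k, j, M⟩, he, he'⟩ := List.any_eq_true.mp (List.all_eq_true.mp hL n hn)
    obtain rfl : k = n := Nat.eq_of_beq_eq_true he'
    have h := List.all_eq_true.mp hE _ he
    simp only [octExOK, Bool.and_eq_true] at h
    obtain ⟨⟨⟨⟨hj, hp⟩, hM⟩, hk⟩, hmin⟩ := h
    have hj : j < octEven.length := Nat.le_of_ble_eq_true hj
    have hr : octEven.getD j (1, [], 0) ∈ octEven := by
      rw [List.getD_eq_getElem _ _ hj]; exact List.getElem_mem hj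
    generalize octEven.getD j (1, [], 0) = q at hr hk hmin
    obtain ⟨r, tab, o⟩ := q
    have ht : ∀ i : Fin 8, ((r.symm i : Fin 8) : ℕ) = tab.getD i 0 := by
      intro i
      have h := List.all_eq_true.mp oct_tables _ hr
      obtain ⟨-, h⟩ := Bool.and_eq_true_iff.mp h
      have h' := Nat.eq_of_beq_eq_true (List.all_eq_true.mp h i (List.mem_range.mpr i.2))
      rwa [show (Fin.ofNat 8 (i : ℕ)) = i from Fin.ext (Nat.mod_eq_of_lt i.2)] at h'
    have hev := List.all_eq_true.mp oct_masks_even M (List.mem_range.mpr (Nat.le_of_ble_eq_true hM))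
    simp only [hp, Bool.not_true, Bool.false_or, decide_eq_true_eq] at hev
    let x : evenSub := ⟨⟨maskVec M, r⟩, hev, of_decide_eq_true (List.all_eq_true.mp oct_even_sign _ hr)⟩
    have key : ∀ m, (QuotientGroup.mk x : OctG) ^ m = 1 ↔ powOK M tab m = true := fun m => by
      rw [← QuotientGroup.mk_pow, QuotientGroup.eq_one_iff, pow_mem_iff ht m]
      exact Iff.rfl
    have hk0 : 0 < k := Nat.pos_of_ne_zero fun h0 => by subst h0; simp [octOrders] at hn
    refine ⟨QuotientGroup.mk x, (orderOf_eq_iff hk0).mpr ⟨(key k).mpr hk, fun m hm hm0 hc => ?_⟩⟩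
    have h3 := List.all_eq_true.mp hmin m (List.mem_range.mpr hm)
    simp only [(key m).mp hc, Bool.not_true, Bool.or_false] at h3
    exact absurd (Nat.eq_of_beq_eq_true h3) (by omega)

theorem octA_ne_bot : octA ≠ ⊥ := by
  intro h
  let x : evenSub := ⟨⟨maskVec 3, 1⟩, by decide, map_one _⟩
  have hx : (QuotientGroup.mk' constSub x) ∈ octA := ⟨x, rfl, rfl⟩
  rw [h, Subgroup.mem_bot] at hx
  have h2 := ((QuotientGroup.eq_one_iff x).mp hx).2 2
  revert h2
  decide

end Cfsg.Lib.J2
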