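import Cfsg.Agent.Lib.J2.OrderDefs

/-!
# Element orders in suborbit 1
-/

set_option autoImplicit false
set_option maxHeartbeats 0
set_option maxRecDepth 4000

namespace Cfsg.Lib.J2

theorem orders_sub1 : (List.range 1920).all (ordOK ordTab1 1) = true := by decide +kernel

end Cfsg.Lib.J2
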