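import Cfsg.Agent.Lib.J2.Check

/-!
# The order test for elements in a given suborbit
-/

set_option autoImplicit false

namespace Cfsg.Lib.J2

/-- The element orders of the Hall–Janko group. -/
def ordList : List ℕ := [1, 2, 3, 4, 5, 6, 7, 8, 10, 12, 15]

/-- Iterate the element with index `c` in suborbit `d`. -/
def walk (T V W : ℕ) : ℕ → ℕ → ℕ
  | 0, x => x
  | o + 1, x => walk T V W o (app T (app V (app W x)))

/-- The order bound at an index. -/
def ordOK (tab : List (List ℕ)) (d n : ℕ) : Bool :=
  ordList.contains (tget 0 tab n) &&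
    (List.range 4).all fun t =>
      Nat.beq (walk (tP (tget 0 dRepTab d)) (vP (Nat.div n 12)) (wP (Nat.mod n 12)) (tget 0 tab n)
        (genLine t)) (genLine t)

end Cfsg.Lib.J2
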