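import Cfsg.Agent.Lib.J2.Reflect
import Cfsg.Agent.Lib.J2.Check

/-!
# The action of the reflection group on its 315 reflections
-/

set_option autoImplicit false
set_option linter.unusedSimpArgs false

open Quaternion

namespace Cfsg.Lib.J2

open Ico

theorem all_range {n : ℕ} {f : ℕ → Bool} (h : (List.range n).all f = true) {i : ℕ} (hi : i < n) :
    f i = true :=
  List.all_eq_true.mp h i (List.mem_range.mpr hi)

theorem nat_beq {a b : ℕ} (h : Nat.beq a b = true) : a = b := Nat.eq_of_beq_eq_true h

theorem nat_blt {a b : ℕ} (h : Nat.blt a b = true) : a < b := Nat.lt_of_succ_le (Nat.le_of_ble_eq_true h)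

theorem lineVec_spec (i : Fin 315) :
    (lineVec i).memL = true ∧ Spor.qip (toV (lineVec i)) (toV (lineVec i)) = 4 := by
  have h := all_range linesOK_ok i.2
  simp only [Bool.and_eq_true] at h
  exact ⟨h.1, (qip_self_iff _).mpr (Ico.beq_iff.mp h.2)⟩

/-- The `i`-th minimal vector. -/
noncomputable def rVec (i : Fin 315) : MinVec :=
  ⟨⟨toV (lineVec i), mem_icoLeech_iff.mpr ⟨_, (lineVec_spec i).1, rfl⟩⟩, (lineVec_spec i).2⟩

/-- The `i`-th reflection. -/
noncomputable def sRef (i : Fin 315) : Equiv.Perm Spor.icoLeech := refl (rVec i)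

/-- The `i`-th reflection in the reflection group. -/
noncomputable def sG (i : Fin 315) : Spor.twoJ2 := ⟨sRef i, refl_mem_twoJ2 _⟩

theorem exists_line (r : MinVec) :
    ∃ i : Fin 315, ∃ u, IsUnitIco u ∧ (r.1 : QV) = fun t => toQ u * toV (lineVec i) t := by
  obtain ⟨v, hv, hv'⟩ := mem_icoLeech_iff.mp r.1.2
  have hn : qipRaw v v = four4 := (qip_self_iff v).mp (by rw [hv']; exact r.2)
  obtain ⟨u, hu, w, hw, e⟩ := found_of_minimal hv hn
  obtain ⟨i, hi, hi'⟩ := List.any_eq_true.mp (List.all_eq_true.mp lines_indexed w hw)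
  have hi2 := List.mem_range.mp hi
  refine ⟨⟨i, hi2⟩, u, hu, ?_⟩
  rw [← hv', e, Vec.beq_iff.mp hi']
  exact toV_smul hu.1 (allI_of_memL (lineVec_spec ⟨i, hi2⟩).1)

theorem exists_index (r : MinVec) : ∃ i, refl r = sRef i := by
  obtain ⟨i, u, hu, e⟩ := exists_line r
  exact ⟨i, refl_eq_of_smul (toQ_unit_mul_star hu).2 e⟩

theorem toV_reflV {r w : Vec} (hr : r.memL = true) (hw : w.memL = true) :
    toV (reflV r w) = Spor.qrefl (toV r) (toV w) := by
  obtain ⟨a, ha, e⟩ := mem_icosians_iff.mp (half_qip_mem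
    (mem_icoLeech_iff.mpr ⟨w, hw, rfl⟩) (mem_icoLeech_iff.mpr ⟨r, hr, rfl⟩))
  have h : qipRaw w r = scale 8 a := toQ_injective (by
    rw [toQ_qipRaw, toQ_scale, e, smul_smul]; norm_num)
  have hd : divBy (qipRaw w r) 8 = a := by
    rw [h]; cases a; simp [divBy, scale]
  unfold reflV
  rw [hd, toV_add, toV_smul (inI_neg ha) (allI_of_memL hr), qrefl_eq, toQ_neg, e]

/-- The `g`-th generating index. -/
def genIdx (g : Fin 4) : Fin 315 :=
  ⟨genLine g, nat_blt (by
    have h := all_range gen_basics g.2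
    simp only [Bool.and_eq_true] at h
    exact h.1.1)⟩

theorem img_ok (g : Fin 4) (j : Fin 315) : imgOK g j = true := by
  fin_cases g
  · exact all_range img_zero j.2
  · exact all_range img_one j.2
  · exact all_range img_two j.2
  · exact all_range img_three j.2

theorem app_genP_lt (g : Fin 4) (j : Fin 315) : app (genP g) j < 315 := by
  have h := img_ok g j
  simp only [imgOK, Bool.and_eq_true] at h
  rw [nat_beq h.2.1]
  exact nat_blt h.1

/-- The permutation of indices given by a generator. -/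
def pg (g : Fin 4) (j : Fin 315) : Fin 315 := ⟨app (genP g) j, app_genP_lt g j⟩

theorem unitVec_spec {k : ℕ} (hk : k < 120) : IsUnitIco (unitVec k) := by
  have h := all_range unitsOK_ok hk
  simp only [Bool.and_eq_true] at h
  exact ⟨h.1, Ico.beq_iff.mp h.2⟩

theorem conj_gen (g : Fin 4) (j : Fin 315) :
    sRef (genIdx g) * sRef j * (sRef (genIdx g))⁻¹ = sRef (pg g j) := by
  have h := img_ok g j
  simp only [imgOK, Bool.and_eq_true] at h
  have hk : Nat.div (tget 0 imgTab (315 * (g : ℕ) + j)) 120 = app (genP g) j := (nat_beq h.2.1).symm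
  have hu := unitVec_spec (k := Nat.mod (tget 0 imgTab (315 * (g : ℕ) + j)) 120)
    (Nat.mod_lt _ (by norm_num))
  have hv := congrArg toV (Vec.beq_iff.mp h.2.2)
  rw [hk] at hv
  replace hv := (toV_reflV (lineVec_spec (genIdx g)).1 (lineVec_spec j).1).symm.trans
    (hv.trans (toV_smul hu.1 (allI_of_memL (lineVec_spec (pg g j)).1)))
  refine (conj_refl (isIso_refl _) (rVec j)).trans ?_
  exact refl_eq_of_smul (toQ_unit_mul_star hu).2 hv

theorem pg_invol (g : Fin 4) (j : Fin 315) : pg g (pg g j) = j := by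
  have h := all_range gen_basics g.2
  simp only [Bool.and_eq_true, compOK] at h
  apply Fin.ext
  show app (genP g) (app (genP g) j) = j
  rw [nat_beq (all_range h.1.2 j.2)]
  exact nat_beq (all_range tzero_id j.2)

/-- The `n`-th point in breadth-first order. -/
def pt (n : Fin 315) : Fin 315 :=
  ⟨ptP n, nat_blt (by
    have h := all_range points_ok n.2
    simp only [Bool.and_eq_true] at h
    exact h.1)⟩

/-- The position of a point in breadth-first order. -/
def pos (p : Fin 315) : Fin 315 :=
  ⟨posP p, nat_blt (by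
    have h := all_range positions_ok p.2
    simp only [Bool.and_eq_true] at h
    exact h.1)⟩

theorem pt_pos (p : Fin 315) : pt (pos p) = p := by
  have h := all_range positions_ok p.2
  simp only [Bool.and_eq_true] at h
  exact Fin.ext (nat_beq h.2)

theorem pt_zero : pt 0 = 0 := by
  have h := base_zero
  simp only [Bool.and_eq_true] at h
  exact Fin.ext (nat_beq h.1.2)

theorem genIdx_zero : genIdx 0 = 0 := by
  have h := base_zero
  simp only [Bool.and_eq_true] at h
  exact Fin.ext (nat_beq h.1.1)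

theorem tPar_spec {n : ℕ} (hn : n + 1 < 315) :
    ∃ (g : Fin 4) (m : Fin 315), (m : ℕ) ≤ n ∧
      compOK (genP g) (tP m) (tP (n + 1)) = true := by
  have h := all_range tPar_ok (show n < 314 by omega)
  simp only [tParOK, Bool.and_eq_true] at h
  have hb := nat_blt h.1
  exact ⟨⟨Nat.mod (tget 0 tParTab (n + 1)) 4, Nat.mod_lt _ (by norm_num)⟩,
    ⟨Nat.div (tget 0 tParTab (n + 1)) 4, by omega⟩, Nat.lt_succ_iff.mp hb, h.2⟩

theorem pt_succ {n : ℕ} (hn : n + 1 < 315) : ∃ (g : Fin 4) (m : Fin 315),
    (m : ℕ) ≤ n ∧ pt ⟨n + 1, hn⟩ = pg g (pt m) := by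
  obtain ⟨g, m, hm, hc⟩ := tPar_spec hn
  refine ⟨g, m, hm, Fin.ext ?_⟩
  have h1 := all_range points_ok hn
  have h2 := all_range points_ok m.2
  simp only [Bool.and_eq_true] at h1 h2
  show ptP (n + 1) = app (genP g) (ptP m)
  rw [← nat_beq h1.2, ← nat_beq h2.2]
  exact (nat_beq (all_range hc (show (0 : ℕ) < 315 by norm_num))).symm

theorem point_induction {P : Fin 315 → Prop} (h0 : P 0)
    (hs : ∀ (g : Fin 4) (p : Fin 315), P p → P (pg g p)) (p : Fin 315) : P p := by
  have key : ∀ (n : ℕ) (hn : n < 315), P (pt ⟨n, hn⟩) := by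
    intro n
    induction n using Nat.strong_induction_on with
    | _ n ih =>
      intro hn
      rcases n with - | n
      · exact pt_zero.symm ▸ h0
      · obtain ⟨g, m, hm, e⟩ := pt_succ hn
        rw [e]
        exact hs g _ (ih m (by omega) m.2)
  have h := key (pos p) (pos p).2
  rwa [Fin.eta, pt_pos] at h

theorem sRef_zero_inj {k : Fin 315} (h : sRef 0 = sRef k) : k = 0 := by
  by_contra hk
  obtain ⟨m, hm⟩ := Nat.exists_eq_succ_of_ne_zero (fun e => hk (Fin.ext e))
  have hc := first_separated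
  simp only [Bool.and_eq_true] at hc
  have h2 := all_range hc.2 (show m < 314 by omega)
  have e1 := toV_reflV (lineVec_spec k).1 (lineVec_spec 0).1
  have e2 := toV_reflV (lineVec_spec 0).1 (lineVec_spec 0).1
  have h' := congrArg (fun f : Equiv.Perm Spor.icoLeech => ((f (rVec 0).1 : Spor.icoLeech) : QV)) h
  change Spor.qrefl (toV (lineVec (0 : Fin 315))) (toV (lineVec (0 : Fin 315))) =
    Spor.qrefl (toV (lineVec k)) (toV (lineVec (0 : Fin 315))) at h'
  rw [← e1, ← e2] at h'
  have e3 : reflV (lineVec k) (lineVec 0) = negFirst :=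
    (toV_injective h').symm.trans (Vec.beq_iff.mp hc.1)
  have e4 : Vec.beq (reflV (lineVec (m + 1)) (lineVec 0)) negFirst = true := by
    rw [show m + 1 = (k : ℕ) from hm.symm, Vec.beq_iff]
    exact e3
  rw [e4] at h2
  simp at h2

theorem sRef_injective : Function.Injective sRef := by
  intro i
  induction i using point_induction with
  | h0 => intro j h; exact (sRef_zero_inj h).symm
  | hs g p ih =>
    intro j h
    have h1 := congrArg (fun f => sRef (genIdx g) * f * (sRef (genIdx g))⁻¹) h
    simp only [conj_gen, pg_invol] at h1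
    rw [ih h1, pg_invol]

theorem exists_act (g : Spor.twoJ2) (i : Fin 315) :
    ∃ j, (g : Equiv.Perm Spor.icoLeech) * sRef i * (g : Equiv.Perm Spor.icoLeech)⁻¹ = sRef j := by
  obtain ⟨j, hj⟩ := exists_index (moveVec (isIso_of_mem g.2) (rVec i))
  exact ⟨j, (conj_refl (isIso_of_mem g.2) (rVec i)).trans hj⟩

/-- The index action. -/
noncomputable def actFun (g : Spor.twoJ2) (i : Fin 315) : Fin 315 := (exists_act g i).choose

theorem actFun_spec (g : Spor.twoJ2) (i : Fin 315) :
    (g : Equiv.Perm Spor.icoLeech) * sRef i * (g : Equiv.Perm Spor.icoLeech)⁻¹ =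
      sRef (actFun g i) :=
  (exists_act g i).choose_spec

theorem actFun_one (i : Fin 315) : actFun 1 i = i := by
  apply sRef_injective
  rw [← actFun_spec]
  simp

theorem actFun_mul (g h : Spor.twoJ2) (i : Fin 315) : actFun (g * h) i = actFun g (actFun h i) := by
  apply sRef_injective
  rw [← actFun_spec, ← actFun_spec, ← actFun_spec]
  push_cast
  group

/-- The permutation representation on the 315 reflections. -/
noncomputable def rep : Spor.twoJ2 →* Equiv.Perm (Fin 315) where
  toFun g := ⟨actFun g, actFun g⁻¹, fun i => by rw [← actFun_mul, inv_mul_cancel, actFun_one],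
    fun i => by rw [← actFun_mul, mul_inv_cancel, actFun_one]⟩
  map_one' := Equiv.ext actFun_one
  map_mul' g h := Equiv.ext (actFun_mul g h)

theorem rep_spec (g : Spor.twoJ2) (i : Fin 315) : g * sG i * g⁻¹ = sG (rep g i) :=
  Subtype.ext (actFun_spec g i)

theorem sG_injective : Function.Injective sG := fun _ _ h => sRef_injective (congrArg Subtype.val h)

theorem rep_sG_gen (g : Fin 4) (j : Fin 315) : rep (sG (genIdx g)) j = pg g j :=
  sRef_injective ((congrArg Subtype.val (rep_spec (sG (genIdx g)) j)).symm.trans (conj_gen g j))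

theorem closure_gens : Subgroup.closure (Set.range fun g : Fin 4 => sG (genIdx g)) = ⊤ := by
  set C := Subgroup.closure (Set.range fun g : Fin 4 => sG (genIdx g)) with hC
  have hgen : ∀ g, sG (genIdx g) ∈ C := fun g => Subgroup.subset_closure ⟨g, rfl⟩
  have hall : ∀ i, sG i ∈ C := by
    intro i
    induction i using point_induction with
    | h0 => rw [← genIdx_zero]; exact hgen 0
    | hs g p ih =>
      rw [← rep_sG_gen, ← rep_spec]
      exact C.mul_mem (C.mul_mem (hgen g) ih) (C.inv_mem (hgen g))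
  refine eq_top_iff.mpr fun x _ => ?_
  have hx := x.2
  have key : Spor.twoJ2 ≤ C.map (Subgroup.subtype Spor.twoJ2) := by
    refine (Subgroup.closure_le _).mpr fun f hf => ?_
    obtain ⟨r, rfl⟩ := isIcoReflection_iff.mp hf
    obtain ⟨i, hi⟩ := exists_index r
    rw [hi]
    exact ⟨sG i, hall i, rfl⟩
  obtain ⟨y, hy, e⟩ := key hx
  rwa [Subtype.ext e] at hy

theorem mem_center_of_fix_gens {z : Spor.twoJ2} (h : ∀ g, rep z (genIdx g) = genIdx g) :
    z ∈ Subgroup.center Spor.twoJ2 := by
  rw [Subgroup.mem_center_iff]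
  intro x
  have hx : x ∈ Subgroup.centralizer ({z} : Set Spor.twoJ2) := by
    refine (Subgroup.closure_le _).mpr ?_ (closure_gens.symm ▸ Subgroup.mem_top x)
    rintro _ ⟨g, rfl⟩
    have e := rep_spec z (genIdx g)
    rw [h g, mul_inv_eq_iff_eq_mul] at e
    rw [SetLike.mem_coe, Subgroup.mem_centralizer_iff]
    rintro _ rfl
    exact e
  exact ((Subgroup.mem_centralizer_iff.mp hx) z rfl).symm

theorem rep_eq_of_agree {x y : Spor.twoJ2}
    (h : ∀ g, rep x (genIdx g) = rep y (genIdx g)) : rep x = rep y := by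
  have hc : y⁻¹ * x ∈ Subgroup.center Spor.twoJ2 := mem_center_of_fix_gens fun g => by
    rw [map_mul, Equiv.Perm.mul_apply, h g, ← Equiv.Perm.mul_apply, ← map_mul, inv_mul_cancel,
      map_one, Equiv.Perm.one_apply]
  refine Equiv.ext fun i => sG_injective ?_
  rw [← rep_spec, ← rep_spec]
  have e : x = y * (y⁻¹ * x) := (mul_inv_cancel_left y x).symm
  have hc' := Subgroup.mem_center_iff.mp hc (sG i)
  calc x * sG i * x⁻¹ = y * ((y⁻¹ * x) * sG i * (y⁻¹ * x)⁻¹) * y⁻¹ := by group
    _ = y * sG i * y⁻¹ := by rw [← hc', mul_inv_cancel_right]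

theorem rep_ker : rep.ker = Subgroup.center Spor.twoJ2 := by
  ext z
  rw [MonoidHom.mem_ker]
  constructor
  · exact fun h => mem_center_of_fix_gens fun g => by rw [h]; rfl
  · intro h
    refine Equiv.ext fun i => sG_injective ?_
    rw [← rep_spec, ← Subgroup.mem_center_iff.mp h, mul_inv_cancel_right]
    rfl

/-- The Hall–Janko group is the image of the permutation representation. -/
noncomputable def j2Equiv : Spor.J2 ≃* rep.range :=
  (QuotientGroup.quotientMulEquivOfEq rep_ker.symm).trans (QuotientGroup.quotientKerEquivRange rep)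

end Cfsg.Lib.J2
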