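import Cfsg.Agent.Lib.J2.DataPoint
import Cfsg.Agent.Lib.U33.Borel

/-!
# The point stabiliser on one hundred points is `U3(3)`
-/

set_option autoImplicit false
set_option linter.unusedSimpArgs false
set_option linter.style.longLine false
set_option linter.unusedSectionVars false
set_option maxRecDepth 4000

open Matrix

namespace Cfsg.Lib.J2.Pt

/-- The field with nine elements. -/
structure Nine where
  /-- the real part -/
  re : ZMod 3
  /-- the imaginary part -/
  im : ZMod 3
deriving DecidableEq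

/-- Nine as pairs. -/
def nineEquiv : ZMod 3 × ZMod 3 ≃ Nine := ⟨fun p => ⟨p.1, p.2⟩, fun x => (x.re, x.im), fun _ => rfl, fun _ => rfl⟩

instance : Fintype Nine := Fintype.ofEquiv _ nineEquiv
instance : Zero Nine := ⟨⟨0, 0⟩⟩
instance : One Nine := ⟨⟨1, 0⟩⟩
instance : Add Nine := ⟨fun a b => ⟨a.re + b.re, a.im + b.im⟩⟩
instance : Neg Nine := ⟨fun a => ⟨-a.re, -a.im⟩⟩
instance : Mul Nine := ⟨fun a b => ⟨a.re * b.re - a.im * b.im, a.re * b.im + a.im * b.re⟩⟩
instance : Inv Nine := ⟨fun a => ⟨a.re * (a.re * a.re + a.im * a.im), -a.im * (a.re * a.re + a.im * a.im)⟩⟩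

instance : CommRing Nine where
  add_assoc := by decide +kernel
  zero_add := by decide +kernel
  add_zero := by decide +kernel
  add_comm := by decide +kernel
  neg_add_cancel := by decide +kernel
  mul_assoc := by decide +kernel
  one_mul := by decide +kernel
  mul_one := by decide +kernel
  mul_comm := by decide +kernel
  left_distrib := by decide +kernel
  right_distrib := by decide +kernel
  zero_mul := by decide +kernel
  mul_zero := by decide +kernel
  nsmul := nsmulRec
  zsmul := zsmulRec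

instance : Field Nine where
  exists_pair_ne := ⟨0, 1, by decide⟩
  mul_inv_cancel := by decide +kernel
  inv_zero := by decide +kernel
  nnqsmul := _
  qsmul := _

theorem card_nine : Fintype.card Nine = 9 := by decide +kernel

/-- An element from its code. -/
def nineOf (c : ℕ) : Nine := ⟨(c : ZMod 3), ((c / 3 : ℕ) : ZMod 3)⟩

/-- The three entries of a code. -/
def vecOf (c : ℕ) (k : Fin 3) : Nine := nineOf (c / 9 ^ (k : ℕ) % 9)

/-- The matrix of a code. -/
def matOf (g : Fin 2) : Matrix (Fin 3) (Fin 3) Nine :=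
  Matrix.of fun i j => nineOf (matCode g / 9 ^ (3 * (i : ℕ) + (j : ℕ)) % 9)

/-- The representative vectors. -/
def ptVec (i : Fin 63) : Fin 3 → Nine := vecOf ((Nat.shiftRight vecTab (10 * (i : ℕ))) % 1024)

/-- An entry of a packed table. -/
def entry (b T i : ℕ) : ℕ := Nat.shiftRight T (b * i) % 2 ^ b

/-- The image of a point under a word. -/
def wimg (w : List (Fin 4)) (x : ℕ) : ℕ := w.foldr (fun g y => tget 0 hundredImgTab (100 * (g : ℕ) + y)) x

/-! ### Checks -/

theorem mats_ok : ∀ g, (matOf g).det = 1 ∧ ∀ i j, (∑ k, matOf g k i * (matOf g k j * matOf g k j * matOf g k j)) = if i = j then 1 else 0 := by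
  simp only [Matrix.det_fin_three, Fin.sum_univ_three]
  decide +kernel

theorem pts_ne : ∀ i, ptVec i ≠ 0 := by decide +kernel

theorem pts_sep : ∀ (i j : Fin 63) (c : Nine),
    (∀ k, ptVec i k = c * ptVec j k) → i = j := by decide +kernel

theorem mats_act : ∀ g i, ∃ c : Nine, c ≠ 0 ∧ ∃ h : entry 6 (bigPi g) (i : Fin 63) < 63, ∀ k,
    matOf g k 0 * ptVec i 0 + matOf g k 1 * ptVec i 1 + matOf g k 2 * ptVec i 2 = c * ptVec ⟨_, h⟩ k := by
  decide +kernel

theorem big_ok : (∀ i : Fin 63, entry 7 bigTab i < 100) ∧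
    (∀ i j : Fin 63, entry 7 bigTab i = entry 7 bigTab j → i = j) ∧
    (∀ g, ∀ i j : Fin 63, entry 6 (bigPi g) i = entry 6 (bigPi g) j → i = j) ∧
    ∀ g, ∀ i : Fin 63, entry 6 (bigPi g) i < 63 ∧
      wimg (word g) (entry 7 bigTab i) = entry 7 bigTab (entry 6 (bigPi g) i) := by decide +kernel

theorem small_ok : (∀ i : Fin 36, entry 7 smallTab i < 100) ∧
    (∀ i j : Fin 36, entry 7 smallTab i = entry 7 smallTab j → i = j) ∧
    (∀ g, ∀ i j : Fin 36, entry 6 (smallPi g) i = entry 6 (smallPi g) j → i = j) ∧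
    ∀ g, ∀ i : Fin 36, entry 6 (smallPi g) i < 36 ∧
      wimg (word g) (entry 7 smallTab i) = entry 7 smallTab (entry 6 (smallPi g) i) := by decide +kernel

theorem fix_ok : ∀ g, wimg (word g) 0 = 0 := by decide +kernel

/-! ### Reached sets -/

/-- One breadth-first step on masks. -/
def grow (N : ℕ) (fs : List (ℕ → ℕ)) (m : ℕ) : ℕ :=
  (List.range N).foldl (fun r c =>
    if Nat.testBit m c then fs.foldl (fun r f => Nat.lor r (2 ^ f c)) r else r) m

/-- Several steps. -/
def reach (N : ℕ) (fs : List (ℕ → ℕ)) : ℕ → ℕ → ℕ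
  | 0, m => m
  | k + 1, m => reach N fs k (grow N fs m)

theorem grow_sound {N : ℕ} {fs : List (ℕ → ℕ)} {P : ℕ → Prop} (hP : ∀ c < N, P c → ∀ f ∈ fs, P (f c))
    {m : ℕ} (hm : ∀ c, m.testBit c = true → P c) : ∀ c, (grow N fs m).testBit c = true → P c := by
  unfold grow
  have key : ∀ (l : List ℕ) (r : ℕ), (∀ c ∈ l, c < N) → (∀ c, r.testBit c = true → P c) →
      ∀ c, (l.foldl (fun r c => if Nat.testBit m c then fs.foldl (fun r f => Nat.lor r (2 ^ f c)) r else r)
        r).testBit c = true → P c := by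
    intro l
    induction l with
    | nil => intro r _ hr; exact hr
    | cons a l ih =>
      intro r hl hr
      rw [List.foldl_cons]
      refine ih _ (fun c hc => hl c (List.mem_cons_of_mem _ hc)) ?_
      split
      · rename_i ha
        have hPa := hm a ha
        have h2 : ∀ (gs : List (ℕ → ℕ)) (r : ℕ), (∀ f ∈ gs, f ∈ fs) → (∀ c, r.testBit c = true → P c) →
            ∀ c, (gs.foldl (fun r f => Nat.lor r (2 ^ f a)) r).testBit c = true → P c := by
          intro gs
          induction gs with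
          | nil => intro r _ hr; exact hr
          | cons f gs ihg =>
            intro r hgs hr
            rw [List.foldl_cons]
            refine ihg _ (fun x hx => hgs x (List.mem_cons_of_mem _ hx)) fun c hc => ?_
            rw [show Nat.lor r (2 ^ f a) = r ||| 2 ^ f a from rfl, Nat.testBit_or, Bool.or_eq_true,
              Nat.testBit_two_pow, decide_eq_true_iff] at hc
            rcases hc with hc | rfl
            · exact hr c hc
            · exact hP a (hl a List.mem_cons_self) hPa f (hgs f List.mem_cons_self)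
        exact h2 fs r (fun _ h => h) hr
      · exact hr
  exact key (List.range N) m (fun c hc => List.mem_range.mp hc) hm

theorem reach_sound {N : ℕ} {fs : List (ℕ → ℕ)} {P : ℕ → Prop} (hP : ∀ c < N, P c → ∀ f ∈ fs, P (f c)) :
    ∀ (k m : ℕ), (∀ c, m.testBit c = true → P c) → ∀ c, (reach N fs k m).testBit c = true → P c := by
  intro k
  induction k with
  | zero => intro m hm; exact hm
  | succ k ih => intro m hm; exact ih _ (grow_sound hP hm)

/-- The generators on pairs of letters. -/
def pairFun (g : Fin 2) (c : ℕ) : ℕ := 63 * entry 6 (bigPi g) (c / 63) + entry 6 (bigPi g) (c % 63)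

/-- The orbit of a pair. -/
def pairMask : ℕ := reach 3969 [pairFun 0, pairFun 1] 30 (2 ^ 26)

theorem pair_count : 2016 ≤ ((List.range 3969).filter fun c => Nat.testBit pairMask c).length := by
  decide +kernel

theorem big_reach : ∀ i : Fin 63,
    Nat.testBit (reach 63 [entry 6 (bigPi 0), entry 6 (bigPi 1)] 30 1) i = true := by decide +kernel

theorem small_reach : ∀ i : Fin 36,
    Nat.testBit (reach 36 [entry 6 (smallPi 0), entry 6 (smallPi 1)] 30 1) i = true := by decide +kernel

theorem hundred_reach : ∀ i : Fin 100,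
    Nat.testBit (reach 100 ((List.range 4).map fun g c => tget 0 hundredImgTab (100 * g + c)) 30 1) i = true := by
  decide +kernel

/-! ### Restricting an action to a block -/

section Restrict

variable {G X : Type*} [Group G] {N : ℕ} (φ : G →* Equiv.Perm X) (ω : Fin N → X)
  (k : Fin 2 → G) (π : Fin 2 → Equiv.Perm (Fin N))

theorem exists_restrict (hω : Function.Injective ω) (h : ∀ g i, φ (k g) (ω i) = ω (π g i)) :
    ∃ θ : Subgroup.closure (Set.range k) →* Equiv.Perm (Fin N),
      (∀ g, θ ⟨k g, Subgroup.subset_closure ⟨g, rfl⟩⟩ = π g) ∧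
      (∀ (f : Subgroup.closure (Set.range k)) i, φ f (ω i) = ω (θ f i)) ∧
      θ.range = Subgroup.closure (Set.range π) := by
  have hex : ∀ f : Subgroup.closure (Set.range k), ∃ p : Equiv.Perm (Fin N), ∀ i, φ f (ω i) = ω (p i) := by
    rintro ⟨f, hf⟩
    show ∃ p : Equiv.Perm (Fin N), ∀ i, φ f (ω i) = ω (p i)
    induction hf using Subgroup.closure_induction with
    | mem x hx => obtain ⟨g, rfl⟩ := hx; exact ⟨π g, h g⟩
    | one => exact ⟨1, fun i => by simp⟩
    | mul x y _ _ hx hy =>
      obtain ⟨p, hp⟩ := hx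
      obtain ⟨q, hq⟩ := hy
      exact ⟨p * q, fun i => by rw [map_mul, Equiv.Perm.mul_apply, hq, hp]; rfl⟩
    | inv x _ hx =>
      obtain ⟨p, hp⟩ := hx
      refine ⟨p⁻¹, fun i => ?_⟩
      apply (φ x).injective
      rw [hp, ← Equiv.Perm.mul_apply, ← map_mul, mul_inv_cancel, map_one, ← Equiv.Perm.mul_apply p,
        mul_inv_cancel]
      rfl
  choose p hp using hex
  have uniq : ∀ (f : Subgroup.closure (Set.range k)) (q : Equiv.Perm (Fin N)),
      (∀ i, φ f (ω i) = ω (q i)) → p f = q :=
    fun f q hq => Equiv.ext fun i => hω ((hp f i).symm.trans (hq i))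
  let θ : Subgroup.closure (Set.range k) →* Equiv.Perm (Fin N) :=
    MonoidHom.mk' p fun f f' => uniq _ _ fun i => by
      rw [Subgroup.coe_mul, map_mul, Equiv.Perm.mul_apply, hp, hp]; rfl
  refine ⟨θ, fun g => uniq _ _ (h g), hp, ?_⟩
  rw [MonoidHom.range_eq_map, ← Subgroup.closure_closure_coe_preimage, MonoidHom.map_closure]
  congr 1
  ext q
  constructor
  · rintro ⟨⟨x, hx'⟩, ⟨g, hg⟩, rfl⟩
    subst hg
    exact ⟨g, (uniq _ _ (h g)).symm⟩
  · rintro ⟨g, rfl⟩
    exact ⟨⟨k g, Subgroup.subset_closure ⟨g, rfl⟩⟩, ⟨g, rfl⟩, uniq _ _ (h g)⟩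

end Restrict

/-! ### The unitary side -/

/-- The permutations of the sixty-three letters. -/
noncomputable def bigPerm (g : Fin 2) : Equiv.Perm (Fin 63) :=
  Equiv.ofBijective (fun i => ⟨entry 6 (bigPi g) i, (big_ok.2.2.2 g i).1⟩)
    (Finite.injective_iff_bijective.mp fun i j h => big_ok.2.2.1 g i j (congrArg Fin.val h))

/-- The permutations of the thirty-six letters. -/
noncomputable def smallPerm (g : Fin 2) : Equiv.Perm (Fin 36) :=
  Equiv.ofBijective (fun i => ⟨entry 6 (smallPi g) i, (small_ok.2.2.2 g i).1⟩)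
    (Finite.injective_iff_bijective.mp fun i j h => small_ok.2.2.1 g i j (congrArg Fin.val h))

theorem form_preserved {F : Type*} [Field F] [CharP F 3] (A : Matrix (Fin 3) (Fin 3) F)
    (h : ∀ i j, (∑ k, A k i * A k j ^ 3) = if i = j then 1 else 0) (u v : Fin 3 → F) :
    Cfsg.hermForm 3 F 3 (A *ᵥ u) (A *ᵥ v) = Cfsg.hermForm 3 F 3 u v := by
  simp only [Cfsg.hermForm, Matrix.mulVec, dotProduct]
  simp only [sum_pow_char (p := 3), mul_pow, Finset.sum_mul_sum]
  rw [Finset.sum_comm]
  refine Finset.sum_congr rfl fun i _ => ?_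
  rw [Finset.sum_comm]
  have e : ∀ j, (∑ k, A k i * u i * (A k j ^ 3 * v j ^ 3)) = u i * v j ^ 3 * if i = j then 1 else 0 := fun j => by
    rw [← h i j, Finset.mul_sum]
    exact Finset.sum_congr rfl fun k _ => by ring
  simp only [e]
  simp

/-- The unitary generators. -/
noncomputable def suGen (g : Fin 2) : Cfsg.SU 3 Nine 3 :=
  haveI : CharP Nine 3 := (CharP.charP_iff_prime_eq_zero Nat.prime_three).mpr (by decide +kernel)
  ⟨⟨matOf g, (mats_ok g).1⟩, fun u v =>
    form_preserved (matOf g) (fun i j => by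
      rw [← (mats_ok g).2 i j]
      exact Finset.sum_congr rfl fun k _ => by ring) u v⟩

/-- The action on sets of vectors. -/
noncomputable def setAct : Cfsg.SU 3 Nine 3 →* Equiv.Perm (Set (Fin 3 → Nine)) where
  toFun g := Equiv.Set.congr (Matrix.SpecialLinearGroup.toLin' g.1).toEquiv
  map_one' := by
    ext S x
    simp [Equiv.Set.congr]
  map_mul' g h := by
    ext S x
    simp [Equiv.Set.congr, Set.image_image]

/-- The line of a letter. -/
def line (i : Fin 63) : Set (Fin 3 → Nine) := {w | ∃ c : Nine, w = c • ptVec i}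

theorem line_injective : Function.Injective line := fun i j h => by
  obtain ⟨c, hc⟩ : ptVec i ∈ line j := h ▸ ⟨1, (one_smul _ _).symm⟩
  exact pts_sep i j c fun k => congrFun hc k

theorem setAct_gen (g : Fin 2) (i : Fin 63) : setAct (suGen g) (line i) = line (bigPerm g i) := by
  obtain ⟨c, hc, hlt, h⟩ := mats_act g i
  have hv : Matrix.SpecialLinearGroup.toLin' (suGen g).1 (ptVec i) = c • ptVec (bigPerm g i) := funext fun k => by
    show (matOf g *ᵥ ptVec i) k = c * ptVec ⟨_, hlt⟩ k
    rw [← h k, Matrix.mulVec, dotProduct, Fin.sum_univ_three]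
  ext w
  simp only [setAct, Equiv.Set.congr, MonoidHom.coe_mk, OneHom.coe_mk, Equiv.coe_fn_mk, Set.mem_image, line,
    Set.mem_setOf_eq, LinearEquiv.coe_toEquiv]
  constructor
  · rintro ⟨_, ⟨d, rfl⟩, rfl⟩
    exact ⟨d * c, by rw [map_smul, hv, smul_smul]⟩
  · rintro ⟨d, rfl⟩
    exact ⟨(d * c⁻¹) • ptVec i, ⟨_, rfl⟩, by rw [map_smul, hv, smul_smul, mul_assoc, inv_mul_cancel₀ hc, mul_one]⟩

theorem su_perm : ∃ e : Cfsg.SU 3 Nine 3 ≃* ↥(Subgroup.closure (Set.range bigPerm)), True := by
  haveI := Cfsg.Lib.U33.isSimple_su (F := Nine) card_nine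
  have hex := exists_restrict setAct line suGen bigPerm line_injective setAct_gen
  generalize hM : Subgroup.closure (Set.range suGen) = M
  have hmem : ∀ g, suGen g ∈ M := fun g => hM ▸ Subgroup.subset_closure ⟨g, rfl⟩
  obtain ⟨θ, hθg, hrange⟩ : ∃ θ : M →* Equiv.Perm (Fin 63),
      (∀ g, θ ⟨suGen g, hmem g⟩ = bigPerm g) ∧ θ.range = Subgroup.closure (Set.range bigPerm) := by
    subst hM
    obtain ⟨θ, h1, -, h3⟩ := hex
    exact ⟨θ, h1, h3⟩
  have hcard := Cfsg.Lib.U33.card_su (F := Nine) card_nine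
  haveI : Finite (Cfsg.SU 3 Nine 3) := Nat.finite_of_card_ne_zero (by rw [hcard]; norm_num)
  -- the orbit of a pair gives a lower bound
  set T : Set ℕ := Set.range fun f : M => 63 * (θ f 0 : ℕ) + (θ f 26 : ℕ) with hT
  have hsub : ∀ c, pairMask.testBit c = true → c ∈ T := by
    refine reach_sound (fun c hc hP f hf => ?_) 30 _ fun c hc => ?_
    · obtain ⟨x, rfl⟩ := hP
      obtain ⟨g, rfl⟩ : ∃ g, f = pairFun g := by simp at hf; rcases hf with rfl | rfl <;> exact ⟨_, rfl⟩
      refine ⟨⟨suGen g, hmem g⟩ * x, ?_⟩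
      have hb := (θ x 26).2
      simp only [pairFun]
      rw [map_mul, hθg g, Equiv.Perm.mul_apply, Equiv.Perm.mul_apply, show (63 * (θ x 0 : ℕ) + (θ x 26 : ℕ)) / 63 = (θ x 0 : ℕ) by omega,
        show (63 * (θ x 0 : ℕ) + (θ x 26 : ℕ)) % 63 = (θ x 26 : ℕ) by omega]
      rfl
    · rw [Nat.testBit_two_pow, decide_eq_true_iff] at hc
      exact ⟨1, by simp [← hc]⟩
  have hMcard : 2016 ≤ Nat.card M := by
    refine pair_count.trans ?_
    rw [← List.toFinset_card_of_nodup (List.nodup_range.filter _), ← Nat.card_eq_finsetCard]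
    have hTf : T.Finite := Set.finite_range _
    haveI := hTf.to_subtype
    refine le_trans ?_ (Finite.card_range_le (fun f : M => 63 * (θ f 0 : ℕ) + (θ f 26 : ℕ)))
    exact Nat.card_le_card_of_injective
      (fun c => (⟨c.1, hsub _ (List.mem_filter.mp (List.mem_toFinset.mp c.2)).2⟩ : T))
      fun a b h => Subtype.ext (congrArg (fun t : T => (t : ℕ)) h)
  have hTop : M = ⊤ := by
    rcases IsSimpleGroup.eq_bot_or_eq_top_of_normal M.normalCore inferInstance with h | h
    · exfalso
      have hd : M.normalCore.index ∣ M.index.factorial := by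
        rw [Subgroup.normalCore_eq_ker, Subgroup.index_ker, Subgroup.index_eq_card, ← Nat.card_perm]
        exact Subgroup.card_subgroup_dvd_card _
      rw [h, Subgroup.index_bot, hcard] at hd
      have hi := M.card_mul_index
      rw [hcard] at hi
      have hi3 : M.index ≤ 3 := by nlinarith
      have := Nat.le_of_dvd (Nat.factorial_pos _) hd
      have : M.index.factorial ≤ Nat.factorial 3 := Nat.factorial_le hi3
      simp [Nat.factorial] at this
      omega
    · exact top_le_iff.mp (h ▸ M.normalCore_le)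
  let e : Cfsg.SU 3 Nine 3 ≃* M := (MulEquiv.subgroupCongr hTop |>.trans Subgroup.topEquiv).symm
  let φ := θ.comp e.toMonoidHom
  have hφ : ∀ x, φ x = θ (e x) := fun _ => rfl
  have hinj : Function.Injective φ := by
    rcases IsSimpleGroup.eq_bot_or_eq_top_of_normal φ.ker inferInstance with h | h
    · exact (MonoidHom.ker_eq_bot_iff φ).mp h
    · exfalso
      have h1 : φ (suGen 0) = 1 := MonoidHom.mem_ker.mp (h ▸ Subgroup.mem_top _)
      have h2 : φ (suGen 0) = bigPerm 0 := (hφ _).trans ((congrArg θ (Subtype.ext rfl)).trans (hθg 0))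
      have h3 := congrArg (fun p : Equiv.Perm (Fin 63) => (p 0 : ℕ)) (h1.symm.trans h2)
      revert h3
      show (0 : ℕ) = entry 6 (bigPi 0) 0 → False
      decide +kernel
  refine ⟨(MonoidHom.ofInjective hinj).trans (MulEquiv.subgroupCongr ?_), trivial⟩
  rw [← hrange]
  ext p
  exact ⟨fun ⟨x, hx⟩ => ⟨e x, (hφ x).symm.trans hx⟩, fun ⟨x, hx⟩ => ⟨e.symm x, by rw [hφ, e.apply_symm_apply, hx]⟩⟩

/-! ### The stabiliser side -/

/-- The action of the Hall–Janko group on one hundred points. -/
noncomputable def act : Spor.J2 →* Equiv.Perm (Fin 100) := setRep.comp j2Equiv.toMonoidHom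

/-- The product of a word. -/
noncomputable def wordEl (w : List (Fin 4)) : Spor.J2 := (w.map fun g => j2Equiv.symm (gE g)).prod

theorem act_gen (g : Fin 4) (k : Fin 100) : (act (j2Equiv.symm (gE g)) k : ℕ) = tget 0 hundredImgTab (100 * g + k) := by
  obtain ⟨k', hk, hv⟩ := mapsSet_gen g k
  have : act (j2Equiv.symm (gE g)) = setRep (gE g) := by simp [act]
  rw [this, show setRep (gE g) k = k' from mapsSet_unique (setFun_spec (gE g) k) hk, hv]

theorem act_word : ∀ (w : List (Fin 4)) (k : Fin 100), (act (wordEl w) k : ℕ) = wimg w k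
  | [], k => by simp [wordEl, wimg]
  | g :: w, k => by
    rw [show wordEl (g :: w) = j2Equiv.symm (gE g) * wordEl w by simp [wordEl], map_mul, Equiv.Perm.mul_apply,
      act_gen, act_word w k]
    rfl

/-- The stabiliser of a point. -/
noncomputable def ptStab : Subgroup Spor.J2 := (MulAction.stabilizer (Equiv.Perm (Fin 100)) (0 : Fin 100)).comap act

theorem mem_ptStab {f : Spor.J2} : f ∈ ptStab ↔ act f 0 = 0 := Iff.rfl

theorem exists_to_point (i : Fin 100) : ∃ f : Spor.J2, act f 0 = i := by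
  have h := reach_sound (N := 100) (P := fun c => ∃ f : Spor.J2, (act f 0 : ℕ) = c)
    (fs := (List.range 4).map fun g c => tget 0 hundredImgTab (100 * g + c)) (fun c _ hP f hf => by
      obtain ⟨g, hg, rfl⟩ := List.mem_map.mp hf
      obtain ⟨x, rfl⟩ := hP
      exact ⟨j2Equiv.symm (gE ⟨g, List.mem_range.mp hg⟩) * x, by rw [map_mul, Equiv.Perm.mul_apply, act_gen]⟩)
    30 1 (fun c hc => ⟨1, by
      rw [show (1 : ℕ) = 2 ^ 0 from rfl, Nat.testBit_two_pow, decide_eq_true_iff] at hc
      simp [← hc]⟩) i (hundred_reach i)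
  obtain ⟨f, hf⟩ := h
  exact ⟨f, Fin.ext hf⟩

theorem index_ptStab : ptStab.index = 100 := by
  letI : MulAction Spor.J2 (Fin 100) := MulAction.compHom _ act
  have e : ptStab = MulAction.stabilizer Spor.J2 (0 : Fin 100) := rfl
  rw [e, MulAction.index_stabilizer]
  have : MulAction.orbit Spor.J2 (0 : Fin 100) = Set.univ := Set.eq_univ_of_forall exists_to_point
  rw [this]
  simp

theorem card_ptStab : Nat.card ptStab = 6048 := by
  have h := ptStab.card_mul_index
  rw [index_ptStab, card_J2] at h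
  omega

/-- The stabiliser generators. -/
noncomputable def stGen (g : Fin 2) : Spor.J2 := wordEl (word g)

/-- The orbit of length sixty-three. -/
def bigPt (i : Fin 63) : Fin 100 := ⟨entry 7 bigTab i, big_ok.1 i⟩

/-- The orbit of length thirty-six. -/
def smallPt (i : Fin 36) : Fin 100 := ⟨entry 7 smallTab i, small_ok.1 i⟩

theorem act_big (g : Fin 2) (i : Fin 63) : act (stGen g) (bigPt i) = bigPt (bigPerm g i) :=
  Fin.ext ((act_word (word g) (bigPt i)).trans (big_ok.2.2.2 g i).2)

theorem act_small (g : Fin 2) (i : Fin 36) : act (stGen g) (smallPt i) = smallPt (smallPerm g i) :=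
  Fin.ext ((act_word (word g) (smallPt i)).trans (small_ok.2.2.2 g i).2)

theorem bigPt_injective : Function.Injective bigPt := fun i j h => big_ok.2.1 i j (congrArg Fin.val h)

theorem smallPt_injective : Function.Injective smallPt := fun i j h => small_ok.2.1 i j (congrArg Fin.val h)

theorem closure_le_ptStab : Subgroup.closure (Set.range stGen) ≤ ptStab := by
  rw [Subgroup.closure_le]
  rintro _ ⟨g, rfl⟩
  exact Fin.ext ((act_word (word g) 0).trans (fix_ok g))

theorem ptStab_eq_closure : ptStab = Subgroup.closure (Set.range stGen) ∧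
    Nonempty (↥ptStab ≃* Cfsg.SU 3 Nine 3) := by
  obtain ⟨θ, -, -, hr⟩ := exists_restrict act bigPt stGen bigPerm bigPt_injective act_big
  obtain ⟨e, -⟩ := su_perm
  haveI : Finite Spor.J2 := Nat.finite_of_card_ne_zero (by rw [card_J2]; norm_num)
  have hA : Nat.card θ.range = 6048 := by
    rw [hr, ← Nat.card_congr e.toEquiv, Cfsg.Lib.U33.card_su (F := Nine) card_nine]
  have hK1 : 6048 ≤ Nat.card (Subgroup.closure (Set.range stGen)) :=
    hA ▸ Nat.le_of_dvd Nat.card_pos (Subgroup.card_range_dvd θ)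
  have hEq : Subgroup.closure (Set.range stGen) = ptStab :=
    Subgroup.eq_of_le_of_card_ge closure_le_ptStab (by rw [card_ptStab]; exact hK1)
  have hbij : Function.Bijective θ.rangeRestrict :=
    (Nat.bijective_iff_surjective_and_card _).mpr ⟨θ.rangeRestrict_surjective, by
      rw [hA, hEq, card_ptStab]⟩
  exact ⟨hEq.symm, ⟨(MulEquiv.subgroupCongr hEq.symm).trans ((MulEquiv.ofBijective _ hbij).trans
    ((MulEquiv.subgroupCongr hr).trans e.symm))⟩⟩

theorem nonempty_psu : Nonempty (↥ptStab ≃* Cfsg.PSU 3 Nine 3) := by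
  obtain ⟨e⟩ := ptStab_eq_closure.2
  exact ⟨e.trans ((QuotientGroup.quotientBot (G := Cfsg.SU 3 Nine 3)).symm.trans
    (QuotientGroup.quotientMulEquivOfEq (Cfsg.Lib.U33.center_su (F := Nine) card_nine).symm))⟩

theorem orbit_card {N : ℕ} [NeZero N] (pt : Fin N → Fin 100) (π : Fin 2 → Equiv.Perm (Fin N)) (tab : Fin 2 → ℕ)
    (hpt : Function.Injective pt) (hact : ∀ g i, act (stGen g) (pt i) = pt (π g i))
    (hπ : ∀ g i, (π g i : ℕ) = entry 6 (tab g) i)
    (hreach : ∀ i : Fin N, Nat.testBit (reach N [entry 6 (tab 0), entry 6 (tab 1)] 30 1) i = true) :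
    ∃ c : Spor.J2 ⧸ ptStab, (MulAction.orbit (↥ptStab) c).ncard = N := by
  obtain ⟨θ, hθg, hθ, -⟩ := exists_restrict act pt stGen π hpt hact
  obtain ⟨f₀, hf₀⟩ := exists_to_point (pt 0)
  refine ⟨QuotientGroup.mk f₀, ?_⟩
  letI : MulAction Spor.J2 (Fin 100) := MulAction.compHom _ act
  let F : Spor.J2 ⧸ ptStab → Fin 100 := MulAction.ofQuotientStabilizer Spor.J2 (0 : Fin 100)
  have hF : Function.Injective F := MulAction.injective_ofQuotientStabilizer Spor.J2 (0 : Fin 100)
  have himg : F '' MulAction.orbit (↥ptStab) (QuotientGroup.mk f₀ : Spor.J2 ⧸ ptStab) = Set.range pt := by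
    ext p
    constructor
    · rintro ⟨_, ⟨h, rfl⟩, rfl⟩
      have hh : (h : Spor.J2) ∈ Subgroup.closure (Set.range stGen) := ptStab_eq_closure.1 ▸ h.2
      refine ⟨θ ⟨h, hh⟩ 0, ?_⟩
      show _ = act ((h : Spor.J2) * f₀) 0
      rw [map_mul, Equiv.Perm.mul_apply, hf₀]
      exact (hθ ⟨h, hh⟩ 0).symm
    · rintro ⟨i, rfl⟩
      obtain ⟨x, hx⟩ := reach_sound (N := N)
        (P := fun c => ∃ x : Subgroup.closure (Set.range stGen), (θ x 0 : ℕ) = c)
        (fs := [entry 6 (tab 0), entry 6 (tab 1)]) (fun c _ hP f hf => by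
          obtain ⟨x, rfl⟩ := hP
          obtain ⟨g, rfl⟩ : ∃ g, f = entry 6 (tab g) := by simp at hf; rcases hf with rfl | rfl <;> exact ⟨_, rfl⟩
          exact ⟨⟨stGen g, Subgroup.subset_closure ⟨g, rfl⟩⟩ * x,
            by rw [map_mul, Equiv.Perm.mul_apply, hθg, hπ]⟩)
        30 1 (fun c hc => ⟨1, by
          rw [show (1 : ℕ) = 2 ^ 0 from rfl, Nat.testBit_two_pow, decide_eq_true_iff] at hc
          simp [← hc]⟩) i (hreach i)
      have hxm : (x : Spor.J2) ∈ ptStab := closure_le_ptStab x.2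
      refine ⟨_, ⟨⟨x, hxm⟩, rfl⟩, ?_⟩
      show act ((x : Spor.J2) * f₀) 0 = pt i
      rw [map_mul, Equiv.Perm.mul_apply, hf₀, hθ x 0]
      exact congrArg pt (Fin.ext hx)
  rw [← Set.ncard_image_of_injective _ hF, himg, Set.ncard_range_of_injective hpt, Nat.card_fin]

theorem orbit_small : ∃ c : Spor.J2 ⧸ ptStab, (MulAction.orbit (↥ptStab) c).ncard = 36 :=
  orbit_card smallPt smallPerm smallPi smallPt_injective act_small (fun _ _ => rfl) small_reach

theorem orbit_big : ∃ c : Spor.J2 ⧸ ptStab, (MulAction.orbit (↥ptStab) c).ncard = 63 :=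
  orbit_card bigPt bigPerm bigPi bigPt_injective act_big (fun _ _ => rfl) big_reach

end Cfsg.Lib.J2.Pt
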