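import Cfsg.Agent.Lib.J2.Classify

/-!
# Reflections of the icosian lattice and the isometries they generate
-/

set_option autoImplicit false
set_option linter.unusedSimpArgs false

open Quaternion

namespace Cfsg.Lib.J2

open Ico

/-- A vector of three quaternions. -/
abbrev QV := Fin 3 → ℍ[ℝ]

theorem qip_add_left (x y w : QV) : Spor.qip (x + y) w = Spor.qip x w + Spor.qip y w := by
  simp [Spor.qip, add_mul, Finset.sum_add_distrib]

theorem qip_add_right (x y w : QV) : Spor.qip w (x + y) = Spor.qip w x + Spor.qip w y := by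
  simp [Spor.qip, mul_add, Finset.sum_add_distrib]

theorem qip_smul_left (a : ℍ[ℝ]) (x w : QV) :
    Spor.qip (fun t => a * x t) w = a * Spor.qip x w := by
  simp [Spor.qip, Finset.mul_sum, mul_assoc]

theorem qip_smul_right (a : ℍ[ℝ]) (x w : QV) :
    Spor.qip w (fun t => a * x t) = Spor.qip w x * star a := by
  simp [Spor.qip, Finset.sum_mul, mul_assoc]

theorem star_qip (x y : QV) : star (Spor.qip x y) = Spor.qip y x := by
  simp [Spor.qip]

theorem four_eq : (4 : ℍ[ℝ]) = (4 : ℝ) • (1 : ℍ[ℝ]) := by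
  rw [← Algebra.algebraMap_eq_smul_one, map_ofNat]

theorem qrefl_eq (r x : QV) :
    Spor.qrefl r x = x + fun t => (-((1 / 2 : ℝ) • Spor.qip x r)) * r t := by
  funext t
  simp [Spor.qrefl, sub_eq_add_neg, neg_mul]

theorem qip_self_refl {r : QV} (hr : Spor.qip r r = 4) : Spor.qrefl r r = -r := by
  funext t
  simp only [Spor.qrefl, hr, four_eq, smul_smul, smul_mul_assoc, one_mul, Pi.neg_apply]
  module

theorem qrefl_comb {r x y z : QV} {a : ℍ[ℝ]} (h : z = (fun t => a * x t) + y) :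
    Spor.qrefl r z = (fun t => a * Spor.qrefl r x t) + Spor.qrefl r y := by
  funext t
  subst h
  simp only [Spor.qrefl, qip_add_left, qip_smul_left, Pi.add_apply, smul_add, add_mul, mul_sub,
    smul_mul_assoc, mul_smul_comm, mul_assoc]
  abel

theorem qip_qrefl {r : QV} (hr : Spor.qip r r = 4) (x y : QV) :
    Spor.qip (Spor.qrefl r x) (Spor.qrefl r y) = Spor.qip x y := by
  rw [qrefl_eq, qrefl_eq, qip_add_left, qip_add_right, qip_add_right, qip_smul_left,
    qip_smul_left, qip_smul_right, qip_smul_right, hr, star_neg, Quaternion.star_smul, star_qip,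
    four_eq]
  simp only [smul_mul_assoc, mul_smul_comm, neg_mul, mul_neg, smul_neg, one_mul, mul_one,
    smul_smul, mul_assoc]
  module

theorem qrefl_qrefl {r : QV} (hr : Spor.qip r r = 4) (x : QV) :
    Spor.qrefl r (Spor.qrefl r x) = x := by
  funext t
  rw [qrefl_eq r x, qrefl_eq r, qip_add_left, qip_smul_left, hr, four_eq]
  simp only [Pi.add_apply, smul_mul_assoc, mul_smul_comm, neg_mul, mul_neg, smul_neg, neg_neg,
    smul_add, one_mul, mul_one, smul_smul, add_mul]
  module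

theorem gens_qip_even : ([gen1, gen2, gen3].all fun v => [gen1, gen2, gen3].all fun w =>
    eighth (qipRaw v w)) = true := by decide +kernel

theorem half_qip_gen {v w : Vec} (hv : v ∈ [gen1, gen2, gen3]) (hw : w ∈ [gen1, gen2, gen3]) :
    (1 / 2 : ℝ) • Spor.qip (toV v) (toV w) ∈ Spor.icosians := by
  obtain ⟨a, ha, e⟩ := eighth_iff.mp
    (List.all_eq_true.mp (List.all_eq_true.mp gens_qip_even v hv) w hw)
  have h := congrArg toQ e
  rw [toQ_qipRaw, toQ_scale, show ((8 : ℤ) : ℝ) = 4 * 2 by norm_num, mul_smul] at h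
  rw [smul_right_injective ℍ[ℝ] (by norm_num : (4 : ℝ) ≠ 0) h, smul_smul]
  norm_num
  exact toQ_mem ha

theorem star_mem_icosians {a : ℍ[ℝ]} (ha : a ∈ Spor.icosians) : star a ∈ Spor.icosians := by
  obtain ⟨b, hb, rfl⟩ := mem_icosians_iff.mp ha
  rw [← toQ_conj]
  exact toQ_mem (inI_conj hb)

theorem half_qip_mem {x r : QV} (hx : x ∈ Spor.icoLeech) (hr : r ∈ Spor.icoLeech) :
    (1 / 2 : ℝ) • Spor.qip x r ∈ Spor.icosians := by
  have key : ∀ v ∈ [gen1, gen2, gen3],
      (1 / 2 : ℝ) • Spor.qip (toV v) r ∈ Spor.icosians := by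
    intro v hv
    obtain ⟨a, ha, b, hb, c, hc, e⟩ := exists_combination hr
    have e' : r = ((fun t => a * toV gen1 t) + fun t => b * toV gen2 t) + fun t => c * toV gen3 t :=
      funext e
    rw [e']
    simp only [qip_add_right, qip_smul_right, smul_add, ← smul_mul_assoc]
    exact add_mem (add_mem (mul_mem (half_qip_gen hv (by simp)) (star_mem_icosians ha))
      (mul_mem (half_qip_gen hv (by simp)) (star_mem_icosians hb)))
      (mul_mem (half_qip_gen hv (by simp)) (star_mem_icosians hc))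
  obtain ⟨a, ha, b, hb, c, hc, e⟩ := exists_combination hx
  have e' : x = ((fun t => a * toV gen1 t) + fun t => b * toV gen2 t) + fun t => c * toV gen3 t :=
    funext e
  rw [e']
  simp only [qip_add_left, qip_smul_left, smul_add, ← mul_smul_comm]
  exact add_mem (add_mem (mul_mem ha (key _ (by simp))) (mul_mem hb (key _ (by simp))))
    (mul_mem hc (key _ (by simp)))

theorem qrefl_mem {r x : QV} (hr : r ∈ Spor.icoLeech) (hx : x ∈ Spor.icoLeech) :
    Spor.qrefl r x ∈ Spor.icoLeech := by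
  rw [qrefl_eq]
  exact icoLeech_add hx (icoLeech_smul (neg_mem (half_qip_mem hx hr)) hr)

/-- The minimal vectors. -/
abbrev MinVec := {r : Spor.icoLeech // Spor.qip (r : QV) r = 4}

/-- The reflection in a minimal vector. -/
noncomputable def refl (r : MinVec) : Equiv.Perm Spor.icoLeech where
  toFun x := ⟨Spor.qrefl (r.1 : QV) x, qrefl_mem r.1.2 x.2⟩
  invFun x := ⟨Spor.qrefl (r.1 : QV) x, qrefl_mem r.1.2 x.2⟩
  left_inv x := Subtype.ext (qrefl_qrefl r.2 x)
  right_inv x := Subtype.ext (qrefl_qrefl r.2 x)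

theorem refl_apply (r : MinVec) (x : Spor.icoLeech) :
    ((refl r x : Spor.icoLeech) : QV) = Spor.qrefl (r.1 : QV) x := rfl

theorem refl_mul_self (r : MinVec) : refl r * refl r = 1 :=
  Equiv.ext fun x => Subtype.ext (qrefl_qrefl r.2 x)

theorem refl_inv (r : MinVec) : (refl r)⁻¹ = refl r :=
  inv_eq_of_mul_eq_one_left (refl_mul_self r)

theorem isIcoReflection_iff {f : Equiv.Perm Spor.icoLeech} :
    Spor.IsIcoReflection f ↔ ∃ r, f = refl r :=
  ⟨fun ⟨r, hr, h⟩ => ⟨⟨r, hr⟩, Equiv.ext fun x => Subtype.ext (h x)⟩,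
    fun ⟨r, h⟩ => ⟨r.1, r.2, fun x => h ▸ refl_apply r x⟩⟩

theorem refl_mem_twoJ2 (r : MinVec) : refl r ∈ Spor.twoJ2 :=
  Subgroup.subset_closure (isIcoReflection_iff.mpr ⟨r, rfl⟩)

/-- A left-linear isometry of the lattice. -/
structure IsIso (f : Equiv.Perm Spor.icoLeech) : Prop where
  comb : ∀ (x y z : Spor.icoLeech) (a : ℍ[ℝ]), a ∈ Spor.icosians →
    (z : QV) = (fun t => a * (x : QV) t) + (y : QV) →
    ((f z : Spor.icoLeech) : QV) = (fun t => a * (f x : QV) t) + (f y : QV)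
  qip_eq : ∀ x y : Spor.icoLeech, Spor.qip (f x : QV) (f y) = Spor.qip (x : QV) y

theorem isIso_refl (r : MinVec) : IsIso (refl r) :=
  ⟨fun _ _ _ _ _ h => qrefl_comb h, fun x y => qip_qrefl r.2 x y⟩

theorem IsIso.one' : IsIso 1 := ⟨fun _ _ _ _ _ h => h, fun _ _ => rfl⟩

theorem IsIso.mul' {f g : Equiv.Perm Spor.icoLeech} (hf : IsIso f) (hg : IsIso g) :
    IsIso (f * g) :=
  ⟨fun x y z a ha h => hf.comb _ _ _ a ha (hg.comb x y z a ha h),
    fun x y => (hf.qip_eq _ _).trans (hg.qip_eq x y)⟩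

theorem IsIso.inv' {f : Equiv.Perm Spor.icoLeech} (hf : IsIso f) : IsIso f⁻¹ := by
  refine ⟨fun x y z a ha h => ?_, fun x y => ?_⟩
  · let w : Spor.icoLeech := ⟨(fun t => a * (f⁻¹ x : QV) t) + (f⁻¹ y : QV),
      icoLeech_add (icoLeech_smul ha (f⁻¹ x).2) (f⁻¹ y).2⟩
    have h1 := hf.comb (f⁻¹ x) (f⁻¹ y) w a ha rfl
    simp only [Equiv.Perm.coe_inv, Equiv.apply_symm_apply] at h1
    have h2 : f w = z := Subtype.ext (h1.trans h.symm)
    rw [← h2]
    simp [w]
  · have h1 := hf.qip_eq (f⁻¹ x) (f⁻¹ y)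
    simpa using h1.symm

theorem isIso_of_mem {g : Equiv.Perm Spor.icoLeech} (hg : g ∈ Spor.twoJ2) : IsIso g := by
  unfold Spor.twoJ2 at hg
  induction hg using Subgroup.closure_induction with
  | mem f hf =>
    obtain ⟨r, rfl⟩ := isIcoReflection_iff.mp hf
    exact isIso_refl r
  | one => exact IsIso.one'
  | mul f g _ _ hf hg => exact hf.mul' hg
  | inv f _ hf => exact hf.inv'

/-- The image of a minimal vector. -/
noncomputable def moveVec {g : Equiv.Perm Spor.icoLeech} (hg : IsIso g) (r : MinVec) : MinVec :=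
  ⟨g r.1, (hg.qip_eq r.1 r.1).trans r.2⟩

theorem conj_refl {g : Equiv.Perm Spor.icoLeech} (hg : IsIso g) (r : MinVec) :
    g * refl r * g⁻¹ = refl (moveVec hg r) := by
  refine Equiv.ext fun y => Subtype.ext ?_
  obtain ⟨x, rfl⟩ := g.surjective y
  simp only [Equiv.Perm.mul_apply, Equiv.Perm.coe_inv, Equiv.symm_apply_apply, refl_apply]
  rw [qrefl_eq, add_comm, show Spor.qip (g x : QV) ((moveVec hg r).1 : QV) = Spor.qip (x : QV) r.1
    from hg.qip_eq x r.1]
  refine hg.comb r.1 x _ _ (neg_mem (half_qip_mem x.2 r.1.2)) ?_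
  rw [refl_apply, qrefl_eq, add_comm]

theorem refl_eq_of_smul {r s : MinVec} {u : ℍ[ℝ]} (hu : star u * u = 1)
    (h : (r.1 : QV) = fun t => u * (s.1 : QV) t) : refl r = refl s := by
  refine Equiv.ext fun x => Subtype.ext ?_
  rw [refl_apply, refl_apply]
  funext t
  simp only [Spor.qrefl, h, qip_smul_right, smul_mul_assoc, mul_assoc]
  rw [← mul_assoc (star u), hu, one_mul]

end Cfsg.Lib.J2
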