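import Cfsg.Agent.Lib.J2.Group
import Cfsg.Agent.Lib.J2.OrderA
import Cfsg.Agent.Lib.J2.OrderB
import Cfsg.Agent.Lib.J2.OrderC
import Cfsg.Agent.Lib.J2.OrderD
import Cfsg.Agent.Lib.J2.OrderE
import Cfsg.Agent.Lib.J2.OrderF

/-!
# The element orders of the Hall–Janko group
-/

set_option autoImplicit false
set_option linter.unusedSimpArgs false

namespace Cfsg.Lib.J2

/-- The suborbit representative as a position. -/
def dRep (d : Fin 6) : Fin 315 := ⟨tget 0 dRepTab d, nat_blt (all_range dRep_lt d.2)⟩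

theorem hEl_inv_zero (q : Fin 160 × Fin 12) : ((hEl q)⁻¹ : PGrp).1 0 = 0 := by
  rw [Subgroup.coe_inv, Equiv.Perm.inv_eq_iff_eq, hEl_fix_zero]

theorem exists_conj_form (f : PGrp) :
    ∃ (u : PGrp) (d : Fin 6) (q : Fin 160 × Fin 12), u⁻¹ * f * u = nfEl (dRep d, q) := by
  have h := all_range dc_ok ((f : Equiv.Perm (Fin 315)) 0).2
  unfold dcOK at h
  generalize tget 0 dcTab ((f : Equiv.Perm (Fin 315)) 0 : ℕ) = c at h
  obtain ⟨hc', he⟩ := Bool.and_eq_true_iff.mp h
  have hc := nat_blt hc'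
  let d : Fin 6 := ⟨Nat.div c 1920, Nat.div_lt_of_lt_mul (by omega)⟩
  let u : Fin 160 × Fin 12 :=
    (⟨Nat.mod (Nat.div c 12) 160, Nat.mod_lt _ (by norm_num)⟩, ⟨Nat.mod c 12, Nat.mod_lt _ (by norm_num)⟩)
  have hu : (hEl u : Equiv.Perm (Fin 315)) (pt (dRep d)) = (f : Equiv.Perm (Fin 315)) 0 := by
    apply Fin.ext
    rw [hEl_apply]
    exact (nat_beq he).symm
  obtain ⟨⟨m, q⟩, hq⟩ := exists_nfEl ((hEl u)⁻¹ * f * hEl u)
  have h0 : ((hEl u)⁻¹ * f * hEl u : PGrp).1 0 = pt (dRep d) := by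
    rw [Subgroup.coe_mul, Subgroup.coe_mul, Equiv.Perm.mul_apply, Equiv.Perm.mul_apply,
      hEl_fix_zero, Subgroup.coe_inv, Equiv.Perm.inv_eq_iff_eq, hu]
  rw [hq, nfEl_zero] at h0
  obtain rfl := pt_injective h0
  exact ⟨hEl u, d, q, hq⟩

theorem pow_walk (p : Fin 315 × Fin 160 × Fin 12) : ∀ (o : ℕ) (x : Fin 315),
    (((nfEl p : PGrp) ^ o : PGrp).1 x : ℕ) =
      walk (tP p.1) (vP p.2.1) (wP p.2.2) o x := by
  intro o
  induction o with
  | zero => intro x; simp [walk]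
  | succ o ih =>
    intro x
    rw [pow_succ, Subgroup.coe_mul, Equiv.Perm.mul_apply, ih, nfEl_apply]
    rfl

theorem pow_eq_one_of_ordOK {tab : List (List ℕ)} (d : Fin 6) (q : Fin 160 × Fin 12)
    (h : (List.range 1920).all (ordOK tab d) = true) :
    ∃ o ∈ ordList, (nfEl (dRep d, q) : PGrp) ^ o = 1 := by
  have h1 := all_range h (show 12 * (q.1 : ℕ) + q.2 < 1920 by omega)
  unfold ordOK at h1
  generalize tget 0 tab (12 * (q.1 : ℕ) + q.2) = o at h1
  obtain ⟨h2, h3⟩ := Bool.and_eq_true_iff.mp h1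
  refine ⟨o, List.contains_iff_mem.mp h2, eq_of_base fun g => Fin.ext ?_⟩
  rw [pow_walk]
  have h4 := nat_beq (all_range h3 g.2)
  rw [show Nat.div (12 * (q.1 : ℕ) + q.2) 12 = q.1 by
      show (12 * (q.1 : ℕ) + q.2) / 12 = q.1; omega,
    show Nat.mod (12 * (q.1 : ℕ) + q.2) 12 = q.2 by
      show (12 * (q.1 : ℕ) + q.2) % 12 = q.2; omega] at h4
  exact h4

theorem exists_pow_rep (d : Fin 6) (q : Fin 160 × Fin 12) :
    ∃ o ∈ ordList, (nfEl (dRep d, q) : PGrp) ^ o = 1 := by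
  fin_cases d
  · exact pow_eq_one_of_ordOK 0 q orders_sub0
  · exact pow_eq_one_of_ordOK 1 q orders_sub1
  · exact pow_eq_one_of_ordOK 2 q orders_sub2
  · exact pow_eq_one_of_ordOK 3 q orders_sub3
  · exact pow_eq_one_of_ordOK 4 q orders_sub4
  · exact pow_eq_one_of_ordOK 5 q orders_sub5

theorem orderOf_mem_ordList (f : PGrp) : orderOf f ∈ ordList := by
  obtain ⟨u, d, q, h⟩ := exists_conj_form f
  obtain ⟨o, ho, ho'⟩ := exists_pow_rep d q
  have hf : f ^ o = 1 := by
    have e : f = u * nfEl (dRep d, q) * u⁻¹ := by rw [← h]; group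
    rw [e, conj_pow, ho', mul_one, mul_inv_cancel]
  have hd := Nat.mem_divisors.mpr ⟨orderOf_dvd_of_pow_eq_one hf, by
    intro h0; subst h0; exact absurd ho (by decide)⟩
  revert hd
  generalize orderOf f = k
  revert k
  fin_cases ho <;> decide

/-- The example has exact order. -/
def exOK (e : ℕ × ℕ) : Bool :=
  let T := tP (tget 0 dRepTab (Nat.mod (Nat.div e.2 1920) 6))
  let V := vP (Nat.mod (Nat.div e.2 12) 160)
  let W := wP (Nat.mod e.2 12)
  ((List.range 4).all fun t => Nat.beq (walk T V W e.1 (genLine t)) (genLine t)) &&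
    (List.range e.1).all fun m => Nat.beq m 0 ||
      !((List.range 4).all fun t => Nat.beq (walk T V W m (genLine t)) (genLine t))

theorem examples_ok : (exTab.all exOK && ordList.all fun n => exTab.any fun e => Nat.beq e.1 n) = true := by
  decide +kernel

theorem exists_orderOf_of_mem {n : ℕ} (hn : n ∈ ordList) : ∃ f : PGrp, orderOf f = n := by
  obtain ⟨hE, hL⟩ := Bool.and_eq_true_iff.mp examples_ok
  obtain ⟨⟨k, c⟩, he, he'⟩ := List.any_eq_true.mp (List.all_eq_true.mp hL n hn)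
  obtain rfl : k = n := nat_beq he'
  have h := List.all_eq_true.mp hE _ he
  unfold exOK at h
  obtain ⟨h1, h2⟩ := Bool.and_eq_true_iff.mp h
  let d : Fin 6 := ⟨Nat.mod (Nat.div c 1920) 6, Nat.mod_lt _ (by norm_num)⟩
  let q : Fin 160 × Fin 12 :=
    (⟨Nat.mod (Nat.div c 12) 160, Nat.mod_lt _ (by norm_num)⟩, ⟨Nat.mod c 12, Nat.mod_lt _ (by norm_num)⟩)
  have key : ∀ m, (nfEl (dRep d, q) : PGrp) ^ m = 1 ↔ (List.range 4).all (fun t =>
      Nat.beq (walk (tP (dRep d)) (vP q.1) (wP q.2) m (genLine t)) (genLine t)) = true := by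
    intro m
    constructor
    · intro hm
      refine List.all_eq_true.mpr fun t ht => ?_
      have := pow_walk (dRep d, q) m (genIdx ⟨t, List.mem_range.mp ht⟩)
      rw [hm] at this
      change genLine t = walk (tP (dRep d)) (vP q.1) (wP q.2) m (genLine t) at this
      rw [← this]
      exact Nat.beq_refl _
    · intro hm
      exact eq_of_base fun g => Fin.ext (by rw [pow_walk]; exact nat_beq (all_range hm g.2))
  have hk : 0 < k := Nat.pos_of_ne_zero fun h0 => by subst h0; exact absurd hn (by decide)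
  refine ⟨nfEl (dRep d, q), (orderOf_eq_iff hk).mpr ⟨(key k).mpr h1, fun m hm hm0 hc => ?_⟩⟩
  have h3 := all_range h2 hm
  rw [Bool.or_eq_true, Bool.not_eq_true'] at h3
  rcases h3 with h3 | h3
  · exact absurd (nat_beq h3) (by omega)
  · exact absurd ((key m).mp hc) (by rw [Bool.not_eq_true]; exact h3)

/-- The spectrum of the Hall–Janko group. -/
theorem range_orderOf_J2 : Set.range (orderOf : Spor.J2 → ℕ) = {n | n ∈ ordList} := by
  ext n
  constructor
  · rintro ⟨g, rfl⟩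
    show orderOf g ∈ ordList
    rw [← MulEquiv.orderOf_eq j2Equiv g]
    exact orderOf_mem_ordList _
  · intro hn
    obtain ⟨f, rfl⟩ := exists_orderOf_of_mem hn
    exact ⟨j2Equiv.symm f, MulEquiv.orderOf_eq j2Equiv.symm f⟩

end Cfsg.Lib.J2
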